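-- Morphisms between modules with bases of sections
import Groth.Agent.H28Pinch.FreeBasis
import Mathlib.LinearAlgebra.Matrix.NonsingularInverse

/-!
# Morphisms carrying bases to bases, and changes of bases
-/

set_option autoImplicit false
set_option linter.style.haveILetI false

universe u

open AlgebraicGeometry CategoryTheory Limits TopologicalSpace Opposite

namespace Groth.Agent.H28Pinch

variable {X : Scheme.{u}} {F G : X.Modules} {U : X.Opens} {r : ℕ} {m : Fin r → Γ(F, U)}

theorem IsBasisOn.mono (hm : IsBasisOn F m) {U' : X.Opens} (h : U' ≤ U) :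
    IsBasisOn F (fun j => F.presheaf.map (homOfLE h).op (m j)) := by
  intro V hV
  have e : comb F (fun j => F.presheaf.map (homOfLE h).op (m j)) hV = comb F m (hV.trans h) :=
    funext fun c => Finset.sum_congr rfl fun j _ => congrArg _ (H10Coh.mres_mres F h hV (m j))
  rw [e]
  exact hm V _

theorem app_comb (a : F ⟶ G) {V : X.Opens} (h : V ≤ U) (c : Fin r → Γ(X, V)) :
    a.app V (comb F m h c) = comb G (fun j => a.app U (m j)) h c := by
  rw [comb, comb, map_sum]
  refine Finset.sum_congr rfl fun j _ => ?_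
  rw [Scheme.Modules.Hom.app_smul, H11Tilde.app_map_apply]

/-- A morphism which is bijective on sections over small opens is an isomorphism. -/
theorem isIso_of_locally_bijective (a : F ⟶ G)
    (H : ∀ x : X, ∃ O : X.Opens, x ∈ O ∧ ∀ V : X.Opens, V ≤ O → Function.Bijective (a.app V)) :
    IsIso a := by
  choose O hxO hO using H
  have key : ∀ V : X.Opens, Function.Bijective (a.app V) := by
    intro V
    have hcov : V ≤ iSup fun x : V => O x.1 ⊓ V := fun x hx =>
      Opens.mem_iSup.2 ⟨⟨x, hx⟩, hxO x, hx⟩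
    have inj : ∀ (W : X.Opens), Function.Injective (a.app W) := by
      intro W s s' e
      refine TopCat.Sheaf.eq_of_locally_eq' (H10Coh.sheafOf F) (fun x : W => O x.1 ⊓ W) W
        (fun x => homOfLE inf_le_right)
        (fun x hx => Opens.mem_iSup.2 ⟨⟨x, hx⟩, hxO x, hx⟩) s s' fun x => ?_
      apply (hO x.1 _ (inf_le_left : O x.1 ⊓ W ≤ O x.1)).1
      show a.app _ (F.presheaf.map (homOfLE inf_le_right).op s) =
        a.app _ (F.presheaf.map (homOfLE inf_le_right).op s')
      rw [H11Tilde.app_map_apply, H11Tilde.app_map_apply, e]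
    refine ⟨inj V, fun t => ?_⟩
    choose s hs using fun x : V => (hO x.1 (O x.1 ⊓ V) inf_le_left).2
      (G.presheaf.map (homOfLE inf_le_right).op t)
    obtain ⟨s₀, hs₀, -⟩ := (H10Coh.sheafOf F).existsUnique_gluing' (fun x : V => O x.1 ⊓ V) V
      (fun x => homOfLE inf_le_right) hcov s fun x y => by
        apply inj
        show a.app _ (F.presheaf.map (homOfLE inf_le_left).op (s x)) =
          a.app _ (F.presheaf.map (homOfLE inf_le_right).op (s y))
        rw [H11Tilde.app_map_apply, H11Tilde.app_map_apply, hs, hs, H10Coh.mres_mres,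
          H10Coh.mres_mres]
    let s' : Γ(F, V) := s₀
    have hs' : ∀ x, F.presheaf.map (homOfLE (inf_le_right : O x.1 ⊓ V ≤ V)).op s' = s x := hs₀
    refine ⟨s', TopCat.Sheaf.eq_of_locally_eq' (H10Coh.sheafOf G) (fun x : V => O x.1 ⊓ V) V
      (fun x => homOfLE inf_le_right) hcov _ _ fun x => ?_⟩
    show G.presheaf.map (homOfLE inf_le_right).op (a.app V s') =
      G.presheaf.map (homOfLE inf_le_right).op t
    rw [← H11Tilde.app_map_apply a (inf_le_right : O x.1 ⊓ V ≤ V), hs', hs]
  refine Scheme.Modules.Hom.isIso_iff_isIso_app.2 fun V => ?_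
  exact (ConcreteCategory.isIso_iff_bijective (a.app V)).2 (key V)

/-- A morphism taking bases to bases is an isomorphism. -/
theorem isIso_of_bases (a : F ⟶ G)
    (H : ∀ x : X, ∃ (U : X.Opens) (r : ℕ) (m : Fin r → Γ(F, U)), x ∈ U ∧ IsBasisOn F m ∧
      IsBasisOn G (fun j => a.app U (m j))) : IsIso a := by
  refine isIso_of_locally_bijective a fun x => ?_
  obtain ⟨U, r, m, hxU, hm, hm'⟩ := H x
  refine ⟨U, hxU, fun V hV => ?_⟩
  have e : a.app V ∘ comb F m hV = comb G (fun j => a.app U (m j)) hV :=
    funext fun c => app_comb a hV c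
  exact (Function.Bijective.of_comp_iff _ (hm V hV)).1 (e ▸ hm' V hV)

/-- A basis of sections trivialises a module. -/
theorem nonempty_chart_of_isBasisOn (hm : IsBasisOn F m) :
    Nonempty (F.restrict U.ι ≅ FlatMod.freeMod (↑U) r) := by
  have hle : U.ι ''ᵁ ⊤ ≤ U := le_of_eq (by rw [Scheme.Hom.image_top_eq_opensRange,
    Scheme.Opens.opensRange_ι])
  let s : Fin r → Γ(F.restrict U.ι, ⊤) := fun j =>
    (F.restrictAppIso U.ι ⊤).inv (F.presheaf.map (homOfLE hle).op (m j))
  let a := H29Fitt.freeHom (F.restrict U.ι) s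
  suffices IsIso a from ⟨(asIso a).symm⟩
  refine isIso_of_bases a fun x => ⟨⊤, r, fun j => H29Fitt.gen (↑U) r j ⊤, trivial, ?_, ?_⟩
  · intro W hW
    have e : comb (FlatMod.freeMod (↑U) r) (fun j => H29Fitt.gen (↑U) r j ⊤) hW =
        fun c => ∑ j, c j • H29Fitt.gen (↑U) r j W :=
      funext fun c => Finset.sum_congr rfl fun j _ => congrArg _ (H29Fitt.res_gen r j hW)
    rw [e]
    refine ⟨fun c c' h => sub_eq_zero.1 (H29Fitt.gen_independent r W (c - c') ?_), fun z =>
      H29Fitt.exists_eq_sum_gen r W z⟩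
    simp only [Pi.sub_apply, sub_smul, Finset.sum_sub_distrib, sub_eq_zero]
    exact h
  · intro W hW
    have hWU : U.ι ''ᵁ W ≤ U := (U.ι.image_mono le_top).trans hle
    let E := fun z : Γ(F.restrict U.ι, W) => (F.restrictAppIso U.ι W).hom z
    have hE : Function.Bijective E := ConcreteCategory.bijective_of_isIso _
    have hEs : ∀ (c : Γ(↑U, W)) z, E (c • z) = (U.ι.appIso W).inv c • E z := fun _ _ => rfl
    have e : E ∘ comb (F.restrict U.ι) (fun j => a.app ⊤ (H29Fitt.gen (↑U) r j ⊤)) hW =
        comb F m hWU ∘ fun c j => (U.ι.appIso W).inv (c j) := by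
      funext c
      show (F.restrictAppIso U.ι W).hom.hom _ = _
      rw [comb, map_sum]
      refine Finset.sum_congr rfl fun j _ => ?_
      refine (hEs _ _).trans (congrArg _ ?_)
      rw [H29Fitt.freeHom_gen, H10Coh.mres_mres]
      show F.presheaf.map _ (F.presheaf.map _ (m j)) = _
      exact (ConcreteCategory.comp_apply _ _ _).symm.trans (by rw [← Functor.map_comp]; rfl)
    have hc : Function.Bijective fun (c : Fin r → Γ(↑U, W)) j => (U.ι.appIso W).inv (c j) :=
      ⟨fun c c' h => funext fun j =>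
        (ConcreteCategory.bijective_of_isIso (U.ι.appIso W).inv).1 (congrFun h j),
      fun d => ⟨fun j => ((ConcreteCategory.bijective_of_isIso (U.ι.appIso W).inv).2 (d j)).choose,
        funext fun j =>
          ((ConcreteCategory.bijective_of_isIso (U.ι.appIso W).inv).2 (d j)).choose_spec⟩⟩
    exact (Function.Bijective.of_comp_iff' hE _).1 (e ▸ (hm _ hWU).comp hc)

/-- An invertible matrix carries a basis to a basis. -/
theorem IsBasisOn.of_matrix (hm : IsBasisOn F m) {f : Fin r → Γ(F, U)}
    (M : Matrix (Fin r) (Fin r) Γ(X, U))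
    (hf : ∀ j, f j = ∑ k, M j k • m k) (hM : IsUnit M.det) : IsBasisOn F f := by
  intro V hV
  let M' : Matrix (Fin r) (Fin r) Γ(X, V) := M.map (X.presheaf.map (homOfLE hV).op)
  have hM' : IsUnit M' := by
    rw [Matrix.isUnit_iff_isUnit_det]
    have := hM.map (X.presheaf.map (homOfLE hV).op).hom
    rw [RingHom.map_det] at this
    exact this
  have e : comb F f hV = comb F m hV ∘ fun c => Matrix.vecMul c M' := by
    funext c
    show ∑ j, c j • F.presheaf.map _ (f j) = ∑ k, (∑ j, c j * M' j k) • F.presheaf.map _ (m k)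
    simp only [Finset.sum_smul, hf, map_sum, Scheme.Modules.map_smul, Finset.smul_sum, mul_smul]
    rw [Finset.sum_comm]
    rfl
  rw [e]
  exact (hm V hV).comp ⟨Matrix.vecMul_injective_of_isUnit hM',
    Matrix.vecMul_surjective_iff_isUnit.2 hM'⟩

/-- The matrix expressing a basis in terms of any family is invertible. -/
theorem isUnit_det_of_isBasisOn {f : Fin r → Γ(F, U)} (hf' : IsBasisOn F f)
    (M : Matrix (Fin r) (Fin r) Γ(X, U)) (hf : ∀ j, f j = ∑ k, M j k • m k) :
    IsUnit M.det := by
  have res : ∀ {F' : X.Modules} (n : Fin r → Γ(F', U)) (c : Fin r → Γ(X, U)),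
      comb F' n le_rfl c = ∑ k, c k • n k := fun n c =>
    Finset.sum_congr rfl fun j _ => by rw [H10Coh.mres_self]
  choose K hK using fun k => (hf' U le_rfl).2 (m k)
  have h1 : ∀ j, comb F f le_rfl (fun i => ∑ k, M j k * K k i) =
      comb F f le_rfl (fun i => if i = j then 1 else 0) := fun j => by
    rw [res, res]
    simp only [ite_smul, one_smul, zero_smul, Finset.sum_ite_eq', Finset.mem_univ, if_true,
      Finset.sum_smul, mul_smul]
    rw [Finset.sum_comm, hf j]
    refine Finset.sum_congr rfl fun k _ => ?_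
    rw [← Finset.smul_sum, ← res, hK]
  have h2 : M * Matrix.of K = 1 := by
    ext j i
    rw [Matrix.mul_apply]
    refine (congrFun ((hf' U le_rfl).1 (h1 j)) i).trans ?_
    rw [Matrix.one_apply]
    simp [eq_comm]
  exact IsUnit.of_mul_eq_one _ (by rw [← Matrix.det_mul, h2, Matrix.det_one])

end Groth.Agent.H28Pinch
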