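import Groth.Agent.H7Flat.PushoutCartesian
import Mathlib.RingTheory.Adjoin.Tower
import Mathlib.RingTheory.FiniteType
import Mathlib.AlgebraicGeometry.Noetherian
import Mathlib.AlgebraicGeometry.Morphisms.Finite
import Mathlib.AlgebraicGeometry.Morphisms.Proper

/-!
# Finiteness and properness of pinchings
-/

set_option autoImplicit false
set_option linter.style.haveILetI false

universe u

open CategoryTheory AlgebraicGeometry Limits TopologicalSpace Opposite

namespace Groth.Agent.H28Pinch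

open H7Flat

variable {X Y T Z : Scheme.{u}}

/-- The affine-local hypothesis provides adapted pairs around every point of `T`. -/
theorem exists_AP (f : X ⟶ Y) (t : T ⟶ Y) (ξ : Z ⟶ T) (ι : Z ⟶ X) [IsAffineHom t]
    (hsq : ι ≫ f = ξ ≫ t)
    (hstd : ∀ y : Y, ∃ U : Y.Opens, IsAffineOpen U ∧ y ∈ U ∧ ∃ V : X.Opens, IsAffineOpen V ∧
      V ≤ f ⁻¹ᵁ U ∧ ∀ z : Z, (ξ ≫ t).base z ∈ U → ι.base z ∈ V) (τ : T) :
    ∃ (π : AP ι ξ) (W : Y.Opens), IsAffineOpen W ∧ τ ∈ π.V ∧ π.U ≤ f ⁻¹ᵁ W ∧ π.V ≤ t ⁻¹ᵁ W := by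
  obtain ⟨U, hU, hτU, V, hV, hVle, hZ⟩ := hstd (t τ)
  refine ⟨⟨V, t ⁻¹ᵁ U, hV, hU.preimage t, ?_⟩, U, hU, hτU, hVle, le_rfl⟩
  ext z
  refine ⟨fun hz => ?_, fun hz => hZ z hz⟩
  have h1 : (ι ≫ f) z ∈ U := hVle hz
  rw [hsq] at h1
  exact h1

theorem fg_of_finite {S R A B : Type u} [CommRing S] [IsNoetherianRing S] [CommRing R] [CommRing A]
    [CommRing B] (φ : S →+* R) (pa : R →+* A) (pb : R →+* B)
    (hinj : ∀ z z', pa z = pa z' → pb z = pb z' → z = z')
    (ha : (pa.comp φ).FiniteType) (hb : (pb.comp φ).FiniteType)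
    (hfa : pa.Finite) (hfb : pb.Finite) : φ.FiniteType := by
  algebraize [φ, pa, pb, pa.comp φ, pb.comp φ]
  have hinj' : Function.Injective (algebraMap R (A × B)) := fun z z' h =>
    hinj z z' (congrArg Prod.fst h) (congrArg Prod.snd h)
  haveI : IsScalarTower S R (A × B) := IsScalarTower.of_algebraMap_eq fun s => rfl
  haveI : Module.Finite R (A × B) := Module.Finite.prod
  exact ⟨fg_of_fg_of_fg S R (A × B) Algebra.FiniteType.out Module.Finite.fg_top hinj'⟩

variable {ι : Z ⟶ X} {ξ : Z ⟶ T} [IsClosedImmersion ι]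
variable (hcov : ∀ τ : T, ∃ π : AP ι ξ, τ ∈ π.V)
include hcov

theorem inX_isFinite [IsIntegralHom ξ] {S : Scheme.{u}} (p : glued ι ξ ⟶ S)
    [LocallyOfFiniteType (inX hcov ≫ p)] : IsFinite (inX hcov) := by
  haveI := inX_isIntegralHom hcov
  haveI := locallyOfFiniteType_of_comp (inX hcov) p
  exact (IsFinite.iff_isIntegralHom_and_locallyOfFiniteType _).mpr ⟨inferInstance, inferInstance⟩

theorem exists_preimage (r : glued ι ξ) :
    (∃ x, inX hcov x = r) ∨ ∃ τ, inY hcov τ = r := by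
  obtain ⟨π, s, rfl⟩ := chart_jointly_surjective ι ξ r
  obtain ⟨β, hβ⟩ | ⟨α, hα, -⟩ := π.ringSq.exists_preimage s
  · refine Or.inr ⟨π.hV.fromSpec β, ?_⟩
    rw [← hβ]
    exact congrArg (fun m : Spec _ ⟶ glued ι ξ => m β) (fromSpec_inY hcov π)
  · refine Or.inl ⟨π.hU.fromSpec α, ?_⟩
    rw [← hα]
    exact congrArg (fun m : Spec _ ⟶ glued ι ξ => m α) (fromSpec_inX hcov π)

variable (f : X ⟶ Y) (t : T ⟶ Y) (p : glued ι ξ ⟶ Y) (hap : inX hcov ≫ p = f)
  (hbp : inY hcov ≫ p = t)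
include hap hbp

/-- Over an affine open of the base the restriction of the structure map is given by rings. -/
theorem chart_over (π : AP ι ξ) {W : Y.Opens} (hW : IsAffineOpen W)
    (hU : π.U ≤ f ⁻¹ᵁ W) (hV : π.V ≤ t ⁻¹ᵁ W) :
    ∃ φ : Γ(Y, W) →+* π.R, π.pa.comp φ = (f.appLE W π.U hU).hom ∧
      π.pb.comp φ = (t.appLE W π.V hV).hom ∧ chart ι ξ π ≫ p = sm φ ≫ hW.fromSpec := by
  have hw : ι ≫ f = ξ ≫ t := by
    rw [← hap, ← hbp, ← Category.assoc, ← Category.assoc, inX_comm hcov]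
  let φ₀ := RingHom.prod (f.appLE W π.U hU).hom (t.appLE W π.V hV).hom
  have hmem : ∀ s, φ₀ s ∈ π.R := fun s => by
    show π.p ((f.appLE W π.U hU).hom s) = π.q ((t.appLE W π.V hV).hom s)
    rw [AP.p, AP.q, ← CommRingCat.comp_apply, ← CommRingCat.comp_apply,
      Scheme.Hom.appLE_comp_appLE, Scheme.Hom.appLE_comp_appLE]
    congr! 3
  refine ⟨φ₀.codRestrict _ hmem, rfl, rfl, π.ringSq.hom_ext ?_ ?_⟩
  · rw [← Category.assoc, ← fromSpec_inX hcov, Category.assoc, hap, ← Category.assoc, ← sm_comp,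
      show sm (π.pa.comp (φ₀.codRestrict _ hmem)) = Spec.map (f.appLE W π.U hU) from rfl,
      hW.SpecMap_appLE_fromSpec f π.hU hU]
  · rw [← Category.assoc, ← fromSpec_inY hcov, Category.assoc, hbp, ← Category.assoc, ← sm_comp,
      show sm (π.pb.comp (φ₀.codRestrict _ hmem)) = Spec.map (t.appLE W π.V hV) from rfl,
      hW.SpecMap_appLE_fromSpec t π.hV hV]

theorem glued_locallyOfFiniteType [IsAffineHom t] [IsLocallyNoetherian Y] [LocallyOfFiniteType f]
    [LocallyOfFiniteType t] [IsIntegralHom ξ]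
    (hstd : ∀ y : Y, ∃ U : Y.Opens, IsAffineOpen U ∧ y ∈ U ∧ ∃ V : X.Opens, IsAffineOpen V ∧
      V ≤ f ⁻¹ᵁ U ∧ ∀ z : Z, (ξ ≫ t).base z ∈ U → ι.base z ∈ V) :
    LocallyOfFiniteType p := by
  haveI : LocallyOfFiniteType (inX hcov ≫ p) := hap ▸ inferInstance
  haveI := inX_isFinite hcov p
  have hw : ι ≫ f = ξ ≫ t := by
    rw [← hap, ← hbp, ← Category.assoc, ← Category.assoc, inX_comm hcov]
  let I := {π : AP ι ξ // ∃ W : Y.Opens, IsAffineOpen W ∧ π.U ≤ f ⁻¹ᵁ W ∧ π.V ≤ t ⁻¹ᵁ W}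
  have hT : ∀ τ : T, ∃ π : I, inY hcov τ ∈ (chart ι ξ π.1).opensRange := fun τ => by
    obtain ⟨π, W, hW, hτ, hU, hV⟩ := exists_AP f t ξ ι hw hstd τ
    refine ⟨⟨π, W, hW, hU, hV⟩, ?_⟩
    have h := π.hV.range_fromSpec.ge hτ
    exact (inY_preimage hcov π).ge h
  have hcover : ∀ r : glued ι ξ, ∃ π : I, r ∈ (chart ι ξ π.1).opensRange := by
    intro r
    obtain ⟨x, rfl⟩ | ⟨τ, rfl⟩ := exists_preimage hcov r
    swap
    · exact hT τ
    by_cases hx : x ∈ Set.range ι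
    · obtain ⟨z, rfl⟩ := hx
      rw [← Scheme.Hom.comp_apply, inX_comm hcov]
      exact hT (ξ z)
    obtain ⟨W, hW, hxW, -⟩ :=
      exists_isAffineOpen_mem_and_subset (Set.mem_univ (f x)) (U := (⊤ : Y.Opens))
    let O : X.Opens := f ⁻¹ᵁ W ⊓ ⟨(Set.range ι)ᶜ, ι.isClosedEmbedding.isClosed_range.isOpen_compl⟩
    obtain ⟨V', hV', hxV', hle⟩ :=
      exists_isAffineOpen_mem_and_subset (U := O) (show x ∈ O from ⟨hxW, hx⟩)
    let π : AP ι ξ := ⟨V', ⊥, hV', isAffineOpen_bot _, by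
      ext z
      exact ⟨fun hz => ((hle hz).2 ⟨z, rfl⟩).elim, fun hz => hz.elim⟩⟩
    refine ⟨⟨π, W, hW, fun y hy => (hle hy).1, bot_le⟩, ?_⟩
    exact (inX_preimage hcov π).ge (π.hU.range_fromSpec.ge hxV')
  choose j hj using hcover
  let 𝒰 : (glued ι ξ).OpenCover :=
    { I₀ := I
      X := fun π => Spec (CommRingCat.of π.1.R)
      f := fun π => chart ι ξ π.1
      mem₀ := by
        rw [Scheme.presieve₀_mem_precoverage_iff]
        exact ⟨fun r => ⟨j r, hj r⟩, fun π => inferInstance⟩ }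
  refine IsZariskiLocalAtSource.of_openCover (P := @LocallyOfFiniteType) 𝒰 fun ⟨π, W, hW, hU, hV⟩ => ?_
  obtain ⟨φ, h1, h2, h3⟩ := chart_over hcov f t p hap hbp π hW hU hV
  show LocallyOfFiniteType (chart ι ξ π ≫ p)
  rw [h3]
  haveI : IsNoetherianRing Γ(Y, W) := IsLocallyNoetherian.component_noetherian ⟨W, hW⟩
  have hpa : IsFinite (sm π.pa) :=
    MorphismProperty.of_isPullback (P := @IsFinite)
      (IsOpenImmersion.isPullback (sm π.pa) π.hU.fromSpec (chart ι ξ π) (inX hcov)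
        (fromSpec_inX hcov π) (inX_preimage hcov π)).flip inferInstance
  have hφ : φ.FiniteType := by
    refine fg_of_finite φ π.pa π.pb π.ringSq.ext ?_ ?_ ((IsFinite.SpecMap_iff _).mp hpa)
      (RingHom.Finite.of_surjective _ π.ringSq.snd_surjective)
    · rw [h1]; exact f.finiteType_appLE hW π.hU hU
    · rw [h2]; exact t.finiteType_appLE hW π.hV hV
  haveI : LocallyOfFiniteType (sm φ) :=
    (HasRingHomProperty.Spec_iff (P := @LocallyOfFiniteType)).mpr hφ
  infer_instance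

theorem glued_quasiCompact [QuasiCompact f] [QuasiCompact t] : QuasiCompact p := by
  refine (quasiCompact_iff_forall_isAffineOpen (f := p)).mpr fun W hW => ?_
  have h : ((p ⁻¹ᵁ W : Opens (glued ι ξ)) : Set (glued ι ξ)) =
      inX hcov '' (f ⁻¹ᵁ W) ∪ inY hcov '' (t ⁻¹ᵁ W) := by
    ext r
    constructor
    · intro hr
      obtain ⟨x, rfl⟩ | ⟨τ, rfl⟩ := exists_preimage hcov r
      · exact Or.inl ⟨x, by rw [← hap]; exact hr, rfl⟩
      · exact Or.inr ⟨τ, by rw [← hbp]; exact hr, rfl⟩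
    · rintro (⟨x, hx, rfl⟩ | ⟨τ, hτ, rfl⟩)
      · subst hap; exact hx
      · subst hbp; exact hτ
  rw [h]
  exact ((f.isCompact_preimage hW.isCompact).image (inX hcov).continuous).union
    ((t.isCompact_preimage hW.isCompact).image (inY hcov).continuous)

omit hap hbp hcov

/-- A morphism covered by two universally closed morphisms is universally closed. -/
theorem universallyClosed_of_pair {P : Scheme.{u}} (a : X ⟶ P) (b : T ⟶ P) (g : P ⟶ Y)
    (hjs : ∀ r : P, (∃ x, a x = r) ∨ ∃ τ, b τ = r)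
    [UniversallyClosed (a ≫ g)] [UniversallyClosed (b ≫ g)] : UniversallyClosed g := by
  constructor
  intro P' Y' i₁ i₂ g' H C hC
  have hA := UniversallyClosed.universally_isClosedMap _ _ _
    ((IsPullback.of_hasPullback i₁ a).paste_horiz H)
  have hB := UniversallyClosed.universally_isClosedMap _ _ _
    ((IsPullback.of_hasPullback i₁ b).paste_horiz H)
  have e : g' '' C = (pullback.fst i₁ a ≫ g') '' (pullback.fst i₁ a ⁻¹' C) ∪
      (pullback.fst i₁ b ≫ g') '' (pullback.fst i₁ b ⁻¹' C) := by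
    ext y
    constructor
    · rintro ⟨c, hc, rfl⟩
      rcases hjs (i₁ c) with ⟨x, hx⟩ | ⟨τ, hτ⟩
      · obtain ⟨w, hw, -⟩ := Scheme.Pullback.exists_preimage_pullback c x hx.symm
        exact Or.inl ⟨w, show pullback.fst i₁ a w ∈ C from hw.symm ▸ hc, by
          rw [Scheme.Hom.comp_apply, hw]⟩
      · obtain ⟨w, hw, -⟩ := Scheme.Pullback.exists_preimage_pullback c τ hτ.symm
        exact Or.inr ⟨w, show pullback.fst i₁ b w ∈ C from hw.symm ▸ hc, by
          rw [Scheme.Hom.comp_apply, hw]⟩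
    · rintro (⟨w, hw, rfl⟩ | ⟨w, hw, rfl⟩) <;>
        exact ⟨_, hw, (Scheme.Hom.comp_apply _ _ _).symm⟩
  rw [e]
  exact (hA _ (hC.preimage (Scheme.Hom.continuous _))).union
    (hB _ (hC.preimage (Scheme.Hom.continuous _)))

/-- A target of two jointly surjective proper maps from separated schemes is separated. -/
theorem isSeparated_of_pair {P : Scheme.{u}} (a : X ⟶ P) (b : T ⟶ P) (g : P ⟶ Y)
    (hjs : ∀ r : P, (∃ x, a x = r) ∨ ∃ τ, b τ = r) [IsProper a] [IsProper b]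
    [IsSeparated (a ≫ g)] [IsSeparated (b ≫ g)] : IsSeparated g := by
  refine ⟨IsClosedImmersion.of_isPreimmersion _ ?_⟩
  have key : ∀ {W : Scheme.{u}} (c : W ⟶ P) [IsProper c] [IsSeparated (c ≫ g)],
      IsClosed (Set.range (c ≫ pullback.diagonal g)) := by
    intro W c _ _
    let m : pullback (c ≫ g) (c ≫ g) ⟶ pullback g g :=
      pullback.map (c ≫ g) (c ≫ g) g g c c (𝟙 Y) (Category.comp_id _) (Category.comp_id _)
    haveI hm : IsProper m :=
      MorphismProperty.pullbackMap (P := @IsProper) ‹IsProper c› ‹IsProper c› rfl rfl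
    have e : c ≫ pullback.diagonal g = pullback.diagonal (c ≫ g) ≫ m :=
      pullback.hom_ext (by simp only [m, pullback.map, Category.assoc, pullback.lift_fst, pullback.diagonal_fst_assoc, pullback.diagonal_fst, Category.comp_id]) (by simp only [m, pullback.map, Category.assoc, pullback.lift_snd, pullback.diagonal_snd_assoc, pullback.diagonal_snd, Category.comp_id])
    rw [e]
    exact (pullback.diagonal (c ≫ g) ≫ m).isClosedMap.isClosed_range
  have e : Set.range (pullback.diagonal g) =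
      Set.range (a ≫ pullback.diagonal g) ∪ Set.range (b ≫ pullback.diagonal g) := by
    ext y
    constructor
    · rintro ⟨r, rfl⟩
      rcases hjs r with ⟨x, rfl⟩ | ⟨τ, rfl⟩
      · exact Or.inl ⟨x, Scheme.Hom.comp_apply _ _ _⟩
      · exact Or.inr ⟨τ, Scheme.Hom.comp_apply _ _ _⟩
    · rintro (⟨w, rfl⟩ | ⟨w, rfl⟩) <;> exact ⟨_, (Scheme.Hom.comp_apply _ _ _).symm⟩
  rw [e]
  exact (key a).union (key b)

/-- Comparison of an arbitrary pushout with the glued one. -/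
theorem exists_iso_glued {P : Scheme.{u}} (a : X ⟶ P) (b : T ⟶ P) (hP : IsPushout ι ξ a b)
    (hcov : ∀ τ : T, ∃ π : AP ι ξ, τ ∈ π.V) :
    ∃ e : glued ι ξ ≅ P, inX hcov ≫ e.hom = a ∧ inY hcov ≫ e.hom = b :=
  ⟨(glued_isPushout hcov).isoIsPushout _ _ hP,
    (glued_isPushout hcov).inl_isoIsPushout_hom _ _ hP,
    (glued_isPushout hcov).inr_isoIsPushout_hom _ _ hP⟩

end Groth.Agent.H28Pinch
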