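import Groth.Agent.H28Pinch.Criterion
import Groth.Agent.H28Pinch.Glued
import Groth.Prelude.Def_W4c3jacimperfPinch
import Mathlib.CategoryTheory.Comma.Over.Pullback
import Mathlib.AlgebraicGeometry.Morphisms.Flat

/-!
# Flat localisation of pinchings
-/

set_option autoImplicit false
set_option linter.style.haveILetI false

universe u

open CategoryTheory AlgebraicGeometry Limits TopologicalSpace Opposite

namespace Groth.Agent.H28Pinch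

open H7Flat

variable {X T Z P : Scheme.{u}} {ι : Z ⟶ X} {ξ : Z ⟶ T} {a : X ⟶ P} {b : T ⟶ P}

theorem flat_of_comp_openImmersion {A B C : Scheme.{u}} (f : A ⟶ B) (g : B ⟶ C) [IsOpenImmersion g]
    [Flat (f ≫ g)] : Flat f := by
  refine MorphismProperty.of_isPullback (P := @Flat)
    (IsOpenImmersion.isPullback f (𝟙 A) g (f ≫ g) (Category.id_comp _) ?_).flip inferInstance
  ext x
  exact ⟨fun _ => ⟨x, rfl⟩, fun _ => ⟨f x, (Scheme.Hom.comp_apply f g x).symm⟩⟩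

theorem Chart.inj_of_flat (c : Chart ι ξ a b) {S : Type u} [CommRing S] (ψ : c.R →+* S)
    (h : ψ.Flat) : c.Inj S ψ := by
  letI := c.pa.toAlgebra
  letI := c.pb.toAlgebra
  letI := ψ.toAlgebra
  letI : Algebra c.R c.A := (c.p.comp c.pa).toAlgebra
  let pA : c.A' →ₐ[c.R] c.A := ⟨c.p, fun r => rfl⟩
  let qA : c.B →ₐ[c.R] c.A := ⟨c.q, fun r => (c.sq.comm r).symm⟩
  have h0 : RingSq (algebraMap c.R c.A') (algebraMap c.R c.B) pA.toRingHom qA.toRingHom := c.sq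
  haveI : Module.Flat c.R S := h
  exact bcInj_of_flat h0 S

/-- Pinchings with charts are recovered after a base change preserving the chart rings. -/
theorem isPushout_overPullback {F : Scheme.{u}} (q : F ⟶ P) (w : ι ≫ a = ξ ≫ b)
    (h : ∀ (O : F.Opens) (r : F), r ∈ O → ∃ (c : Chart ι ξ a b) (V : F.Opens) (hV : IsAffineOpen V)
      (ψ : c.R →+* Γ(F, V)), r ∈ V ∧ V ≤ O ∧ sm ψ ≫ c.u = hV.fromSpec ≫ q ∧ c.Inj _ ψ) :
    IsPushout ((Over.pullback q).map (Over.homMk ι rfl : Over.mk (ι ≫ a) ⟶ Over.mk a)).left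
      ((Over.pullback q).map (Over.homMk ξ w.symm : Over.mk (ι ≫ a) ⟶ Over.mk b)).left
      ((Over.pullback q).obj (Over.mk a)).hom ((Over.pullback q).obj (Over.mk b)).hom := by
  change IsPushout
    (pullback.lift (pullback.fst (ι ≫ a) q ≫ ι) (pullback.snd (ι ≫ a) q) _)
    (pullback.lift (pullback.fst (ι ≫ a) q ≫ ξ) (pullback.snd (ι ≫ a) q) _)
    (pullback.snd a q) (pullback.snd b q)
  have w' : pullback.lift (pullback.fst (ι ≫ a) q ≫ ι) (pullback.snd (ι ≫ a) q)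
        (by rw [Category.assoc, pullback.condition]) ≫ pullback.snd a q =
      pullback.lift (pullback.fst (ι ≫ a) q ≫ ξ) (pullback.snd (ι ≫ a) q)
        (by rw [Category.assoc, ← w, pullback.condition]) ≫ pullback.snd b q := by
    rw [pullback.lift_snd, pullback.lift_snd]
  refine Chart.isPushout w' fun O r hr => ?_
  obtain ⟨c, V, hV, ψ, hrV, hVO, hψ, hinj⟩ := h O r hr
  obtain ⟨c', hc'⟩ := Chart.exists_baseChange q (IsPullback.of_hasPullback a q).flip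
    (IsPullback.of_hasPullback b q).flip
    (by rw [pullback.lift_snd]; exact (IsPullback.of_hasPullback (ι ≫ a) q).flip)
    w w' (pullback.lift_fst _ _ _) (pullback.lift_fst _ _ _) c hV.fromSpec ψ hψ hinj
  refine ⟨c', ?_, ?_⟩ <;> rw [hc', hV.range_fromSpec]
  exacts [hrV, hVO]

theorem exists_affine_lift {F : Scheme.{u}} (q : F ⟶ P) (c : Chart ι ξ a b) (O : F.Opens) (r : F)
    (hr : r ∈ O) (hc : q r ∈ Set.range c.u) :
    ∃ (V : F.Opens) (hV : IsAffineOpen V) (ψ : c.R →+* Γ(F, V)),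
      r ∈ V ∧ V ≤ O ∧ sm ψ ≫ c.u = hV.fromSpec ≫ q := by
  obtain ⟨V, hV, hrV, hle⟩ := exists_isAffineOpen_mem_and_subset (U := O ⊓ q ⁻¹ᵁ c.u.opensRange)
    (show r ∈ O ⊓ q ⁻¹ᵁ c.u.opensRange from ⟨hr, hc⟩)
  have hrange : Set.range (hV.fromSpec ≫ q) ⊆ Set.range c.u := by
    rintro _ ⟨x, rfl⟩
    exact (hle (hV.range_fromSpec.le ⟨x, rfl⟩)).2
  obtain ⟨ψ, hψ⟩ := Spec.homEquiv.symm.surjective (IsOpenImmersion.lift c.u _ hrange)
  replace hψ : Spec.map ψ = IsOpenImmersion.lift c.u _ hrange := hψ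
  exact ⟨V, hV, ψ.hom, hrV, fun x hx => (hle hx).1, by
    rw [show sm ψ.hom = Spec.map ψ from rfl, hψ, IsOpenImmersion.lift_fac]⟩

theorem flat_chart {F : Scheme.{u}} (q : F ⟶ P) [Flat q] (c : Chart ι ξ a b) {V : F.Opens}
    (hV : IsAffineOpen V) (ψ : c.R →+* Γ(F, V)) (hψ : sm ψ ≫ c.u = hV.fromSpec ≫ q) : ψ.Flat := by
  haveI : Flat (sm ψ ≫ c.u) := hψ ▸ inferInstance
  haveI : Flat (sm ψ) := flat_of_comp_openImmersion _ c.u
  exact (HasRingHomProperty.Spec_iff (P := @Flat)).mp ‹Flat (sm ψ)›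

/-- Charts lying over affine opens of the base, of the two standard shapes. -/
theorem exists_AP_over {Y : Scheme.{u}} [IsClosedImmersion ι] (f : X ⟶ Y) (t : T ⟶ Y)
    [IsAffineHom t] (hsq : ι ≫ f = ξ ≫ t)
    (hstd : ∀ y : Y, ∃ U : Y.Opens, IsAffineOpen U ∧ y ∈ U ∧ ∃ V : X.Opens, IsAffineOpen V ∧
      V ≤ f ⁻¹ᵁ U ∧ ∀ z : Z, (ξ ≫ t).base z ∈ U → ι.base z ∈ V)
    (hcov : ∀ τ : T, ∃ π : AP ι ξ, τ ∈ π.V) (r : glued ι ξ) :
    ∃ (π : AP ι ξ) (W : Y.Opens), IsAffineOpen W ∧ r ∈ Set.range (chart ι ξ π) ∧ π.U ≤ f ⁻¹ᵁ W ∧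
      (π.V = t ⁻¹ᵁ W ∨ π.V = ⊥) := by
  have hT : ∀ τ : T, ∃ (π : AP ι ξ) (W : Y.Opens), IsAffineOpen W ∧
      inY hcov τ ∈ Set.range (chart ι ξ π) ∧ π.U ≤ f ⁻¹ᵁ W ∧ (π.V = t ⁻¹ᵁ W ∨ π.V = ⊥) := fun τ => by
    obtain ⟨U, hU, hτU, V, hV, hVle, hZ⟩ := hstd (t τ)
    let π : AP ι ξ := ⟨V, t ⁻¹ᵁ U, hV, hU.preimage t, by
      ext z
      refine ⟨fun hz => ?_, fun hz => hZ z hz⟩
      have h1 : (ι ≫ f) z ∈ U := hVle hz
      rw [hsq] at h1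
      exact h1⟩
    exact ⟨π, U, hU, (inY_preimage hcov π).ge (π.hV.range_fromSpec.ge hτU), hVle, Or.inl rfl⟩
  obtain ⟨x, rfl⟩ | ⟨τ, rfl⟩ := exists_preimage hcov r
  swap
  · exact hT τ
  by_cases hx : x ∈ Set.range ι
  · obtain ⟨z, rfl⟩ := hx
    rw [← Scheme.Hom.comp_apply, inX_comm hcov]
    exact hT (ξ z)
  obtain ⟨W, hW, hxW, -⟩ :=
    exists_isAffineOpen_mem_and_subset (Set.mem_univ (f x)) (U := (⊤ : Y.Opens))
  let O : X.Opens := f ⁻¹ᵁ W ⊓ ⟨(Set.range ι)ᶜ, ι.isClosedEmbedding.isClosed_range.isOpen_compl⟩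
  obtain ⟨V', hV', hxV', hle⟩ :=
    exists_isAffineOpen_mem_and_subset (U := O) (show x ∈ O from ⟨hxW, hx⟩)
  let π : AP ι ξ := ⟨V', ⊥, hV', isAffineOpen_bot _, by
    ext z
    exact ⟨fun hz => ((hle hz).2 ⟨z, rfl⟩).elim, fun hz => hz.elim⟩⟩
  exact ⟨π, W, hW, (inX_preimage hcov π).ge (π.hU.range_fromSpec.ge hxV'), fun y hy => (hle hy).1,
    Or.inr rfl⟩

theorem q_injective [IsClosedImmersion ι] [Flat ξ] [Surjective ξ] (π : AP ι ξ) :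
    Function.Injective π.q := by
  have hp : IsPullback (sm π.q) π.hW.fromSpec π.hV.fromSpec ξ := by
    refine IsOpenImmersion.isPullback _ _ _ _ π.fromSpec_q.symm ?_
    refine Opens.ext ?_
    change ξ ⁻¹' Set.range π.hV.fromSpec = Set.range π.hW.fromSpec
    rw [π.hV.range_fromSpec, π.hW.range_fromSpec]
    exact congrArg SetLike.coe π.hUV.symm
  have h1 : Flat (sm π.q) := MorphismProperty.of_isPullback (P := @Flat) hp.flip inferInstance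
  have h2 : Surjective (sm π.q) :=
    MorphismProperty.of_isPullback (P := @Surjective) hp.flip inferInstance
  exact RingHom.FaithfullyFlat.injective
    ((flat_and_surjective_SpecMap_iff (CommRingCat.ofHom π.q)).mp ⟨h1, h2⟩)

theorem projective_coker {Y : Scheme.{u}} (t : T ⟶ Y)
    (hv : ∀ U : Y.affineOpens, @Pinch.CokerProjective Γ(Y, U) Γ(Z, (ξ ≫ t) ⁻¹ᵁ U) Γ(T, t ⁻¹ᵁ U) _ _ _
      ((ξ ≫ t).app U).hom.toAlgebra (ξ.app (t ⁻¹ᵁ U)).hom)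
    (W : Y.affineOpens) (V : T.Opens) (W' : Z.Opens) (hW' : W' = ξ ⁻¹ᵁ V)
    (hV : V = t ⁻¹ᵁ W.1 ∨ V = ⊥) (e₁ : W' ≤ (ξ ≫ t) ⁻¹ᵁ W.1) :
    letI := ((ξ ≫ t).appLE W.1 W' e₁).hom.toAlgebra
    Module.Projective Γ(Y, W.1)
      (Γ(Z, W') ⧸ Submodule.span Γ(Y, W.1) (Set.range (ξ.appLE V W' hW'.le).hom)) := by
  letI := ((ξ ≫ t).appLE W.1 W' e₁).hom.toAlgebra
  subst hW'
  rcases hV with rfl | rfl
  · have key : ∀ (φ : Γ(Y, W.1) ⟶ Γ(Z, (ξ ≫ t) ⁻¹ᵁ W.1))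
        (c : Γ(T, t ⁻¹ᵁ W.1) ⟶ Γ(Z, (ξ ≫ t) ⁻¹ᵁ W.1)),
        φ = (ξ ≫ t).app W.1 → c = ξ.app (t ⁻¹ᵁ W.1) →
        @Pinch.CokerProjective _ _ _ _ _ _ φ.hom.toAlgebra c.hom := by
      rintro _ _ rfl rfl
      exact hv W
    exact key _ _ ((ξ ≫ t).appLE_eq_app) (ξ.appLE_eq_app)
  · haveI : Subsingleton Γ(Z, ξ ⁻¹ᵁ (⊥ : T.Opens)) :=
      CommRingCat.subsingleton_of_isTerminal (Z.sheaf.isTerminalOfEqEmpty rfl)
    infer_instance

theorem Chart.inj_of_flat_over (c : Chart ι ξ a b) {S₁ S : Type u} [CommRing S₁] [CommRing S]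
    (ψ₁ : c.R →+* S₁) (χ : S₁ →+* S) (ψ : c.R →+* S) (hψ : χ.comp ψ₁ = ψ) (hχ : χ.Flat)
    (h₁ : c.Inj S₁ ψ₁) : c.Inj S ψ := by
  subst hψ
  letI := c.pa.toAlgebra
  letI := c.pb.toAlgebra
  letI := ψ₁.toAlgebra
  letI := (χ.comp ψ₁).toAlgebra
  letI := χ.toAlgebra
  haveI : IsScalarTower c.R S₁ S := IsScalarTower.of_algebraMap_eq fun _ => rfl
  haveI : Module.Flat S₁ S := hχ
  exact bcInj_comp h₁

end Groth.Agent.H28Pinch
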