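import Groth.Agent.H7Flat.PushoutRing
import Mathlib.RingTheory.TensorProduct.Maps
import Mathlib.RingTheory.Flat.Basic
import Mathlib.LinearAlgebra.TensorProduct.Prod
import Mathlib.Algebra.Module.Projective
import Mathlib.LinearAlgebra.TensorProduct.Tower

/-!
# Base change of fibre products of rings
-/

set_option autoImplicit false

universe u

namespace Groth.Agent.H28Pinch

open H7Flat TensorProduct

variable {R A' B A : Type u} [CommRing R] [CommRing A'] [CommRing B] [CommRing A]
  [Algebra R A'] [Algebra R B] [Algebra R A]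

/-- `S → (S ⊗ A') × (S ⊗ B)` is injective. -/
def BCInj (R A' B S : Type u) [CommRing R] [CommRing A'] [CommRing B] [CommRing S]
    [Algebra R A'] [Algebra R B] [Algebra R S] : Prop :=
  ∀ s : S, s ⊗ₜ[R] (1 : A') = 0 → s ⊗ₜ[R] (1 : B) = 0 → s = 0

/-- `R → A' × B`. -/
def pairMap (R A' B : Type u) [CommRing R] [CommRing A'] [CommRing B] [Algebra R A'] [Algebra R B] :
    R →ₗ[R] A' × B :=
  (Algebra.linearMap R A').prod (Algebra.linearMap R B)

variable {p : A' →ₐ[R] A} {q : B →ₐ[R] A}

theorem pairMap_exact (h : RingSq (algebraMap R A') (algebraMap R B) p.toRingHom q.toRingHom) :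
    Function.Exact (pairMap R A' B)
      (p.toLinearMap ∘ₗ LinearMap.fst R A' B - q.toLinearMap ∘ₗ LinearMap.snd R A' B) := by
  intro z
  constructor
  · intro hz
    have hz' : p z.1 = q z.2 := sub_eq_zero.mp hz
    obtain ⟨r, h1, h2⟩ := h.exists_lift z.1 z.2 hz'
    exact ⟨r, Prod.ext h1 h2⟩
  · rintro ⟨r, rfl⟩
    exact sub_eq_zero.mpr (h.comm r)

theorem bcInj_of_flat (h : RingSq (algebraMap R A') (algebraMap R B) p.toRingHom q.toRingHom)
    (S : Type u) [CommRing S] [Algebra R S] [Module.Flat R S] : BCInj R A' B S := by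
  intro s h1 h2
  have hinj := Module.Flat.lTensor_preserves_injective_linearMap (M := S) (pairMap R A' B)
    fun a b e => h.ext a b (congrArg Prod.fst e) (congrArg Prod.snd e)
  have e : LinearMap.lTensor S (pairMap R A' B) (s ⊗ₜ 1) = 0 := by
    apply (TensorProduct.prodRight R R S A' B).injective
    rw [map_zero]
    refine Prod.ext ?_ ?_ <;> simp [pairMap, h1, h2]
  have := (TensorProduct.rid R S).symm.injective (a₁ := s) (a₂ := 0)
  apply this
  rw [map_zero]
  exact hinj (e.trans (map_zero _).symm)

theorem bcInj_comp {S₁ S : Type u} [CommRing S₁] [CommRing S] [Algebra R S₁] [Algebra R S]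
    [Algebra S₁ S] [IsScalarTower R S₁ S] [Module.Flat S₁ S] (h₁ : BCInj R A' B S₁) :
    BCInj R A' B S := by
  intro s h1 h2
  let f : S₁ →ₗ[S₁] (S₁ ⊗[R] A') × (S₁ ⊗[R] B) :=
    (Algebra.linearMap S₁ (S₁ ⊗[R] A')).prod (Algebra.linearMap S₁ (S₁ ⊗[R] B))
  have hf : Function.Injective f := (injective_iff_map_eq_zero f).mpr fun x hx =>
    h₁ x (congrArg Prod.fst hx) (congrArg Prod.snd hx)
  have hinj := Module.Flat.lTensor_preserves_injective_linearMap (M := S) f hf
  have e : LinearMap.lTensor S f (s ⊗ₜ 1) = 0 := by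
    apply (TensorProduct.prodRight S₁ S₁ S (S₁ ⊗[R] A') (S₁ ⊗[R] B)).injective
    rw [map_zero]
    refine Prod.ext ?_ ?_
    · apply (AlgebraTensorModule.cancelBaseChange R S₁ S₁ S A').injective
      simp [f, Algebra.TensorProduct.one_def, h1]
    · apply (AlgebraTensorModule.cancelBaseChange R S₁ S₁ S B).injective
      simp [f, Algebra.TensorProduct.one_def, h2]
  apply (TensorProduct.rid S₁ S).symm.injective
  rw [map_zero]
  exact hinj (e.trans (map_zero _).symm)

/-- A fibre product of rings whose base change along `S` has injective comparison map stays a fibre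
product. -/
theorem ringSq_tensor (h : RingSq (algebraMap R A') (algebraMap R B) p.toRingHom q.toRingHom)
    (S : Type u) [CommRing S] [Algebra R S] (hinj : BCInj R A' B S) :
    RingSq (algebraMap S (S ⊗[R] A')) (algebraMap S (S ⊗[R] B))
      (Algebra.TensorProduct.map (AlgHom.id S S) p).toRingHom
      (Algebra.TensorProduct.map (AlgHom.id S S) q).toRingHom := by
  set mp := Algebra.TensorProduct.map (AlgHom.id S S) p with hmp
  set mq := Algebra.TensorProduct.map (AlgHom.id S S) q with hmq
  have hp : ∀ z, mp z = LinearMap.lTensor S p.toLinearMap z := fun z => by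
    induction z using TensorProduct.induction_on with
    | zero => simp
    | tmul a b => simp [hmp]
    | add a b ha hb => simp [map_add, ha, hb]
  have hq : ∀ z, mq z = LinearMap.lTensor S q.toLinearMap z := fun z => by
    induction z using TensorProduct.induction_on with
    | zero => simp
    | tmul a b => simp [hmq]
    | add a b ha hb => simp [map_add, ha, hb]
  refine ⟨fun s => (mp.commutes s).trans (mq.commutes s).symm, fun z => ?_, fun s s' h1 h2 => ?_,
    fun x y hxy => ?_⟩
  · obtain ⟨w, hw⟩ := LinearMap.lTensor_surjective S (g := p.toLinearMap) h.surj z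
    exact ⟨w, (hp w).trans hw⟩
  · rw [← sub_eq_zero]
    refine hinj _ ?_ ?_
    · rw [sub_tmul]; exact sub_eq_zero.mpr h1
    · rw [sub_tmul]; exact sub_eq_zero.mpr h2
  · let d := p.toLinearMap ∘ₗ LinearMap.fst R A' B - q.toLinearMap ∘ₗ LinearMap.snd R A' B
    have hd : Function.Surjective d := fun a => by
      obtain ⟨x, hx⟩ := h.surj a
      exact ⟨(x, 0), by simp [d]; exact hx⟩
    let e := TensorProduct.prodRight R R S A' B
    have hde : ∀ w, LinearMap.lTensor S d w =
        LinearMap.lTensor S p.toLinearMap (e w).1 - LinearMap.lTensor S q.toLinearMap (e w).2 := by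
      intro w
      induction w using TensorProduct.induction_on with
      | zero => simp
      | tmul a b => simp [e, d, TensorProduct.tmul_sub]
      | add a b ha hb => simp only [map_add, ha, hb, Prod.fst_add, Prod.snd_add]; abel
    obtain ⟨z, hz⟩ := (lTensor_exact S (pairMap_exact h) hd (e.symm (x, y))).1 (by
      rw [hde, e.apply_symm_apply, ← hp, ← hq]
      exact sub_eq_zero.mpr hxy)
    obtain ⟨s, rfl⟩ := (TensorProduct.rid R S).symm.surjective z
    have h' := congrArg e hz
    rw [e.apply_symm_apply] at h'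
    refine ⟨s, ?_, ?_⟩
    · exact (Eq.trans (by simp [e, pairMap]) (congrArg Prod.fst h'))
    · exact (Eq.trans (by simp [e, pairMap]) (congrArg Prod.snd h'))

/-- The case of a base change from a ground ring over which the cokernel of `B → A` is projective. -/
theorem bcInj_baseChange {R₀ : Type u} [CommRing R₀] [Algebra R₀ R] [Algebra R₀ A'] [Algebra R₀ B]
    [Algebra R₀ A] [IsScalarTower R₀ R A'] [IsScalarTower R₀ R B] [IsScalarTower R₀ R A]
    (h : RingSq (algebraMap R A') (algebraMap R B) p.toRingHom q.toRingHom)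
    (hq : Function.Injective q)
    (hQ : Module.Projective R₀ (A ⧸ LinearMap.range (q.toLinearMap.restrictScalars R₀)))
    (S₀ : Type u) [CommRing S₀] [Algebra R₀ S₀] : BCInj R A' B (R ⊗[R₀] S₀) := by
  classical
  let N := LinearMap.range (q.toLinearMap.restrictScalars R₀)
  let π₀ : A' →ₗ[R₀] A ⧸ N := N.mkQ ∘ₗ p.toLinearMap.restrictScalars R₀
  obtain ⟨sec, hsec⟩ := Module.projective_lifting_property π₀ LinearMap.id
    (N.mkQ_surjective.comp h.surj)
  have hmem : ∀ x : A', p (x - sec (π₀ x)) ∈ N := fun x => by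
    rw [← Submodule.Quotient.mk_eq_zero]
    have h1 : π₀ (sec (π₀ x)) = π₀ x := LinearMap.congr_fun hsec (π₀ x)
    change π₀ (x - sec (π₀ x)) = 0
    rw [map_sub, h1, sub_self]
  let i : R →ₗ[R₀] A' := (Algebra.linearMap R A').restrictScalars R₀
  have hi : Function.Injective i := fun r r' e => h.ext r r' e (hq (by
    have e1 := h.comm r
    have e2 := h.comm r'
    change q (algebraMap R B r) = q (algebraMap R B r')
    rw [← show p (algebraMap R A' r) = q (algebraMap R B r) from e1,
      ← show p (algebraMap R A' r') = q (algebraMap R B r') from e2]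
    exact congrArg p e))
  have hex : ∀ x : A', ∃ r : R, i r = x - sec (π₀ x) := fun x => by
    obtain ⟨y, hy⟩ := hmem x
    obtain ⟨r, hr, -⟩ := h.exists_lift (x - sec (π₀ x)) y hy.symm
    exact ⟨r, hr⟩
  choose ρ hρ using hex
  let ρL : A' →ₗ[R₀] R :=
    { toFun := ρ
      map_add' := fun x y => hi (by rw [map_add, hρ, hρ, hρ, map_add, map_add]; abel)
      map_smul' := fun c x => hi (by
        rw [RingHom.id_apply, map_smul, hρ, hρ, map_smul, map_smul, smul_sub]) }
  have hret : ρL ∘ₗ i = LinearMap.id := LinearMap.ext fun r => hi (by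
    change i (ρ (i r)) = i r
    rw [hρ]
    have : π₀ (i r) = 0 := by
      refine (Submodule.Quotient.mk_eq_zero N).mpr ⟨algebraMap R B r, ?_⟩
      exact (h.comm r).symm
    rw [this, map_zero, sub_zero])
  intro s h1 h2
  clear h2
  let Φ : (R ⊗[R₀] S₀) ⊗[R] A' →ₐ[R] A' ⊗[R₀] S₀ :=
    Algebra.TensorProduct.lift
      (Algebra.TensorProduct.map (Algebra.ofId R A') (AlgHom.id R₀ S₀))
      ((Algebra.TensorProduct.includeLeft (R := R₀) (S := A')).restrictScalars R)
      fun _ _ => Commute.all _ _
  have hΦ : Φ (s ⊗ₜ 1) = LinearMap.rTensor S₀ i s := by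
    clear h1
    rw [Algebra.TensorProduct.lift_tmul, map_one, mul_one]
    induction s using TensorProduct.induction_on with
    | zero => simp
    | tmul a b => simp [i]
    | add a b ha hb => simp [map_add, ha, hb]
  rw [h1, map_zero] at hΦ
  have := congrArg (LinearMap.rTensor S₀ ρL) hΦ
  rwa [map_zero, ← LinearMap.rTensor_comp_apply, hret, LinearMap.rTensor_id, LinearMap.id_apply,
    eq_comm] at this

end Groth.Agent.H28Pinch
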