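import Groth.Agent.H7Flat.PushoutGlobal
import Groth.Agent.H28Pinch.Tensor

/-!
# Pushouts of schemes with affine charts, and their base change
-/

set_option autoImplicit false
set_option linter.style.haveILetI false

universe u

open CategoryTheory AlgebraicGeometry Limits TopologicalSpace Opposite

namespace Groth.Agent.H28Pinch

open H7Flat
open scoped TensorProduct

variable {X T Z P : Scheme.{u}}

/-- An affine chart of a pinching square. -/
structure Chart (ι : Z ⟶ X) (ξ : Z ⟶ T) (a : X ⟶ P) (b : T ⟶ P) : Type (u + 1) where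
  R : Type u
  A' : Type u
  B : Type u
  A : Type u
  [instR : CommRing R]
  [instA' : CommRing A']
  [instB : CommRing B]
  [instA : CommRing A]
  pa : R →+* A'
  pb : R →+* B
  p : A' →+* A
  q : B →+* A
  sq : RingSq pa pb p q
  u : Spec (CommRingCat.of R) ⟶ P
  [hu : IsOpenImmersion u]
  uX : Spec (CommRingCat.of A') ⟶ X
  uT : Spec (CommRingCat.of B) ⟶ T
  uZ : Spec (CommRingCat.of A) ⟶ Z
  pbX : IsPullback (sm pa) uX u a
  pbT : IsPullback (sm pb) uT u b
  hι : sm p ≫ uX = uZ ≫ ι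
  hξ : sm q ≫ uT = uZ ≫ ξ

attribute [instance] Chart.instR Chart.instA' Chart.instB Chart.instA Chart.hu

variable {ι : Z ⟶ X} {ξ : Z ⟶ T} {a : X ⟶ P} {b : T ⟶ P}

namespace Chart

theorem isOpenImmersion_uX (c : Chart ι ξ a b) : IsOpenImmersion c.uX :=
  MorphismProperty.of_isPullback (P := @IsOpenImmersion) c.pbX c.hu

theorem isOpenImmersion_uT (c : Chart ι ξ a b) : IsOpenImmersion c.uT :=
  MorphismProperty.of_isPullback (P := @IsOpenImmersion) c.pbT c.hu

theorem mem_range_of_fst {W V : Scheme.{u}} {fst : W ⟶ V} {snd : W ⟶ X} {f : V ⟶ P}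
    (h : IsPullback fst snd f a) {x : X} (hx : a x ∈ Set.range f) : x ∈ Set.range snd := by
  obtain ⟨v, hv⟩ := hx
  obtain ⟨w, -, hw⟩ := Scheme.Pullback.exists_preimage_pullback v x hv
  refine ⟨h.isoPullback.inv w, ?_⟩
  rw [← Scheme.Hom.comp_apply, h.isoPullback_inv_snd]
  exact hw

theorem exists_res (c c' : Chart ι ξ a b) (h : Set.range c'.u ⊆ Set.range c.u) :
    ∃ (m : Spec (CommRingCat.of c'.R) ⟶ Spec (CommRingCat.of c.R))
      (mX : Spec (CommRingCat.of c'.A') ⟶ Spec (CommRingCat.of c.A'))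
      (mT : Spec (CommRingCat.of c'.B) ⟶ Spec (CommRingCat.of c.B)),
      m ≫ c.u = c'.u ∧ mX ≫ sm c.pa = sm c'.pa ≫ m ∧ mX ≫ c.uX = c'.uX ∧
      mT ≫ sm c.pb = sm c'.pb ≫ m ∧ mT ≫ c.uT = c'.uT := by
  let m := IsOpenImmersion.lift c.u c'.u h
  have hm : m ≫ c.u = c'.u := IsOpenImmersion.lift_fac _ _ _
  obtain ⟨mX, hX1, hX2⟩ := c.pbX.exists_lift (sm c'.pa ≫ m) c'.uX (by
    rw [Category.assoc, hm, c'.pbX.w])
  obtain ⟨mT, hT1, hT2⟩ := c.pbT.exists_lift (sm c'.pb ≫ m) c'.uT (by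
    rw [Category.assoc, hm, c'.pbT.w])
  exact ⟨m, mX, mT, hm, hX1, hX2, hT1, hT2⟩

/-- A square of schemes covered by charts, refining every open set, is a pushout. -/
theorem isPushout (w : ι ≫ a = ξ ≫ b)
    (hcov : ∀ (O : P.Opens) (r : P), r ∈ O →
      ∃ c : Chart ι ξ a b, r ∈ Set.range c.u ∧ Set.range c.u ⊆ (O : Set P)) :
    IsPushout ι ξ a b := by
  choose ch hch hchO using fun x : { x : P.Opens × P // x.2 ∈ x.1 } => hcov x.1.1 x.1.2 x.2
  have uniq : ∀ {S : Scheme.{u}} (φ φ' : P ⟶ S), a ≫ φ = a ≫ φ' → b ≫ φ = b ≫ φ' → φ = φ' := by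
    intro S φ φ' ha hb
    refine hom_ext_local fun r => ?_
    refine ⟨_, (ch ⟨(⊤, r), trivial⟩).u, inferInstance, hch _, ?_⟩
    refine (ch ⟨(⊤, r), trivial⟩).sq.hom_ext ?_ ?_
    · rw [← Category.assoc, ← Category.assoc, (ch _).pbX.w, Category.assoc, Category.assoc, ha]
    · rw [← Category.assoc, ← Category.assoc, (ch _).pbT.w, Category.assoc, Category.assoc, hb]
  have ex : ∀ {S : Scheme.{u}} (g : X ⟶ S) (g' : T ⟶ S), ι ≫ g = ξ ≫ g' →
      ∃ φ : P ⟶ S, a ≫ φ = g ∧ b ≫ φ = g' := by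
    intro S g g' hg
    have hφ : ∀ i, ∃ φ : Spec (CommRingCat.of (ch i).R) ⟶ S,
        sm (ch i).pa ≫ φ = (ch i).uX ≫ g ∧ sm (ch i).pb ≫ φ = (ch i).uT ≫ g' := fun i =>
      (ch i).sq.exists_desc _ _ (by
        rw [← Category.assoc, (ch i).hι, ← Category.assoc, (ch i).hξ, Category.assoc,
          Category.assoc, hg])
    choose φ hφ1 hφ2 using hφ
    obtain ⟨Φ, hΦ⟩ := exists_glue (fun i => Spec (CommRingCat.of (ch i).R)) (fun i => (ch i).u) φ
      (fun r => ⟨⟨(⊤, r), trivial⟩, hch _⟩) fun i j r hi hj => by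
        let O : P.Opens := (ch i).u.opensRange ⊓ (ch j).u.opensRange
        have hr : r ∈ O := ⟨hi, hj⟩
        refine ⟨⟨(O, r), hr⟩, ?_⟩
        obtain ⟨m, mX, mT, h1, h2, h3, h4, h5⟩ := exists_res (ch i) (ch ⟨(O, r), hr⟩)
          fun x hx => (hchO _ hx).1
        obtain ⟨m', mX', mT', h1', h2', h3', h4', h5'⟩ := exists_res (ch j) (ch ⟨(O, r), hr⟩)
          fun x hx => (hchO _ hx).2
        refine ⟨m, m', h1, h1', ?_, ?_, hch _⟩
        · refine (ch ⟨(O, r), hr⟩).sq.hom_ext ?_ ?_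
          · rw [← Category.assoc, ← h2, Category.assoc, hφ1, hφ1, ← Category.assoc, h3]
          · rw [← Category.assoc, ← h4, Category.assoc, hφ2, hφ2, ← Category.assoc, h5]
        · refine (ch ⟨(O, r), hr⟩).sq.hom_ext ?_ ?_
          · rw [← Category.assoc, ← h2', Category.assoc, hφ1, hφ1, ← Category.assoc, h3']
          · rw [← Category.assoc, ← h4', Category.assoc, hφ2, hφ2, ← Category.assoc, h5']
    refine ⟨Φ, hom_ext_local fun x => ?_, hom_ext_local fun τ => ?_⟩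
    · let i : { x : P.Opens × P // x.2 ∈ x.1 } := ⟨(⊤, a x), trivial⟩
      refine ⟨_, (ch i).uX, isOpenImmersion_uX _, mem_range_of_fst (ch i).pbX (hch i), ?_⟩
      rw [← Category.assoc, ← (ch i).pbX.w, Category.assoc, hΦ, hφ1]
    · let i : { x : P.Opens × P // x.2 ∈ x.1 } := ⟨(⊤, b τ), trivial⟩
      refine ⟨_, (ch i).uT, isOpenImmersion_uT _, mem_range_of_fst (ch i).pbT (hch i), ?_⟩
      rw [← Category.assoc, ← (ch i).pbT.w, Category.assoc, hΦ, hφ2]
  refine ⟨⟨w⟩, ⟨PushoutCocone.IsColimit.mk w (fun s => (ex s.inl s.inr s.condition).choose)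
    (fun s => (ex s.inl s.inr s.condition).choose_spec.1)
    (fun s => (ex s.inl s.inr s.condition).choose_spec.2) fun s m h1 h2 => ?_⟩⟩
  exact uniq _ _ (h1.trans (ex s.inl s.inr s.condition).choose_spec.1.symm)
    (h2.trans (ex s.inl s.inr s.condition).choose_spec.2.symm)

/-- The condition for base change along a ring map out of the chart ring. -/
def Inj (c : Chart ι ξ a b) (S : Type u) [CommRing S] (ψ : c.R →+* S) : Prop :=
  letI := c.pa.toAlgebra
  letI := c.pb.toAlgebra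
  letI := ψ.toAlgebra
  BCInj c.R c.A' c.B S

/-- Base change of a chart. -/
theorem exists_baseChange {F X' T' Z' : Scheme.{u}} (q : F ⟶ P) {ι' : Z' ⟶ X'} {ξ' : Z' ⟶ T'}
    {a' : X' ⟶ F} {b' : T' ⟶ F} {qX : X' ⟶ X} {qT : T' ⟶ T} {qZ : Z' ⟶ Z}
    (hX : IsPullback a' qX q a) (hT : IsPullback b' qT q b)
    (hZ : IsPullback (ι' ≫ a') qZ q (ι ≫ a))
    (w : ι ≫ a = ξ ≫ b) (w' : ι' ≫ a' = ξ' ≫ b') (hι : ι' ≫ qX = qZ ≫ ι) (hξ : ξ' ≫ qT = qZ ≫ ξ)
    (c : Chart ι ξ a b) {S : Type u} [CommRing S] (j : Spec (CommRingCat.of S) ⟶ F)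
    [IsOpenImmersion j] (ψ : c.R →+* S) (hψ : sm ψ ≫ c.u = j ≫ q) (hinj : c.Inj S ψ) :
    ∃ c' : Chart ι' ξ' a' b', Set.range c'.u = Set.range j := by
  letI := c.pa.toAlgebra
  letI := c.pb.toAlgebra
  letI := ψ.toAlgebra
  letI : Algebra c.R c.A := (c.p.comp c.pa).toAlgebra
  let pA : c.A' →ₐ[c.R] c.A := ⟨c.p, fun r => rfl⟩
  let qA : c.B →ₐ[c.R] c.A := ⟨c.q, fun r => (c.sq.comm r).symm⟩
  have h0 : RingSq (algebraMap c.R c.A') (algebraMap c.R c.B) pA.toRingHom qA.toRingHom := c.sq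
  let mp := Algebra.TensorProduct.map (AlgHom.id S S) pA
  let mq := Algebra.TensorProduct.map (AlgHom.id S S) qA
  have hsq := ringSq_tensor h0 S hinj
  let rA' : c.A' →+* S ⊗[c.R] c.A' := Algebra.TensorProduct.includeRight.toRingHom
  let rB : c.B →+* S ⊗[c.R] c.B := Algebra.TensorProduct.includeRight.toRingHom
  let rA : c.A →+* S ⊗[c.R] c.A := Algebra.TensorProduct.includeRight.toRingHom
  have hA' : IsPullback (sm (algebraMap S (S ⊗[c.R] c.A'))) (sm rA') (sm ψ) (sm c.pa) :=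
    isPullback_SpecMap_of_isPushout _ _ _ _
      (CommRingCat.isPushout_tensorProduct c.R S c.A')
  have hB : IsPullback (sm (algebraMap S (S ⊗[c.R] c.B))) (sm rB) (sm ψ) (sm c.pb) :=
    isPullback_SpecMap_of_isPushout _ _ _ _
      (CommRingCat.isPushout_tensorProduct c.R S c.B)
  have hA'P := hA'.paste_vert c.pbX
  have hBP := hB.paste_vert c.pbT
  rw [hψ] at hA'P hBP
  obtain ⟨uX', hX1, hX2⟩ := hX.exists_lift (sm (algebraMap S (S ⊗[c.R] c.A')) ≫ j) (sm rA' ≫ c.uX)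
    (by rw [Category.assoc]; exact hA'P.w)
  obtain ⟨uT', hT1, hT2⟩ := hT.exists_lift (sm (algebraMap S (S ⊗[c.R] c.B)) ≫ j) (sm rB ≫ c.uT)
    (by rw [Category.assoc]; exact hBP.w)
  have hAw : sm (algebraMap S (S ⊗[c.R] c.A)) ≫ sm ψ = sm rA ≫ sm (c.p.comp c.pa) := by
    rw [← sm_comp, ← sm_comp]
    exact congrArg sm (RingHom.ext fun r =>
      Algebra.TensorProduct.tmul_one_eq_one_tmul (A := S) (B := c.A) r)
  obtain ⟨uZ', hZ1, hZ2⟩ := hZ.exists_lift (sm (algebraMap S (S ⊗[c.R] c.A)) ≫ j) (sm rA ≫ c.uZ)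
    (by
      rw [Category.assoc, ← hψ, ← Category.assoc, hAw, sm_comp]
      simp only [Category.assoc]
      rw [c.pbX.w, ← Category.assoc (sm c.p), c.hι, Category.assoc])
  refine ⟨{
    R := S, A' := S ⊗[c.R] c.A', B := S ⊗[c.R] c.B, A := S ⊗[c.R] c.A
    pa := algebraMap S (S ⊗[c.R] c.A'), pb := algebraMap S (S ⊗[c.R] c.B)
    p := mp.toRingHom, q := mq.toRingHom
    sq := hsq, u := j, uX := uX', uT := uT', uZ := uZ'
    pbX := ?_, pbT := ?_, hι := ?_, hξ := ?_ }, rfl⟩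
  · refine IsPullback.of_bot ?_ hX1.symm hX
    rw [hX2]; exact hA'P
  · refine IsPullback.of_bot ?_ hT1.symm hT
    rw [hT2]; exact hBP
  · refine hX.hom_ext ?_ ?_
    · rw [Category.assoc, hX1, Category.assoc, hZ1, ← Category.assoc, ← sm_comp]
      exact congrArg (fun f => sm f ≫ j) (RingHom.ext fun s => mp.commutes s)
    · rw [Category.assoc, hX2, Category.assoc, hι, ← Category.assoc uZ', hZ2, Category.assoc,
        ← c.hι, ← Category.assoc, ← Category.assoc, ← sm_comp, ← sm_comp]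
      rfl
  · refine hT.hom_ext ?_ ?_
    · rw [Category.assoc, hT1, Category.assoc, ← w', hZ1, ← Category.assoc, ← sm_comp]
      exact congrArg (fun f => sm f ≫ j) (RingHom.ext fun s => mq.commutes s)
    · rw [Category.assoc, hT2, Category.assoc, hξ, ← Category.assoc uZ', hZ2, Category.assoc,
        ← c.hξ, ← Category.assoc, ← Category.assoc, ← sm_comp, ← sm_comp]
      rfl

/-- The charts of the glued pushout. -/
noncomputable def ofAP [IsClosedImmersion ι] (hcov : ∀ τ : T, ∃ π : AP ι ξ, τ ∈ π.V)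
    (π : AP ι ξ) : Chart ι ξ (inX hcov) (inY hcov) where
  R := π.R
  A' := Γ(X, π.U)
  B := Γ(T, π.V)
  A := Γ(Z, π.W)
  pa := π.pa
  pb := π.pb
  p := π.p
  q := π.q
  sq := π.ringSq
  u := chart ι ξ π
  uX := π.hU.fromSpec
  uT := π.hV.fromSpec
  uZ := π.hW.fromSpec
  pbX := IsOpenImmersion.isPullback _ _ _ _ (fromSpec_inX hcov π) (inX_preimage hcov π)
  pbT := IsOpenImmersion.isPullback _ _ _ _ (fromSpec_inY hcov π) (inY_preimage hcov π)
  hι := π.fromSpec_p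
  hξ := π.fromSpec_q

/-- Transport of a chart along an isomorphism of the target. -/
noncomputable def postIso {P' : Scheme.{u}} (c : Chart ι ξ a b) (e : P ≅ P') :
    Chart ι ξ (a ≫ e.hom) (b ≫ e.hom) where
  R := c.R
  A' := c.A'
  B := c.B
  A := c.A
  pa := c.pa
  pb := c.pb
  p := c.p
  q := c.q
  sq := c.sq
  u := c.u ≫ e.hom
  uX := c.uX
  uT := c.uT
  uZ := c.uZ
  pbX := c.pbX.of_iso (Iso.refl _) (Iso.refl _) (Iso.refl _) e (by simp) (by simp) (by simp) (by simp)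
  pbT := c.pbT.of_iso (Iso.refl _) (Iso.refl _) (Iso.refl _) e (by simp) (by simp) (by simp) (by simp)
  hι := c.hι
  hξ := c.hξ

end Chart

end Groth.Agent.H28Pinch
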