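import Groth.Agent.H28Pinch.RingedPushout
import Groth.Agent.H28Pinch.Criterion
import Groth.Agent.H28Pinch.BaseChange

/-!
# Affine charts of pushouts of ringed spaces
-/

set_option autoImplicit false
set_option linter.style.haveILetI false

universe u

open CategoryTheory AlgebraicGeometry Limits TopologicalSpace Opposite

namespace Groth.Agent.H28Pinch

open H7Flat

/-- The functor from schemes to ringed spaces. -/
noncomputable abbrev toRS :=
  Scheme.forgetToLocallyRingedSpace.{u} ⋙ LocallyRingedSpace.forgetToSheafedSpace.{u}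

variable {X Z Z' X' : Scheme.{u}} {ι : Z ⟶ X} {q : Z ⟶ Z'} {π : X ⟶ X'} {ι' : Z' ⟶ X'}

theorem w_of_isPushout_rs (hpo : IsPushout (toRS.map ι) (toRS.map q) (toRS.map π) (toRS.map ι')) :
    ι ≫ π = q ≫ ι' :=
  toRS.map_injective (by rw [Functor.map_comp, Functor.map_comp]; exact hpo.w)

/-- Sections of a pushout of ringed spaces over any open set. -/
theorem rs_sections (hpo : IsPushout (toRS.map ι) (toRS.map q) (toRS.map π) (toRS.map ι'))
    (V : X'.Opens) (W : Z.Opens) (h₁ : W ≤ ι ⁻¹ᵁ π ⁻¹ᵁ V) (h₁' : ι ⁻¹ᵁ π ⁻¹ᵁ V ≤ W)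
    (h₂ : W ≤ q ⁻¹ᵁ ι' ⁻¹ᵁ V) :
    (∀ s s', π.app V s = π.app V s' → ι'.app V s = ι'.app V s' → s = s') ∧
    ∀ x y, ι.appLE (π ⁻¹ᵁ V) W h₁ x = q.appLE (ι' ⁻¹ᵁ V) W h₂ y →
      ∃ s, π.app V s = x ∧ ι'.app V s = y := by
  obtain rfl : W = ι ⁻¹ᵁ π ⁻¹ᵁ V := le_antisymm h₁ h₁'
  have e : ι ⁻¹ᵁ π ⁻¹ᵁ V = q ⁻¹ᵁ ι' ⁻¹ᵁ V := by
    rw [← Scheme.Hom.comp_preimage, ← Scheme.Hom.comp_preimage, w_of_isPushout_rs hpo]
  haveI : HasColimitsOfSize.{0, 0} (PresheafedSpace.{u, u + 1, u} CommRingCat.{u}) :=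
    hasColimitsOfSizeShrink.{0, 0, u, u} _
  obtain ⟨hext, hex⟩ := sections_of_isPushout
    (hpo.map (SheafedSpace.forgetToPresheafedSpace (C := CommRingCat.{u}))) V e
  refine ⟨hext, fun x y h => hex x y ?_⟩
  have key : Z.presheaf.map (eqToHom e).op (q.app (ι' ⁻¹ᵁ V) y) = ι.app (π ⁻¹ᵁ V) x := by
    rw [Scheme.Hom.appLE, Scheme.Hom.appLE, CommRingCat.comp_apply, CommRingCat.comp_apply] at h
    convert h.symm using 1
    · exact congrArg (fun m : op (q ⁻¹ᵁ ι' ⁻¹ᵁ V) ⟶ op (ι ⁻¹ᵁ π ⁻¹ᵁ V) =>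
        Z.presheaf.map m (q.app (ι' ⁻¹ᵁ V) y)) (Subsingleton.elim _ _)
    · exact (congrArg (fun m : op (ι ⁻¹ᵁ π ⁻¹ᵁ V) ⟶ op (ι ⁻¹ᵁ π ⁻¹ᵁ V) =>
        Z.presheaf.map m (ι.app (π ⁻¹ᵁ V) x)) (Subsingleton.elim (𝟙 _) _)).symm.trans (by simp) |>.symm
  change Z.presheaf.map (eqToHom e.symm).op (ι.app (π ⁻¹ᵁ V) x) = q.app (ι' ⁻¹ᵁ V) y
  rw [← key, ← CommRingCat.comp_apply, ← Functor.map_comp,
    Subsingleton.elim ((eqToHom e).op ≫ (eqToHom e.symm).op) (𝟙 _), Z.presheaf.map_id]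
  rfl

variable [IsClosedImmersion ι] [IsAffineHom π] [IsAffineHom ι']

/-- The pair of affine opens over an affine open of the pushout. -/
noncomputable def apOfPushout (w : ι ≫ π = q ≫ ι') (V : X'.Opens) (hV : IsAffineOpen V) :
    AP ι q :=
  ⟨π ⁻¹ᵁ V, ι' ⁻¹ᵁ V, hV.preimage π, hV.preimage ι', by
    rw [← Scheme.Hom.comp_preimage, w, Scheme.Hom.comp_preimage]⟩

/-- The chart over an affine open of a pushout of ringed spaces. -/
noncomputable def chartOfPushout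
    (hpo : IsPushout (toRS.map ι) (toRS.map q) (toRS.map π) (toRS.map ι'))
    (V : X'.Opens) (hV : IsAffineOpen V) : Chart ι q π ι' :=
  let A := apOfPushout (w_of_isPushout_rs hpo) V hV
  { R := Γ(X', V)
    A' := Γ(X, A.U)
    B := Γ(Z', A.V)
    A := Γ(Z, A.W)
    pa := (π.app V).hom
    pb := (ι'.app V).hom
    p := A.p
    q := A.q
    sq :=
      { comm := fun s => by
          have h : π.appLE V A.U le_rfl ≫ ι.appLE A.U A.W le_rfl =
              ι'.appLE V A.V le_rfl ≫ q.appLE A.V A.W A.W_le := by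
            rw [Scheme.Hom.appLE_comp_appLE, Scheme.Hom.appLE_comp_appLE]
            congr 1
            exact w_of_isPushout_rs hpo
          rw [show π.appLE V A.U le_rfl = π.app V from π.appLE_eq_app,
            show ι'.appLE V A.V le_rfl = ι'.app V from ι'.appLE_eq_app] at h
          exact ConcreteCategory.congr_hom h s
        surj := A.ringSq.surj
        ext := (rs_sections hpo V A.W le_rfl le_rfl A.W_le).1
        exists_lift := (rs_sections hpo V A.W le_rfl le_rfl A.W_le).2 }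
    u := hV.fromSpec
    uX := A.hU.fromSpec
    uT := A.hV.fromSpec
    uZ := A.hW.fromSpec
    pbX := IsOpenImmersion.isPullback _ _ _ _
      (by rw [← hV.SpecMap_appLE_fromSpec π A.hU le_rfl,
        show π.appLE V A.U le_rfl = π.app V from π.appLE_eq_app]; rfl)
      (by rw [hV.opensRange_fromSpec, A.hU.opensRange_fromSpec]; rfl)
    pbT := IsOpenImmersion.isPullback _ _ _ _
      (by rw [← hV.SpecMap_appLE_fromSpec ι' A.hV le_rfl,
        show ι'.appLE V A.V le_rfl = ι'.app V from ι'.appLE_eq_app]; rfl)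
      (by rw [hV.opensRange_fromSpec, A.hV.opensRange_fromSpec]; rfl)
    hι := A.fromSpec_p
    hξ := A.fromSpec_q }

theorem exists_chartOfPushout
    (hpo : IsPushout (toRS.map ι) (toRS.map q) (toRS.map π) (toRS.map ι'))
    (O : X'.Opens) (r : X') (hr : r ∈ O) :
    ∃ c : Chart ι q π ι', r ∈ Set.range c.u ∧ Set.range c.u ⊆ (O : Set X') := by
  obtain ⟨V, hV, hrV, hle⟩ := exists_isAffineOpen_mem_and_subset hr
  refine ⟨chartOfPushout hpo V hV, ?_, ?_⟩
  · exact hV.range_fromSpec.ge hrV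
  · exact hV.range_fromSpec.le.trans hle

end Groth.Agent.H28Pinch
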