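-- Locally free modules on a pushout of ringed spaces
import Groth.Agent.H28Pinch.FreeBasis
import Groth.Agent.H28Pinch.RingedChart
import Groth.Agent.H17.PullSect
import Groth.Agent.H17.PullSectLocal

/-!
# Maps of locally free modules on a pushout of ringed spaces
-/

set_option autoImplicit false
set_option linter.style.haveILetI false

universe u

open AlgebraicGeometry CategoryTheory Limits TopologicalSpace Opposite

namespace Groth.Agent.H28Pinch

theorem congr_pullSect {X Y : Scheme.{u}} {a b : X ⟶ Y} (e : a = b) (N : Y.Modules) (U : Y.Opens)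
    (s : Γ(N, U)) :
    ((Scheme.Modules.pullbackCongr e).hom.app N).app (a ⁻¹ᵁ U) (OmegaSh.pullSect a N U s) =
      ((Scheme.Modules.pullback b).obj N).presheaf.map (homOfLE (e ▸ le_rfl : a ⁻¹ᵁ U ≤ b ⁻¹ᵁ U)).op
        (OmegaSh.pullSect b N U s) := by
  subst e
  simp [Scheme.Modules.pullbackCongr]

variable {X Y Z T : Scheme.{u}} {fX : Z ⟶ X} {fY : Z ⟶ Y} {gX : X ⟶ T} {gY : Y ⟶ T}
  (hw : fX ≫ gX = fY ≫ gY)

/-- The canonical isomorphism of the two double pullbacks. -/
noncomputable def xi (N : T.Modules) :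
    (Scheme.Modules.pullback fX).obj ((Scheme.Modules.pullback gX).obj N) ≅
      (Scheme.Modules.pullback fY).obj ((Scheme.Modules.pullback gY).obj N) :=
  (Scheme.Modules.pullbackComp fX gX).app N ≪≫ (Scheme.Modules.pullbackCongr hw).app N ≪≫
    ((Scheme.Modules.pullbackComp fY gY).app N).symm

include hw in
theorem preimage_le (U : T.Opens) : fX ⁻¹ᵁ gX ⁻¹ᵁ U ≤ fY ⁻¹ᵁ gY ⁻¹ᵁ U := by
  rw [← Scheme.Hom.comp_preimage, hw, Scheme.Hom.comp_preimage]

theorem xi_pullSect (N : T.Modules) (U : T.Opens) (s : Γ(N, U)) :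
    (xi hw N).hom.app (fX ⁻¹ᵁ gX ⁻¹ᵁ U) (OmegaSh.pullSect fX _ (gX ⁻¹ᵁ U) (OmegaSh.pullSect gX N U s)) =
      ((Scheme.Modules.pullback fY).obj ((Scheme.Modules.pullback gY).obj N)).presheaf.map
        (homOfLE (preimage_le hw U)).op
        (OmegaSh.pullSect fY _ (gY ⁻¹ᵁ U) (OmegaSh.pullSect gY N U s)) := by
  let W := fX ⁻¹ᵁ gX ⁻¹ᵁ U
  let cX := (Scheme.Modules.pullbackComp fX gX).app N
  let cY := (Scheme.Modules.pullbackComp fY gY).app N
  have h1 : cX.hom.app W
      (OmegaSh.pullSect fX _ (gX ⁻¹ᵁ U) (OmegaSh.pullSect gX N U s)) =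
      OmegaSh.pullSect (fX ≫ gX) N U s :=
    (congrArg (cX.hom.app W) (H17.PullSect.pullSect_comp fX gX N U s)).symm.trans
      (congr($(congrArg (fun k => Scheme.Modules.Hom.app k W) cX.inv_hom_id)
        (OmegaSh.pullSect (fX ≫ gX) N U s)))
  refine (congrArg
    (fun z => cY.inv.app W (((Scheme.Modules.pullbackCongr hw).hom.app N).app W z)) h1).trans ?_
  refine (congrArg (cY.inv.app W) (congr_pullSect hw N U s)).trans ?_
  refine (H11Tilde.app_map_apply _ _ _).trans ?_
  exact congrArg _ (H17.PullSect.pullSect_comp fY gY N U s)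

variable (hpo : IsPushout (toRS.map fX) (toRS.map fY) (toRS.map gX) (toRS.map gY))

/-- Compatibility of a pair of sections. -/
def Compat (N : T.Modules) (U : T.Opens) (x : Γ((Scheme.Modules.pullback gX).obj N, gX ⁻¹ᵁ U))
    (y : Γ((Scheme.Modules.pullback gY).obj N, gY ⁻¹ᵁ U)) : Prop :=
  (xi hw N).hom.app (fX ⁻¹ᵁ gX ⁻¹ᵁ U) (OmegaSh.pullSect fX _ (gX ⁻¹ᵁ U) x) =
    ((Scheme.Modules.pullback fY).obj ((Scheme.Modules.pullback gY).obj N)).presheaf.map
      (homOfLE (preimage_le hw U)).op (OmegaSh.pullSect fY _ (gY ⁻¹ᵁ U) y)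

theorem compat_res (N : T.Modules) {U V : T.Opens} (h : V ≤ U) {x y}
    (hc : Compat hw N U x y) :
    Compat hw N V
      (((Scheme.Modules.pullback gX).obj N).presheaf.map (homOfLE (gX.preimage_mono h)).op x)
      (((Scheme.Modules.pullback gY).obj N).presheaf.map (homOfLE (gY.preimage_mono h)).op y) := by
  have hc' := congrArg (((Scheme.Modules.pullback fY).obj
    ((Scheme.Modules.pullback gY).obj N)).presheaf.map
      (homOfLE (fX.preimage_mono (gX.preimage_mono h))).op) hc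
  rw [← H11Tilde.app_map_apply, H10Coh.mres_mres] at hc'
  unfold Compat
  rw [OmegaSh.pullSect_map fX _ (gX.preimage_mono h), hc',
    OmegaSh.pullSect_map fY _ (gY.preimage_mono h), H10Coh.mres_mres]

include hw hpo in
theorem chart_sections (N : T.Modules) (hN : Coh.IsQCoh N) {U : T.Opens} {r : ℕ}
    {m : Fin r → Γ(N, U)} (hm : IsBasisOn N m) {V : T.Opens} (h : V ≤ U) :
    (∀ s : Γ(N, V), OmegaSh.pullSect gX N V s = 0 → OmegaSh.pullSect gY N V s = 0 → s = 0) ∧
    ∀ x y, Compat hw N V x y →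
      ∃ s : Γ(N, V), OmegaSh.pullSect gX N V s = x ∧ OmegaSh.pullSect gY N V s = y := by
  have hqX := H29Fitt.isQCoh_pullback gX N hN
  have hqY := H29Fitt.isQCoh_pullback gY N hN
  have bX := hm.pullback gX hN
  have bY := hm.pullback gY hN
  have bZ := bY.pullback fY hqY
  have psX : ∀ c : Fin r → Γ(T, V), OmegaSh.pullSect gX N V (comb N m h c) =
      comb _ (fun j => OmegaSh.pullSect gX N U (m j)) (gX.preimage_mono h)
        (fun j => gX.app V (c j)) := by
    intro c
    rw [comb, comb, map_sum]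
    exact Finset.sum_congr rfl fun j _ => by rw [OmegaSh.pullSect_smul, OmegaSh.pullSect_map]
  have psY : ∀ c : Fin r → Γ(T, V), OmegaSh.pullSect gY N V (comb N m h c) =
      comb _ (fun j => OmegaSh.pullSect gY N U (m j)) (gY.preimage_mono h)
        (fun j => gY.app V (c j)) := by
    intro c
    rw [comb, comb, map_sum]
    exact Finset.sum_congr rfl fun j _ => by rw [OmegaSh.pullSect_smul, OmegaSh.pullSect_map]
  obtain ⟨ext, lift⟩ := rs_sections hpo V (fX ⁻¹ᵁ gX ⁻¹ᵁ V) le_rfl le_rfl (preimage_le hw V)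
  refine ⟨fun s hx hy => ?_, fun x y hc => ?_⟩
  · obtain ⟨c, rfl⟩ := (hm V h).2 s
    rw [psX] at hx
    rw [psY] at hy
    have z : ∀ {S : Scheme.{u}} {F : S.Modules} {W' W : S.Opens} (n : Fin r → Γ(F, W)) (e : W' ≤ W),
        comb F n e 0 = 0 := fun n e => by simp [comb]
    have hx0 := (bX _ (gX.preimage_mono h)).1 (hx.trans (z _ _).symm)
    have hy0 := (bY _ (gY.preimage_mono h)).1 (hy.trans (z _ _).symm)
    have hc0 : c = 0 := funext fun j => ext (c j) 0
      ((congrFun hx0 j).trans (map_zero (gX.app V).hom).symm)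
      ((congrFun hy0 j).trans (map_zero (gY.app V).hom).symm)
    rw [hc0, z]
  · obtain ⟨a, rfl⟩ := (bX _ (gX.preimage_mono h)).2 x
    obtain ⟨b, rfl⟩ := (bY _ (gY.preimage_mono h)).2 y
    let W := fX ⁻¹ᵁ gX ⁻¹ᵁ V
    let hWU : W ≤ fY ⁻¹ᵁ gY ⁻¹ᵁ U :=
      (preimage_le hw V).trans (fY.preimage_mono (gY.preimage_mono h))
    have e1 : (xi hw N).hom.app W (OmegaSh.pullSect fX _ (gX ⁻¹ᵁ V)
        (comb _ (fun j => OmegaSh.pullSect gX N U (m j)) (gX.preimage_mono h) a)) =
        comb _ (fun j => OmegaSh.pullSect fY _ (gY ⁻¹ᵁ U) (OmegaSh.pullSect gY N U (m j))) hWU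
          (fun j => fX.app (gX ⁻¹ᵁ V) (a j)) := by
      rw [comb, comb, map_sum, map_sum]
      refine Finset.sum_congr rfl fun j _ => ?_
      rw [OmegaSh.pullSect_smul, Scheme.Modules.Hom.app_smul, OmegaSh.pullSect_map,
        H11Tilde.app_map_apply, xi_pullSect, H10Coh.mres_mres]
    have e2 : ((Scheme.Modules.pullback fY).obj ((Scheme.Modules.pullback gY).obj N)).presheaf.map
        (homOfLE (preimage_le hw V)).op (OmegaSh.pullSect fY _ (gY ⁻¹ᵁ V)
        (comb _ (fun j => OmegaSh.pullSect gY N U (m j)) (gY.preimage_mono h) b)) =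
        comb _ (fun j => OmegaSh.pullSect fY _ (gY ⁻¹ᵁ U) (OmegaSh.pullSect gY N U (m j))) hWU
          (fun j => fY.appLE (gY ⁻¹ᵁ V) W (preimage_le hw V) (b j)) := by
      rw [comb, comb, map_sum, map_sum]
      refine Finset.sum_congr rfl fun j _ => ?_
      rw [OmegaSh.pullSect_smul, Scheme.Modules.map_smul, OmegaSh.pullSect_map, H10Coh.mres_mres]
      rfl
    have hab := (bZ W hWU).1 (e1.symm.trans (hc.trans e2))
    have hab' : ∀ j, fX.appLE (gX ⁻¹ᵁ V) W le_rfl (a j) =
        fY.appLE (gY ⁻¹ᵁ V) W (preimage_le hw V) (b j) := fun j => by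
      rw [show fX.appLE (gX ⁻¹ᵁ V) W le_rfl = fX.app (gX ⁻¹ᵁ V) from fX.appLE_eq_app]
      exact congrFun hab j
    choose c hca hcb using fun j => lift (a j) (b j) (hab' j)
    exact ⟨comb N m h c, by rw [psX, funext hca], by rw [psY, funext hcb]⟩

include hw hpo in
theorem eq_zero_of_pullSect (N : T.Modules) (hN : FlatMod.IsFinLocFree N) (U : T.Opens)
    (s : Γ(N, U)) (hx : OmegaSh.pullSect gX N U s = 0) (hy : OmegaSh.pullSect gY N U s = 0) :
    s = 0 := by
  choose O n hxO e using hN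
  refine TopCat.Sheaf.eq_of_locally_eq' (H10Coh.sheafOf N) (fun x : U => O x.1 ⊓ U) U
    (fun x => homOfLE inf_le_right)
    (fun x hx => Opens.mem_iSup.2 ⟨⟨x, hx⟩, hxO x, hx⟩) s 0 fun x => ?_
  obtain ⟨m, hm⟩ := exists_isBasisOn_of_chart N (e x.1).some
  show N.presheaf.map (homOfLE inf_le_right).op s = N.presheaf.map (homOfLE inf_le_right).op 0
  rw [map_zero]
  refine (chart_sections hw hpo N (H8Props.FinLocFree.isQCoh_of_isFinLocFree N
    fun y => ⟨O y, n y, hxO y, e y⟩) hm (inf_le_left : O x.1 ⊓ U ≤ O x.1)).1 _ ?_ ?_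
  · rw [OmegaSh.pullSect_map, hx, map_zero]
  · rw [OmegaSh.pullSect_map, hy, map_zero]

include hw hpo in
theorem exists_section_of_compat (N : T.Modules) (hN : FlatMod.IsFinLocFree N) (U : T.Opens)
    (x : Γ((Scheme.Modules.pullback gX).obj N, gX ⁻¹ᵁ U))
    (y : Γ((Scheme.Modules.pullback gY).obj N, gY ⁻¹ᵁ U)) (hc : Compat hw N U x y) :
    ∃ s : Γ(N, U), OmegaSh.pullSect gX N U s = x ∧ OmegaSh.pullSect gY N U s = y := by
  have hN' := hN
  choose O n hxO e using hN
  let A := fun p : U => O p.1 ⊓ U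
  have hloc : ∀ p : U, ∃ s : Γ(N, A p),
      OmegaSh.pullSect gX N (A p) s = ((Scheme.Modules.pullback gX).obj N).presheaf.map
        (homOfLE (gX.preimage_mono (inf_le_right : A p ≤ U))).op x ∧
      OmegaSh.pullSect gY N (A p) s = ((Scheme.Modules.pullback gY).obj N).presheaf.map
        (homOfLE (gY.preimage_mono (inf_le_right : A p ≤ U))).op y := fun p => by
    obtain ⟨m, hm⟩ := exists_isBasisOn_of_chart N (e p.1).some
    exact (chart_sections hw hpo N (H8Props.FinLocFree.isQCoh_of_isFinLocFree N hN') hm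
      inf_le_left).2 _ _ (compat_res hw N inf_le_right hc)
  choose t htx hty using hloc
  have hcov : U ≤ iSup A := fun p hp => Opens.mem_iSup.2 ⟨⟨p, hp⟩, hxO p, hp⟩
  have hcompat : ∀ p q : U, N.presheaf.map (homOfLE (inf_le_left : A p ⊓ A q ≤ A p)).op (t p) =
      N.presheaf.map (homOfLE (inf_le_right : A p ⊓ A q ≤ A q)).op (t q) := fun p q => by
    refine sub_eq_zero.1 (eq_zero_of_pullSect hw hpo N hN' _ _ ?_ ?_)
    · rw [map_sub, OmegaSh.pullSect_map, OmegaSh.pullSect_map, htx, htx, H10Coh.mres_mres,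
        H10Coh.mres_mres, sub_self]
    · rw [map_sub, OmegaSh.pullSect_map, OmegaSh.pullSect_map, hty, hty, H10Coh.mres_mres,
        H10Coh.mres_mres, sub_self]
  obtain ⟨s₀, hs₀, -⟩ := (H10Coh.sheafOf N).existsUnique_gluing' A U
    (fun p => homOfLE inf_le_right) hcov t hcompat
  let s : Γ(N, U) := s₀
  have hs : ∀ p, N.presheaf.map (homOfLE (inf_le_right : A p ≤ U)).op s = t p := hs₀
  refine ⟨s, ?_, ?_⟩
  · refine TopCat.Sheaf.eq_of_locally_eq' (H10Coh.sheafOf _) (fun p => gX ⁻¹ᵁ A p) _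
      (fun p => homOfLE (gX.preimage_mono inf_le_right)) (fun z hz => ?_) _ _ fun p => ?_
    · obtain ⟨p, hp⟩ := Opens.mem_iSup.1 (hcov (show gX z ∈ U from hz))
      exact Opens.mem_iSup.2 ⟨p, hp⟩
    · show ((Scheme.Modules.pullback gX).obj N).presheaf.map _ (OmegaSh.pullSect gX N U s) = _
      rw [← OmegaSh.pullSect_map gX N (inf_le_right : A p ≤ U), hs, htx]
      rfl
  · refine TopCat.Sheaf.eq_of_locally_eq' (H10Coh.sheafOf _) (fun p => gY ⁻¹ᵁ A p) _
      (fun p => homOfLE (gY.preimage_mono inf_le_right)) (fun z hz => ?_) _ _ fun p => ?_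
    · obtain ⟨p, hp⟩ := Opens.mem_iSup.1 (hcov (show gY z ∈ U from hz))
      exact Opens.mem_iSup.2 ⟨p, hp⟩
    · show ((Scheme.Modules.pullback gY).obj N).presheaf.map _ (OmegaSh.pullSect gY N U s) = _
      rw [← OmegaSh.pullSect_map gY N (inf_le_right : A p ≤ U), hs, hty]
      rfl

/-- Maps out of a pullback are determined by their values on pulled back sections. -/
theorem pullback_hom_ext {S S' : Scheme.{u}} (g : S ⟶ S') {M : S'.Modules} {F : S.Modules}
    {a b : (Scheme.Modules.pullback g).obj M ⟶ F}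
    (h : ∀ (U : S'.Opens) (s : Γ(M, U)), a.app (g ⁻¹ᵁ U) (OmegaSh.pullSect g M U s) =
      b.app (g ⁻¹ᵁ U) (OmegaSh.pullSect g M U s)) : a = b := by
  refine ((Scheme.Modules.pullbackPushforwardAdjunction g).homEquiv _ _).injective
    (Scheme.Modules.hom_ext _ _ fun U => ConcreteCategory.hom_ext _ _ fun s => ?_)
  rw [Adjunction.homEquiv_unit, Adjunction.homEquiv_unit]
  exact h U s

include hw hpo in
theorem hom_ext_of_pullbacks (M N : T.Modules) (hN : FlatMod.IsFinLocFree N) (φ ψ : M ⟶ N)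
    (h1 : (Scheme.Modules.pullback gX).map φ = (Scheme.Modules.pullback gX).map ψ)
    (h2 : (Scheme.Modules.pullback gY).map φ = (Scheme.Modules.pullback gY).map ψ) : φ = ψ := by
  refine Scheme.Modules.hom_ext _ _ fun U => ConcreteCategory.hom_ext _ _ fun s => ?_
  refine sub_eq_zero.1 (eq_zero_of_pullSect hw hpo N hN U _ ?_ ?_)
  · rw [map_sub, H17.PullSect.pullSect_natural, H17.PullSect.pullSect_natural, h1, sub_self]
  · rw [map_sub, H17.PullSect.pullSect_natural, H17.PullSect.pullSect_natural, h2, sub_self]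

include hw hpo in
theorem exists_hom_of_pullbacks (M N : T.Modules) (hN : FlatMod.IsFinLocFree N)
    (a : (Scheme.Modules.pullback gX).obj M ⟶ (Scheme.Modules.pullback gX).obj N)
    (b : (Scheme.Modules.pullback gY).obj M ⟶ (Scheme.Modules.pullback gY).obj N)
    (hab : (Scheme.Modules.pullback fX).map a ≫ (xi hw N).hom =
      (xi hw M).hom ≫ (Scheme.Modules.pullback fY).map b) :
    ∃ φ : M ⟶ N, (Scheme.Modules.pullback gX).map φ = a ∧ (Scheme.Modules.pullback gY).map φ = b := by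
  have hc : ∀ (U : T.Opens) (s : Γ(M, U)), Compat hw N U
      (a.app (gX ⁻¹ᵁ U) (OmegaSh.pullSect gX M U s))
      (b.app (gY ⁻¹ᵁ U) (OmegaSh.pullSect gY M U s)) := by
    intro U s
    have key := congr(Scheme.Modules.Hom.app $hab (fX ⁻¹ᵁ gX ⁻¹ᵁ U)
      (OmegaSh.pullSect fX _ (gX ⁻¹ᵁ U) (OmegaSh.pullSect gX M U s)))
    simp only [Scheme.Modules.Hom.comp_app, ConcreteCategory.comp_apply] at key
    rw [← H17.PullSect.pullSect_natural, xi_pullSect, H11Tilde.app_map_apply,
      ← H17.PullSect.pullSect_natural] at key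
    exact key
  choose θ hθX hθY using fun U s => exists_section_of_compat hw hpo N hN U _ _ (hc U s)
  have uniq : ∀ (U : T.Opens) (n n' : Γ(N, U)),
      OmegaSh.pullSect gX N U n = OmegaSh.pullSect gX N U n' →
      OmegaSh.pullSect gY N U n = OmegaSh.pullSect gY N U n' → n = n' := fun U n n' h h' =>
    sub_eq_zero.1 (eq_zero_of_pullSect hw hpo N hN U _ (by rw [map_sub, h, sub_self])
      (by rw [map_sub, h', sub_self]))
  have hadd : ∀ U s s', θ U (s + s') = θ U s + θ U s' := fun U s s' =>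
    uniq U _ _ (by rw [map_add, hθX, hθX, hθX, map_add, map_add])
      (by rw [map_add, hθY, hθY, hθY, map_add, map_add])
  have hsmul : ∀ U (r : Γ(T, U)) s, θ U (r • s) = r • θ U s := fun U r s => uniq U _ _
    (by rw [OmegaSh.pullSect_smul, hθX, hθX, OmegaSh.pullSect_smul, Scheme.Modules.Hom.app_smul])
    (by rw [OmegaSh.pullSect_smul, hθY, hθY, OmegaSh.pullSect_smul, Scheme.Modules.Hom.app_smul])
  have hnat : ∀ (U V : T.Opens) (e : V ≤ U) (s : Γ(M, U)),
      θ V (M.presheaf.map (homOfLE e).op s) = N.presheaf.map (homOfLE e).op (θ U s) :=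
    fun U V e s => uniq V _ _
      (by rw [hθX, OmegaSh.pullSect_map, OmegaSh.pullSect_map, hθX, H11Tilde.app_map_apply])
      (by rw [hθY, OmegaSh.pullSect_map, OmegaSh.pullSect_map, hθY, H11Tilde.app_map_apply])
  let φ : M ⟶ N := ⟨PresheafOfModules.homMk
    { app := fun W => AddCommGrpCat.ofHom (AddMonoidHom.mk' (θ W.unop) (hadd W.unop))
      naturality := fun W W' i => by
        ext t
        exact hnat W.unop W'.unop i.unop.le t }
    fun W r t => hsmul W.unop r t⟩
  refine ⟨φ, pullback_hom_ext gX fun U s => ?_, pullback_hom_ext gY fun U s => ?_⟩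
  · rw [← H17.PullSect.pullSect_natural]
    exact hθX U s
  · rw [← H17.PullSect.pullSect_natural]
    exact hθY U s

end Groth.Agent.H28Pinch
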