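import Groth.Agent.H28Pinch.RingedBC

/-!
# Squares covered by charts are pushouts of ringed spaces
-/

set_option autoImplicit false
set_option linter.style.haveILetI false

universe u

open CategoryTheory AlgebraicGeometry Limits TopologicalSpace Opposite

namespace Groth.Agent.H28Pinch

open H7Flat

section Ring

variable {R A' B A : Type u} [CommRing R] [CommRing A'] [CommRing B] [CommRing A]
  {pa : R →+* A'} {pb : R →+* B} {p : A' →+* A} {q : B →+* A}

theorem fibre_eq_or_lift (h : RingSq pa pb p q) (α α' : PrimeSpectrum A')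
    (e : PrimeSpectrum.comap pa α = PrimeSpectrum.comap pa α') :
    α = α' ∨ ∃ z z', PrimeSpectrum.comap p z = α ∧ PrimeSpectrum.comap p z' = α' := by
  classical
  by_cases h1 : RingHom.ker p ≤ α.asIdeal
  · by_cases h2 : RingHom.ker p ≤ α'.asIdeal
    · right
      obtain ⟨z, hz⟩ : α ∈ Set.range (PrimeSpectrum.comap p) := by
        rw [range_comap_of_surjective _ _ h.surj]; exact h1
      obtain ⟨z', hz'⟩ : α' ∈ Set.range (PrimeSpectrum.comap p) := by
        rw [range_comap_of_surjective _ _ h.surj]; exact h2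
      exact ⟨z, z', hz, hz'⟩
    · exfalso
      obtain ⟨j, hj, hjα⟩ := SetLike.not_le_iff_exists.1 h2
      obtain ⟨r, hr, -⟩ := h.exists_lift j 0 (by rw [map_zero]; exact hj)
      have : r ∈ (PrimeSpectrum.comap pa α).asIdeal := by
        show pa r ∈ α.asIdeal
        rw [hr]; exact h1 hj
      rw [e] at this
      change pa r ∈ α'.asIdeal at this
      rw [hr] at this
      exact hjα this
  · left
    obtain ⟨j, hj, hjα⟩ := SetLike.not_le_iff_exists.1 h1
    obtain ⟨rj, hrj, -⟩ := h.exists_lift j 0 (by rw [map_zero]; exact hj)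
    have hjα' : j ∉ α'.asIdeal := fun hh => by
      have : rj ∈ (PrimeSpectrum.comap pa α').asIdeal := by show pa rj ∈ α'.asIdeal; rwa [hrj]
      rw [← e] at this
      exact hjα (hrj ▸ this)
    ext x
    obtain ⟨r, hr, -⟩ := h.exists_lift (j * x) 0 (by
      rw [map_mul, show p j = 0 from hj, zero_mul, map_zero])
    have hiff : pa r ∈ α.asIdeal ↔ pa r ∈ α'.asIdeal :=
      iff_of_eq (congrArg (fun P : PrimeSpectrum R => r ∈ P.asIdeal) e)
    rw [hr] at hiff
    constructor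
    · intro hx
      exact (α'.isPrime.mem_or_mem (hiff.1 (Ideal.mul_mem_left _ _ hx))).resolve_left hjα'
    · intro hx
      exact (α.isPrime.mem_or_mem (hiff.2 (Ideal.mul_mem_left _ _ hx))).resolve_left hjα

theorem fibre_mixed (h : RingSq pa pb p q) (α : PrimeSpectrum A') (β : PrimeSpectrum B)
    (e : PrimeSpectrum.comap pa α = PrimeSpectrum.comap pb β) :
    ∃ z, PrimeSpectrum.comap p z = α ∧ PrimeSpectrum.comap q z = β := by
  obtain ⟨z, hz⟩ : α ∈ Set.range (PrimeSpectrum.comap p) := by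
    rw [range_comap_of_surjective _ _ h.surj]
    intro j hj
    obtain ⟨r, hr, hr'⟩ := h.exists_lift j 0 (by rw [map_zero]; exact hj)
    have : r ∈ (PrimeSpectrum.comap pb β).asIdeal := by
      show pb r ∈ β.asIdeal; rw [hr']; exact zero_mem _
    rw [← e] at this
    change pa r ∈ α.asIdeal at this
    rwa [hr] at this
  refine ⟨z, hz, ?_⟩
  apply PrimeSpectrum.comap_injective_of_surjective pb h.snd_surjective
  rw [← e, ← hz]
  ext r
  show q (pb r) ∈ z.asIdeal ↔ p (pa r) ∈ z.asIdeal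
  rw [h.comm]

end Ring

theorem appLE_injective_of_eq_image {U X : Scheme.{u}} (j : U ⟶ X) [IsOpenImmersion j] {W : X.Opens}
    (hW : W = j ''ᵁ ⊤) (e : ⊤ ≤ j ⁻¹ᵁ W) : Function.Injective (j.appLE W ⊤ e) := by
  subst hW
  rw [← j.appIso_hom']
  exact (ConcreteCategory.bijective_of_isIso _).1

theorem map_map_eq' {W : PresheafedSpace.{u, u + 1, u} CommRingCat.{u}}
    {A B B' C : (Opens W.carrier)ᵒᵖ} (a : A ⟶ B) (b : B ⟶ C) (a' : A ⟶ B') (b' : B' ⟶ C)
    (z : W.presheaf.obj A) :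
    W.presheaf.map b (W.presheaf.map a z) = W.presheaf.map b' (W.presheaf.map a' z) :=
  (map_map_eq a b (a ≫ b) z).trans (map_map_eq a' b' (a ≫ b) z).symm

variable {X T Z P : Scheme.{u}} {ι : Z ⟶ X} {ξ : Z ⟶ T} {a : X ⟶ P} {b : T ⟶ P}

namespace Chart

variable (hcov : ∀ (O : P.Opens) (r : P), r ∈ O →
  ∃ c : Chart ι ξ a b, r ∈ Set.range c.u ∧ Set.range c.u ⊆ (O : Set P))

include hcov

theorem jointly_surjective (r : P) : (∃ x, a x = r) ∨ ∃ τ, b τ = r := by
  obtain ⟨c, ⟨s, rfl⟩, -⟩ := hcov ⊤ r trivial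
  obtain ⟨β, hβ⟩ | ⟨α, hα, -⟩ := c.sq.exists_preimage s
  · refine Or.inr ⟨c.uT β, ?_⟩
    rw [← Scheme.Hom.comp_apply, ← c.pbT.w, Scheme.Hom.comp_apply, ← hβ]
    rfl
  · refine Or.inl ⟨c.uX α, ?_⟩
    rw [← Scheme.Hom.comp_apply, ← c.pbX.w, Scheme.Hom.comp_apply, ← hα]
    rfl

theorem a_eq_a {x x' : X} (e : a x = a x') : x = x' ∨ ∃ z z', ι z = x ∧ ι z' = x' := by
  obtain ⟨c, hc, -⟩ := hcov ⊤ (a x) trivial
  obtain ⟨α, rfl⟩ := mem_range_of_fst c.pbX hc
  obtain ⟨α', rfl⟩ := mem_range_of_fst c.pbX (e ▸ hc)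
  rw [← Scheme.Hom.comp_apply, ← c.pbX.w, ← Scheme.Hom.comp_apply, ← c.pbX.w,
    Scheme.Hom.comp_apply, Scheme.Hom.comp_apply] at e
  rcases fibre_eq_or_lift c.sq α α' (c.u.isOpenEmbedding.injective e) with rfl | ⟨z, z', hz, hz'⟩
  · exact Or.inl rfl
  · refine Or.inr ⟨c.uZ z, c.uZ z', ?_, ?_⟩
    · rw [← Scheme.Hom.comp_apply, ← c.hι, Scheme.Hom.comp_apply, ← hz]; rfl
    · rw [← Scheme.Hom.comp_apply, ← c.hι, Scheme.Hom.comp_apply, ← hz']; rfl

theorem a_eq_b {x : X} {τ : T} (e : a x = b τ) : ∃ z, ι z = x ∧ ξ z = τ := by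
  obtain ⟨c, hc, -⟩ := hcov ⊤ (a x) trivial
  obtain ⟨α, rfl⟩ := mem_range_of_fst c.pbX hc
  obtain ⟨β, rfl⟩ : τ ∈ Set.range c.uT := by
    obtain ⟨v, hv⟩ := hc
    obtain ⟨w, -, hw⟩ := Scheme.Pullback.exists_preimage_pullback v τ (hv.trans e)
    refine ⟨c.pbT.isoPullback.inv w, ?_⟩
    rw [← Scheme.Hom.comp_apply, c.pbT.isoPullback_inv_snd]
    exact hw
  rw [← Scheme.Hom.comp_apply, ← c.pbX.w, ← Scheme.Hom.comp_apply, ← c.pbT.w,
    Scheme.Hom.comp_apply, Scheme.Hom.comp_apply] at e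
  obtain ⟨z, hz, hz'⟩ := fibre_mixed c.sq α β (c.u.isOpenEmbedding.injective e)
  refine ⟨c.uZ z, ?_, ?_⟩
  · rw [← Scheme.Hom.comp_apply, ← c.hι, Scheme.Hom.comp_apply, ← hz]; rfl
  · rw [← Scheme.Hom.comp_apply, ← c.hξ, Scheme.Hom.comp_apply, ← hz']; rfl

theorem b_injective : Function.Injective b := by
  intro τ τ' e
  obtain ⟨c, ⟨v, hv⟩, -⟩ := hcov ⊤ (b τ) trivial
  have key : ∀ σ, b σ = b τ → ∃ β, c.uT β = σ := fun σ hσ => by
    obtain ⟨w, -, hw⟩ := Scheme.Pullback.exists_preimage_pullback v σ (hv.trans hσ.symm)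
    refine ⟨c.pbT.isoPullback.inv w, ?_⟩
    rw [← Scheme.Hom.comp_apply, c.pbT.isoPullback_inv_snd]
    exact hw
  obtain ⟨β, rfl⟩ := key τ rfl
  obtain ⟨β', rfl⟩ := key τ' e.symm
  rw [← Scheme.Hom.comp_apply, ← c.pbT.w, ← Scheme.Hom.comp_apply, ← c.pbT.w,
    Scheme.Hom.comp_apply, Scheme.Hom.comp_apply] at e
  rw [PrimeSpectrum.comap_injective_of_surjective c.pb c.sq.snd_surjective
    (c.u.isOpenEmbedding.injective e)]

theorem isOpen_of_preimage (O : Set P) (hX : IsOpen (a ⁻¹' O)) (hT : IsOpen (b ⁻¹' O)) :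
    IsOpen O := by
  refine isOpen_iff_forall_mem_open.mpr fun r hr => ?_
  obtain ⟨c, ⟨s, rfl⟩, -⟩ := hcov ⊤ r trivial
  let OA : Opens (PrimeSpectrum c.A') := ⟨c.uX ⁻¹' (a ⁻¹' O), hX.preimage c.uX.continuous⟩
  let OB : Opens (PrimeSpectrum c.B) := ⟨c.uT ⁻¹' (b ⁻¹' O), hT.preimage c.uT.continuous⟩
  have hA : ∀ α, α ∈ OA ↔ c.u (sm c.pa α) ∈ O := fun α => by
    rw [← Scheme.Hom.comp_apply, c.pbX.w, Scheme.Hom.comp_apply]; rfl
  have hB : ∀ β, β ∈ OB ↔ c.u (sm c.pb β) ∈ O := fun β => by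
    rw [← Scheme.Hom.comp_apply, c.pbT.w, Scheme.Hom.comp_apply]; rfl
  obtain ⟨e, hre, heA, heB⟩ := RingSq.exists_elem c.sq OA OB (fun x => by
      rw [hA, hB]
      have : sm c.pa (PrimeSpectrum.comap c.p x) = sm c.pb (PrimeSpectrum.comap c.q x) := by
        refine PrimeSpectrum.ext (Ideal.ext fun z => ?_)
        show c.p (c.pa z) ∈ x.asIdeal ↔ c.q (c.pb z) ∈ x.asIdeal
        rw [c.sq.comm]
      rw [this]) s (by
      obtain ⟨β, hβ⟩ | ⟨α, hα, -⟩ := c.sq.exists_preimage s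
      · exact Or.inr ⟨β, (hB β).2 (by rw [show sm c.pb β = s from hβ]; exact hr), hβ⟩
      · exact Or.inl ⟨α, (hA α).2 (by rw [show sm c.pa α = s from hα]; exact hr), hα⟩)
  refine ⟨c.u '' (PrimeSpectrum.basicOpen e : Set (PrimeSpectrum c.R)), ?_,
    c.u.isOpenEmbedding.isOpenMap _ (PrimeSpectrum.basicOpen e).2, ⟨s, hre, rfl⟩⟩
  rintro _ ⟨s', hs', rfl⟩
  obtain ⟨β, hβ⟩ | ⟨α, hα, -⟩ := c.sq.exists_preimage s'
  · rw [← hβ]
    exact (hB β).1 (heB (by rw [← hβ] at hs'; exact hs'))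
  · rw [← hα]
    exact (hA α).1 (heA (by rw [← hα] at hs'; exact hs'))

theorem exists_section (U : P.Opens) (x : Γ(X, a ⁻¹ᵁ U)) (y : Γ(T, b ⁻¹ᵁ U)) (W : Z.Opens)
    (h₁ : W ≤ ι ⁻¹ᵁ a ⁻¹ᵁ U) (h₁' : ι ⁻¹ᵁ a ⁻¹ᵁ U ≤ W) (h₂ : W ≤ ξ ⁻¹ᵁ b ⁻¹ᵁ U)
    (h : ι.appLE (a ⁻¹ᵁ U) W h₁ x = ξ.appLE (b ⁻¹ᵁ U) W h₂ y) :
    ∃ s : Γ(P, U), a.app U s = x ∧ b.app U s = y := by
  classical
  choose c hc hcU using fun r : U => hcov U r.1 r.2
  let V : U → P.Opens := fun r => (c r).u ''ᵁ ⊤
  have hVU : ∀ r, V r ≤ U := fun r => by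
    rintro _ ⟨v, -, rfl⟩; exact hcU r ⟨v, rfl⟩
  haveI : ∀ r, IsOpenImmersion (c r).uX := fun r => isOpenImmersion_uX (c r)
  haveI : ∀ r, IsOpenImmersion (c r).uT := fun r => isOpenImmersion_uT (c r)
  have hX : ∀ r, a ⁻¹ᵁ V r = (c r).uX ''ᵁ ⊤ := fun r => by
    ext x'
    constructor
    · rintro ⟨v, -, hv⟩
      obtain ⟨α, rfl⟩ := mem_range_of_fst (c r).pbX ⟨v, hv⟩
      exact ⟨α, trivial, rfl⟩
    · rintro ⟨α, -, rfl⟩
      refine ⟨sm (c r).pa α, trivial, ?_⟩
      exact congrArg (fun m : Spec _ ⟶ P => m α) (c r).pbX.w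
  have hT : ∀ r, b ⁻¹ᵁ V r = (c r).uT ''ᵁ ⊤ := fun r => by
    haveI := isOpenImmersion_uT (c r)
    ext τ
    constructor
    · rintro ⟨v, -, hv⟩
      obtain ⟨w, -, hw⟩ := Scheme.Pullback.exists_preimage_pullback v τ hv
      refine ⟨(c r).pbT.isoPullback.inv w, trivial, ?_⟩
      exact (congrArg (fun m : _ ⟶ T => m w) (c r).pbT.isoPullback_inv_snd).trans hw
    · rintro ⟨β, -, rfl⟩
      refine ⟨sm (c r).pb β, trivial, ?_⟩
      exact congrArg (fun m : Spec _ ⟶ P => m β) (c r).pbT.w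
  have hloc : ∀ r, ∃ s : Γ(P, V r),
      a.app (V r) s = X.presheaf.map (homOfLE (fun _ hz => hVU r hz)).op x ∧
      b.app (V r) s = T.presheaf.map (homOfLE (fun _ hz => hVU r hz)).op y := by
    intro r
    haveI := isOpenImmersion_uX (c r)
    haveI := isOpenImmersion_uT (c r)
    have eu : ⊤ ≤ (c r).u ⁻¹ᵁ V r := fun v _ => ⟨v, trivial, rfl⟩
    have eX : ⊤ ≤ (c r).uX ⁻¹ᵁ a ⁻¹ᵁ V r := fun v _ => (hX r).ge ⟨v, trivial, rfl⟩
    have eT : ⊤ ≤ (c r).uT ⁻¹ᵁ b ⁻¹ᵁ V r := fun v _ => (hT r).ge ⟨v, trivial, rfl⟩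
    have eX' : ⊤ ≤ (c r).uX ⁻¹ᵁ a ⁻¹ᵁ U := fun v hv => hVU r (eX hv)
    have eT' : ⊤ ≤ (c r).uT ⁻¹ᵁ b ⁻¹ᵁ U := fun v hv => hVU r (eT hv)
    have eZ : ⊤ ≤ (c r).uZ ⁻¹ᵁ W := fun v _ => h₁' (by
      show a (ι ((c r).uZ v)) ∈ U
      rw [← Scheme.Hom.comp_apply _ ι, ← (c r).hι, Scheme.Hom.comp_apply]
      exact eX' (Set.mem_univ _))
    let eR := Scheme.ΓSpecIso (CommRingCat.of (c r).R)
    let eA' := Scheme.ΓSpecIso (CommRingCat.of (c r).A')
    let eB := Scheme.ΓSpecIso (CommRingCat.of (c r).B)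
    let eA := Scheme.ΓSpecIso (CommRingCat.of (c r).A)
    have hp : CommRingCat.ofHom (c r).p = eA'.inv ≫ (sm (c r).p).appLE ⊤ ⊤ le_top ≫ eA.hom := by
      rw [show (sm (c r).p).appLE ⊤ ⊤ le_top = (sm (c r).p).appTop from Scheme.Hom.appLE_eq_app _,
        Scheme.ΓSpecIso_naturality, Iso.inv_hom_id_assoc]
    have hq : CommRingCat.ofHom (c r).q = eB.inv ≫ (sm (c r).q).appLE ⊤ ⊤ le_top ≫ eA.hom := by
      rw [show (sm (c r).q).appLE ⊤ ⊤ le_top = (sm (c r).q).appTop from Scheme.Hom.appLE_eq_app _,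
        Scheme.ΓSpecIso_naturality, Iso.inv_hom_id_assoc]
    let xA := eA'.hom ((c r).uX.appLE (a ⁻¹ᵁ U) ⊤ eX' x)
    let yB := eB.hom ((c r).uT.appLE (b ⁻¹ᵁ U) ⊤ eT' y)
    obtain ⟨z, hz1, hz2⟩ := (c r).sq.exists_lift xA yB (by
      have h' := congrArg (fun w => eA.hom ((c r).uZ.appLE W ⊤ eZ w)) h
      change (ι.appLE _ W h₁ ≫ (c r).uZ.appLE W ⊤ eZ ≫ eA.hom) x =
        (ξ.appLE _ W h₂ ≫ (c r).uZ.appLE W ⊤ eZ ≫ eA.hom) y at h'
      change ((c r).uX.appLE _ ⊤ eX' ≫ eA'.hom ≫ CommRingCat.ofHom (c r).p) x =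
        ((c r).uT.appLE _ ⊤ eT' ≫ eB.hom ≫ CommRingCat.ofHom (c r).q) y
      rw [hp, hq, Iso.hom_inv_id_assoc, Iso.hom_inv_id_assoc, Scheme.Hom.appLE_comp_appLE_assoc,
        Scheme.Hom.appLE_comp_appLE_assoc]
      rw [Scheme.Hom.appLE_comp_appLE_assoc, Scheme.Hom.appLE_comp_appLE_assoc] at h'
      convert h' using 4
      · congr 1; exact (c r).hι
      · congr 1; exact (c r).hξ)
    let s := ((c r).u.appIso ⊤).inv (eR.inv z)
    have hs : (c r).u.appLE (V r) ⊤ eu s = eR.inv z := by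
      rw [← Scheme.Hom.appIso_hom', ← CommRingCat.comp_apply, Iso.inv_hom_id]
      rfl
    refine ⟨s, ?_, ?_⟩
    · apply appLE_injective_of_eq_image (c r).uX (hX r) eX
      apply (ConcreteCategory.bijective_of_isIso eA'.hom).1
      have e1 : eA'.hom ((c r).uX.appLE (a ⁻¹ᵁ V r) ⊤ eX (a.app (V r) s)) =
          (c r).pa (eR.hom ((c r).u.appLE (V r) ⊤ eu s)) := by
        change (a.app (V r) ≫ (c r).uX.appLE _ ⊤ eX ≫ eA'.hom) s =
          ((c r).u.appLE (V r) ⊤ eu ≫ eR.hom ≫ CommRingCat.ofHom (c r).pa) s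
        rw [← Scheme.ΓSpecIso_naturality, show (Spec.map (CommRingCat.ofHom (c r).pa)).appTop =
            (Spec.map (CommRingCat.ofHom (c r).pa)).appLE ⊤ ⊤ le_top from
            (Scheme.Hom.appLE_eq_app _).symm,
          ← a.appLE_eq_app, Scheme.Hom.appLE_comp_appLE_assoc, Scheme.Hom.appLE_comp_appLE_assoc]
        congr! 3
        congr 1
        exact (c r).pbX.w.symm
      rw [e1, hs, ← CommRingCat.comp_apply eR.inv, Iso.inv_hom_id]
      change (c r).pa z = (X.presheaf.map _ ≫ (c r).uX.appLE _ ⊤ eX ≫ eA'.hom) x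
      rw [hz1, Scheme.Hom.map_appLE_assoc]
      rfl
    · apply appLE_injective_of_eq_image (c r).uT (hT r) eT
      apply (ConcreteCategory.bijective_of_isIso eB.hom).1
      have e1 : eB.hom ((c r).uT.appLE (b ⁻¹ᵁ V r) ⊤ eT (b.app (V r) s)) =
          (c r).pb (eR.hom ((c r).u.appLE (V r) ⊤ eu s)) := by
        change (b.app (V r) ≫ (c r).uT.appLE _ ⊤ eT ≫ eB.hom) s =
          ((c r).u.appLE (V r) ⊤ eu ≫ eR.hom ≫ CommRingCat.ofHom (c r).pb) s
        rw [← Scheme.ΓSpecIso_naturality, show (Spec.map (CommRingCat.ofHom (c r).pb)).appTop =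
            (Spec.map (CommRingCat.ofHom (c r).pb)).appLE ⊤ ⊤ le_top from
            (Scheme.Hom.appLE_eq_app _).symm,
          ← b.appLE_eq_app, Scheme.Hom.appLE_comp_appLE_assoc, Scheme.Hom.appLE_comp_appLE_assoc]
        congr! 3
        congr 1
        exact (c r).pbT.w.symm
      rw [e1, hs, ← CommRingCat.comp_apply eR.inv, Iso.inv_hom_id]
      change (c r).pb z = (T.presheaf.map _ ≫ (c r).uT.appLE _ ⊤ eT ≫ eB.hom) y
      rw [hz2, Scheme.Hom.map_appLE_assoc]
      rfl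
  choose sl hslX hslT using hloc
  have hcover : U ≤ iSup V := fun r hr =>
    Opens.mem_iSup.mpr ⟨⟨r, hr⟩, by obtain ⟨v, hv⟩ := hc ⟨r, hr⟩; exact ⟨v, trivial, hv⟩⟩
  obtain ⟨s, hs, -⟩ := TopCat.Sheaf.existsUnique_gluing' P.sheaf V U (fun r => homOfLE (hVU r))
    hcover sl (fun i j => by
      refine section_ext hcov _ _ _ ?_ ?_
      · show a.app _ (P.presheaf.map (Opens.infLELeft (V i) (V j)).op (sl i)) =
          a.app _ (P.presheaf.map (Opens.infLERight (V i) (V j)).op (sl j))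
        rw [← CommRingCat.comp_apply, ← CommRingCat.comp_apply, a.naturality, a.naturality,
          CommRingCat.comp_apply, CommRingCat.comp_apply, hslX, hslX, ← CommRingCat.comp_apply,
          ← CommRingCat.comp_apply, ← Functor.map_comp, ← Functor.map_comp]
        rfl
      · show b.app _ (P.presheaf.map (Opens.infLELeft (V i) (V j)).op (sl i)) =
          b.app _ (P.presheaf.map (Opens.infLERight (V i) (V j)).op (sl j))
        rw [← CommRingCat.comp_apply, ← CommRingCat.comp_apply, b.naturality, b.naturality,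
          CommRingCat.comp_apply, CommRingCat.comp_apply, hslT, hslT, ← CommRingCat.comp_apply,
          ← CommRingCat.comp_apply, ← Functor.map_comp, ← Functor.map_comp]
        rfl)
  refine ⟨s, ?_, ?_⟩
  · refine TopCat.Sheaf.eq_of_locally_eq' X.sheaf (fun r => a ⁻¹ᵁ V r) _
      (fun r => homOfLE fun _ hz => hVU r hz) (fun z hz => ?_) _ _ fun r => ?_
    · obtain ⟨r, hr⟩ := Opens.mem_iSup.mp (hcover (show a z ∈ U from hz))
      exact Opens.mem_iSup.mpr ⟨r, hr⟩
    · refine Eq.trans ?_ (hslX r)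
      rw [← hs r]
      show (a.app U ≫ X.presheaf.map _) s = (P.presheaf.map (homOfLE (hVU r)).op ≫ a.app (V r)) s
      rw [a.naturality]
      rfl
  · refine TopCat.Sheaf.eq_of_locally_eq' T.sheaf (fun r => b ⁻¹ᵁ V r) _
      (fun r => homOfLE fun _ hz => hVU r hz) (fun z hz => ?_) _ _ fun r => ?_
    · obtain ⟨r, hr⟩ := Opens.mem_iSup.mp (hcover (show b z ∈ U from hz))
      exact Opens.mem_iSup.mpr ⟨r, hr⟩
    · refine Eq.trans ?_ (hslT r)
      rw [← hs r]
      show (b.app U ≫ T.presheaf.map _) s = (P.presheaf.map (homOfLE (hVU r)).op ≫ b.app (V r)) s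
      rw [b.naturality]
      rfl

/-- A square covered by charts is a pushout of ringed spaces. -/
theorem isPushout_rs (w : ι ≫ a = ξ ≫ b) :
    IsPushout (toRS.map ι) (toRS.map ξ) (toRS.map a) (toRS.map b) := by
  classical
  have key : ∀ s : PushoutCocone (toRS.map ι) (toRS.map ξ),
      ∃! m : toRS.obj P ⟶ s.pt, toRS.map a ≫ m = s.inl ∧ toRS.map b ≫ m = s.inr := by
    intro s
    let g := s.inl.hom
    let g' := s.inr.hom
    have hgg : (toRS.map ι).hom ≫ g = (toRS.map ξ).hom ≫ g' :=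
      congrArg (fun m => InducedCategory.Hom.hom m) s.condition
    have hpt : ∀ z : Z, g.base (ι z) = g'.base (ξ z) := fun z => by
      exact ConcreteCategory.congr_hom (congrArg (fun m => PresheafedSpace.Hom.base m) hgg) z
    let φ₀ : P → s.pt.carrier := fun r =>
      if h : ∃ τ, b τ = r then g'.base h.choose
      else g.base (((jointly_surjective hcov r).resolve_right h).choose)
    have hφb : ∀ τ, φ₀ (b τ) = g'.base τ := fun τ => by
      have h : ∃ τ', b τ' = b τ := ⟨τ, rfl⟩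
      simp only [φ₀, dif_pos h]
      rw [b_injective hcov h.choose_spec]
    have hφa : ∀ x, φ₀ (a x) = g.base x := fun x => by
      by_cases h : ∃ τ, b τ = a x
      · obtain ⟨τ, hτ⟩ := h
        obtain ⟨z, rfl, rfl⟩ := a_eq_b hcov hτ.symm
        rw [← hτ, hφb, hpt]
      · simp only [φ₀, dif_neg h]
        have hx := ((jointly_surjective hcov (a x)).resolve_right h).choose_spec
        rcases a_eq_a hcov hx with e | ⟨z, z', -, rfl⟩
        · rw [e]
        · exact absurd ⟨ξ z', by rw [← Scheme.Hom.comp_apply, ← w, Scheme.Hom.comp_apply]⟩ h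
    have hcont : Continuous φ₀ := continuous_def.mpr fun O hO =>
      isOpen_of_preimage hcov _
        (by
          rw [show a ⁻¹' (φ₀ ⁻¹' O) = g.base ⁻¹' O from
            Set.ext fun x => by simp only [Set.mem_preimage, hφa]; rfl]
          exact hO.preimage g.base.hom.continuous)
        (by
          rw [show b ⁻¹' (φ₀ ⁻¹' O) = g'.base ⁻¹' O from
            Set.ext fun x => by simp only [Set.mem_preimage, hφb]; rfl]
          exact hO.preimage g'.base.hom.continuous)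
    let φ : (toRS.obj P).carrier ⟶ s.pt.carrier := TopCat.ofHom ⟨φ₀, hcont⟩
    have ea : ∀ O : Opens s.pt.carrier,
        (Opens.map g.base).obj O = a ⁻¹ᵁ ((Opens.map φ).obj O) := fun O => by
      refine Opens.ext (Set.ext fun x => ?_)
      show g.base x ∈ O ↔ φ₀ (a x) ∈ O
      rw [hφa]
    have eb : ∀ O : Opens s.pt.carrier,
        (Opens.map g'.base).obj O = b ⁻¹ᵁ ((Opens.map φ).obj O) := fun O => by
      refine Opens.ext (Set.ext fun x => ?_)
      show g'.base x ∈ O ↔ φ₀ (b x) ∈ O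
      rw [hφb]
    let cX : ∀ O, s.pt.presheaf.obj (op O) ⟶ Γ(X, a ⁻¹ᵁ ((Opens.map φ).obj O)) := fun O =>
      g.c.app (op O) ≫ X.presheaf.map (eqToHom (ea O).symm).op
    let cT : ∀ O, s.pt.presheaf.obj (op O) ⟶ Γ(T, b ⁻¹ᵁ ((Opens.map φ).obj O)) := fun O =>
      g'.c.app (op O) ≫ T.presheaf.map (eqToHom (eb O).symm).op
    have hex : ∀ O w', ∃ v : Γ(P, (Opens.map φ).obj O),
        a.app _ v = cX O w' ∧ b.app _ v = cT O w' := fun O w' => by
      refine exists_section hcov _ _ _ (ι ⁻¹ᵁ a ⁻¹ᵁ ((Opens.map φ).obj O)) le_rfl le_rfl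
        (by rw [← Scheme.Hom.comp_preimage, w, Scheme.Hom.comp_preimage]) ?_
      have h0 := ConcreteCategory.congr_hom (PresheafedSpace.congr_app hgg (op O)) w'
      change Z.presheaf.map _ ((X.presheaf.map _ ≫ ι.app _) (g.c.app (op O) w')) =
        Z.presheaf.map _ ((T.presheaf.map _ ≫ ξ.app _) (g'.c.app (op O) w'))
      erw [ι.naturality, ξ.naturality]
      let k : (Opens.map ((toRS.map ι).hom ≫ g).base).op.obj (op O) ⟶
          op (ι ⁻¹ᵁ a ⁻¹ᵁ ((Opens.map φ).obj O)) :=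
        eqToHom (congrArg op (by rw [← ea]; rfl))
      exact (map_map_eq (W := (toRS.obj Z).toPresheafedSpace) _ _ k _).trans
        ((congrArg ((toRS.obj Z).presheaf.map k) h0).trans
          (map_map_eq' (W := (toRS.obj Z).toPresheafedSpace) _ _ _ _ _))
    choose v hvX hvT using hex
    let cO : ∀ O, s.pt.presheaf.obj (op O) ⟶ Γ(P, (Opens.map φ).obj O) := fun O =>
      CommRingCat.ofHom
        { toFun := v O
          map_one' := section_ext hcov _ _ _ (by rw [hvX, map_one, map_one])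
            (by rw [hvT, map_one, map_one])
          map_mul' := fun x y => section_ext hcov _ _ _ (by rw [hvX, map_mul, map_mul, hvX, hvX])
            (by rw [hvT, map_mul, map_mul, hvT, hvT])
          map_zero' := section_ext hcov _ _ _ (by rw [hvX, map_zero, map_zero])
            (by rw [hvT, map_zero, map_zero])
          map_add' := fun x y => section_ext hcov _ _ _ (by rw [hvX, map_add, map_add, hvX, hvX])
            (by rw [hvT, map_add, map_add, hvT, hvT]) }
    have hcX : ∀ O, cO O ≫ a.app _ = cX O := fun O => ConcreteCategory.hom_ext _ _ (hvX O)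
    have hcT : ∀ O, cO O ≫ b.app _ = cT O := fun O => ConcreteCategory.hom_ext _ _ (hvT O)
    let m : toRS.obj P ⟶ s.pt := InducedCategory.homMk
      { base := φ
        c :=
          { app := fun O => cO O.unop
            naturality := fun O O' i => ConcreteCategory.hom_ext _ _ fun w' => by
              refine section_ext hcov _ _ _ ?_ ?_
              · change ((s.pt.presheaf.map i ≫ cO O'.unop) ≫ a.app _) w' =
                  ((cO O.unop ≫ P.presheaf.map _) ≫ a.app _) w'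
                rw [Category.assoc, Category.assoc, a.naturality, reassoc_of% (hcX O.unop), hcX]
                simp only [cX, Category.assoc]
                rw [← Category.assoc]
                erw [g.c.naturality i]
                rw [Category.assoc]
                simp only [CommRingCat.comp_apply]
                exact map_map_eq' (W := (toRS.obj X).toPresheafedSpace) _ _ _ _ _
              · change ((s.pt.presheaf.map i ≫ cO O'.unop) ≫ b.app _) w' =
                  ((cO O.unop ≫ P.presheaf.map _) ≫ b.app _) w'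
                rw [Category.assoc, Category.assoc, b.naturality, reassoc_of% (hcT O.unop), hcT]
                simp only [cT, Category.assoc]
                rw [← Category.assoc]
                erw [g'.c.naturality i]
                rw [Category.assoc]
                simp only [CommRingCat.comp_apply]
                exact map_map_eq' (W := (toRS.obj T).toPresheafedSpace) _ _ _ _ _ } }
    refine ⟨m, ⟨?_, ?_⟩, fun m' hm' => ?_⟩
    · refine SheafedSpace.ext _ _ (TopCat.hom_ext (ContinuousMap.ext hφa)) ?_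
      refine NatTrans.ext (funext fun O => ?_)
      obtain ⟨O⟩ := O
      change (cO O ≫ a.app _) ≫ X.presheaf.map _ = g.c.app (op O)
      rw [hcX]
      simp only [cX, Category.assoc]
      refine ConcreteCategory.hom_ext _ _ fun w' => ?_
      exact (map_map_eq (W := (toRS.obj X).toPresheafedSpace) _ _ (𝟙 _) _).trans
        (congrArg (fun m => m (g.c.app (op O) w')) (X.presheaf.map_id _))
    · refine SheafedSpace.ext _ _ (TopCat.hom_ext (ContinuousMap.ext hφb)) ?_
      refine NatTrans.ext (funext fun O => ?_)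
      obtain ⟨O⟩ := O
      change (cO O ≫ b.app _) ≫ T.presheaf.map _ = g'.c.app (op O)
      rw [hcT]
      simp only [cT, Category.assoc]
      refine ConcreteCategory.hom_ext _ _ fun w' => ?_
      exact (map_map_eq (W := (toRS.obj T).toPresheafedSpace) _ _ (𝟙 _) _).trans
        (congrArg (fun m => m (g'.c.app (op O) w')) (T.presheaf.map_id _))
    · have hbase : ∀ r, m'.hom.base r = φ₀ r := fun r => by
        obtain ⟨x, rfl⟩ | ⟨τ, rfl⟩ := jointly_surjective hcov r
        · rw [hφa]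
          exact congrArg (fun k : toRS.obj X ⟶ s.pt => k.hom.base x) hm'.1
        · rw [hφb]
          exact congrArg (fun k : toRS.obj T ⟶ s.pt => k.hom.base τ) hm'.2
      refine SheafedSpace.ext _ _ (TopCat.hom_ext (ContinuousMap.ext hbase)) ?_
      refine NatTrans.ext (funext fun O => ?_)
      obtain ⟨O⟩ := O
      refine ConcreteCategory.hom_ext _ _ fun w' => section_ext hcov _ _ _ ?_ ?_
      · refine Eq.trans ?_ (hvX O w').symm
        have h := ConcreteCategory.congr_hom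
          (PresheafedSpace.congr_app (congrArg (fun k => InducedCategory.Hom.hom k) hm'.1) (op O)) w'
        change (a.app _ (P.presheaf.map _ (m'.hom.c.app (op O) w'))) = cX O w'
        rw [← CommRingCat.comp_apply _ (a.app _)]
        erw [a.naturality]
        refine Eq.trans (congrArg (X.presheaf.map _) h) ?_
        simp only [cX, CommRingCat.comp_apply]
        exact map_map_eq (W := (toRS.obj X).toPresheafedSpace) _ _ _ _
      · refine Eq.trans ?_ (hvT O w').symm
        have h := ConcreteCategory.congr_hom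
          (PresheafedSpace.congr_app (congrArg (fun k => InducedCategory.Hom.hom k) hm'.2) (op O)) w'
        change (b.app _ (P.presheaf.map _ (m'.hom.c.app (op O) w'))) = cT O w'
        rw [← CommRingCat.comp_apply _ (b.app _)]
        erw [b.naturality]
        refine Eq.trans (congrArg (T.presheaf.map _) h) ?_
        simp only [cT, CommRingCat.comp_apply]
        exact map_map_eq (W := (toRS.obj T).toPresheafedSpace) _ _ _ _
  refine ⟨⟨by rw [← Functor.map_comp, ← Functor.map_comp, w]⟩, ⟨PushoutCocone.IsColimit.mk _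
    (fun s => (key s).choose) (fun s => (key s).choose_spec.1.1) (fun s => (key s).choose_spec.1.2)
    fun s m h1 h2 => (key s).choose_spec.2 m ⟨h1, h2⟩⟩⟩

end Chart

end Groth.Agent.H28Pinch
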