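-- Gluing locally free modules on a pushout of ringed spaces
import Groth.Agent.H28Pinch.FreeBasisIso
import Groth.Agent.H28Pinch.FullyFaithful
import Groth.Agent.H28Pinch.ToRinged
import Groth.Agent.H11Ample.Counit
import Groth.Agent.LeadDev.Generic

/-!
# The module of compatible pairs
-/

set_option autoImplicit false
set_option linter.style.haveILetI false

universe u

open AlgebraicGeometry CategoryTheory Limits TopologicalSpace Opposite TensorProduct

namespace Groth.Agent.H28Pinch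

/-- Sections over a smaller affine open of a pullback along a closed immersion lift. -/
theorem exists_pullSect_eq {X Z : Scheme.{u}} (ι : Z ⟶ X) [IsClosedImmersion ι] (L : X.Modules)
    (hL : Coh.IsQCoh L) {A : X.Opens} (hA : IsAffineOpen A)
    (t : Γ((Scheme.Modules.pullback ι).obj L, ι ⁻¹ᵁ A)) :
    ∃ s : Γ(L, A), OmegaSh.pullSect ι L A s = t := by
  letI := (ι.appLE A (ι ⁻¹ᵁ A) le_rfl).hom.toAlgebra
  letI := Module.compHom Γ((Scheme.Modules.pullback ι).obj L, ι ⁻¹ᵁ A)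
    (ι.appLE A (ι ⁻¹ᵁ A) le_rfl).hom
  haveI : IsScalarTower Γ(X, A) Γ(Z, ι ⁻¹ᵁ A) Γ((Scheme.Modules.pullback ι).obj L, ι ⁻¹ᵁ A) :=
    .of_algebraMap_smul fun _ _ => rfl
  let E := (H8Props.PullSections.isBaseChange_pullLin ι L le_rfl hL hA (hA.preimage ι)).equiv
  obtain ⟨z, rfl⟩ := E.surjective t
  have hsurj : Function.Surjective (ι.appLE A (ι ⁻¹ᵁ A) le_rfl).hom := by
    rw [← Scheme.Hom.app_eq_appLE]
    exact ι.app_surjective A hA
  have hp : ∀ s, H8Props.PullSections.pullLin ι L (W := A) (U := ι ⁻¹ᵁ A) le_rfl s =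
      OmegaSh.pullSect ι L A s := fun s =>
    H10Coh.mres_self ((Scheme.Modules.pullback ι).obj L) le_rfl _
  induction z with
  | zero => exact ⟨0, by rw [map_zero, map_zero]⟩
  | add a b ha hb =>
    obtain ⟨s, hs⟩ := ha
    obtain ⟨s', hs'⟩ := hb
    exact ⟨s + s', by rw [map_add, map_add, hs, hs']⟩
  | tmul a s =>
    obtain ⟨a', rfl⟩ := hsurj a
    refine ⟨a' • s, ?_⟩
    rw [IsBaseChange.equiv_tmul, hp, OmegaSh.pullSect_smul, Scheme.Hom.app_eq_appLE]

variable {X Z Z' X' : Scheme.{u}} {ι : Z ⟶ X} {q : Z ⟶ Z'} {π : X ⟶ X'} {ι' : Z' ⟶ X'}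
  (hw : ι ≫ π = q ≫ ι') {LX : X.Modules} {LZ' : Z'.Modules}
  (σ : (Scheme.Modules.pullback ι).obj LX ≅ (Scheme.Modules.pullback q).obj LZ')

/-- Compatibility of sections with a gluing datum. -/
def GCompat (U : X'.Opens) (x : Γ(LX, π ⁻¹ᵁ U)) (y : Γ(LZ', ι' ⁻¹ᵁ U)) : Prop :=
  σ.hom.app (ι ⁻¹ᵁ π ⁻¹ᵁ U) (OmegaSh.pullSect ι LX (π ⁻¹ᵁ U) x) =
    ((Scheme.Modules.pullback q).obj LZ').presheaf.map (homOfLE (preimage_le hw U)).op
      (OmegaSh.pullSect q LZ' (ι' ⁻¹ᵁ U) y)

/-- The first map to the pushforward from the corner. -/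
noncomputable def glueLeft : (Scheme.Modules.pushforward π).obj LX ⟶
    (Scheme.Modules.pushforward (ι ≫ π)).obj ((Scheme.Modules.pullback q).obj LZ') :=
  (Scheme.Modules.pushforward π).map
      ((Scheme.Modules.pullbackPushforwardAdjunction ι).unit.app LX ≫
        (Scheme.Modules.pushforward ι).map σ.hom) ≫
    (Scheme.Modules.pushforwardComp ι π).hom.app _

/-- The second map to the pushforward from the corner. -/
noncomputable def glueRight : (Scheme.Modules.pushforward ι').obj LZ' ⟶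
    (Scheme.Modules.pushforward (ι ≫ π)).obj ((Scheme.Modules.pullback q).obj LZ') :=
  (Scheme.Modules.pushforward ι').map
      ((Scheme.Modules.pullbackPushforwardAdjunction q).unit.app LZ') ≫
    (Scheme.Modules.pushforwardComp q ι').hom.app _ ≫
      (Scheme.Modules.pushforwardCongr hw.symm).hom.app _

/-- The difference of the two maps. -/
noncomputable def glueDiff :
    ((Scheme.Modules.pushforward π).obj LX ⊞ (Scheme.Modules.pushforward ι').obj LZ') ⟶
      (Scheme.Modules.pushforward (ι ≫ π)).obj ((Scheme.Modules.pullback q).obj LZ') :=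
  biprod.fst ≫ glueLeft σ - biprod.snd ≫ glueRight hw

/-- The module of compatible pairs. -/
noncomputable def glueMod : X'.Modules := kernel (glueDiff hw σ)

/-- Its projection to `X`. -/
noncomputable def glueX : glueMod hw σ ⟶ (Scheme.Modules.pushforward π).obj LX :=
  kernel.ι (glueDiff hw σ) ≫ biprod.fst

/-- Its projection to `Z'`. -/
noncomputable def glueY : glueMod hw σ ⟶ (Scheme.Modules.pushforward ι').obj LZ' :=
  kernel.ι (glueDiff hw σ) ≫ biprod.snd

theorem glueX_glueY : glueX hw σ ≫ glueLeft σ = glueY hw σ ≫ glueRight hw := by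
  have h : kernel.ι (glueDiff hw σ) ≫ (biprod.fst ≫ glueLeft σ - biprod.snd ≫ glueRight hw) = 0 :=
    kernel.condition (glueDiff hw σ)
  rw [Preadditive.comp_sub] at h
  exact (Category.assoc _ _ _).trans ((sub_eq_zero.1 h).trans (Category.assoc _ _ _).symm)

theorem gcompat_glue (U : X'.Opens) (t : Γ(glueMod hw σ, U)) :
    GCompat hw σ U ((glueX hw σ).app U t) ((glueY hw σ).app U t) :=
  congr(Scheme.Modules.Hom.app $(glueX_glueY hw σ) U t)

theorem glue_ext {U : X'.Opens} (t t' : Γ(glueMod hw σ, U))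
    (h₁ : (glueX hw σ).app U t = (glueX hw σ).app U t')
    (h₂ : (glueY hw σ).app U t = (glueY hw σ).app U t') : t = t' := by
  apply H10Coh.injective_app_of_mono' (kernel.ι (glueDiff hw σ)) U
  have tot : ∀ z, z =
      (biprod.inl : (Scheme.Modules.pushforward π).obj LX ⟶
        (Scheme.Modules.pushforward π).obj LX ⊞ (Scheme.Modules.pushforward ι').obj LZ').app U
        ((biprod.fst : (Scheme.Modules.pushforward π).obj LX ⊞
          (Scheme.Modules.pushforward ι').obj LZ' ⟶ _).app U z) +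
      (biprod.inr : (Scheme.Modules.pushforward ι').obj LZ' ⟶
        (Scheme.Modules.pushforward π).obj LX ⊞ (Scheme.Modules.pushforward ι').obj LZ').app U
        ((biprod.snd : (Scheme.Modules.pushforward π).obj LX ⊞
          (Scheme.Modules.pushforward ι').obj LZ' ⟶ _).app U z) := fun z =>
    (congr($(biprod.total (X := (Scheme.Modules.pushforward π).obj LX)
      (Y := (Scheme.Modules.pushforward ι').obj LZ')).app U z)).symm
  rw [tot ((kernel.ι (glueDiff hw σ)).app U t), tot ((kernel.ι (glueDiff hw σ)).app U t')]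
  exact congrArg₂ (· + ·) (congrArg _ h₁) (congrArg _ h₂)

theorem exists_glue {U : X'.Opens} (x : Γ(LX, π ⁻¹ᵁ U)) (y : Γ(LZ', ι' ⁻¹ᵁ U))
    (h : GCompat hw σ U x y) :
    ∃ t : Γ(glueMod hw σ, U), (glueX hw σ).app U t = x ∧ (glueY hw σ).app U t = y := by
  let PX := (Scheme.Modules.pushforward π).obj LX
  let PY := (Scheme.Modules.pushforward ι').obj LZ'
  let x' : Γ(PX, U) := x
  let y' : Γ(PY, U) := y
  let z : Γ(PX ⊞ PY, U) := (biprod.inl : PX ⟶ PX ⊞ PY).app U x' +
    (biprod.inr : PY ⟶ PX ⊞ PY).app U y'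
  have hf : (biprod.fst : PX ⊞ PY ⟶ PX).app U z = x' := by
    rw [map_add]
    show ((biprod.inl : PX ⟶ PX ⊞ PY) ≫ biprod.fst).app U x' +
      ((biprod.inr : PY ⟶ PX ⊞ PY) ≫ biprod.fst).app U y' = x'
    rw [biprod.inl_fst, biprod.inr_fst]
    exact add_zero x'
  have hs : (biprod.snd : PX ⊞ PY ⟶ PY).app U z = y' := by
    rw [map_add]
    show ((biprod.inl : PX ⟶ PX ⊞ PY) ≫ biprod.snd).app U x' +
      ((biprod.inr : PY ⟶ PX ⊞ PY) ≫ biprod.snd).app U y' = y'
    rw [biprod.inl_snd, biprod.inr_snd]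
    exact zero_add y'
  have hz : (glueDiff hw σ).app U z = 0 := by
    show (glueLeft σ).app U ((biprod.fst : PX ⊞ PY ⟶ PX).app U z) -
      (glueRight hw).app U ((biprod.snd : PX ⊞ PY ⟶ PY).app U z) = 0
    rw [hf, hs]
    exact sub_eq_zero.2 h
  obtain ⟨t, ht⟩ := LeadDev.exists_kernel_section (glueDiff hw σ) U z hz
  refine ⟨t, ?_, ?_⟩
  · show (biprod.fst : PX ⊞ PY ⟶ PX).app U ((kernel.ι (glueDiff hw σ)).app U t) = x
    rw [ht, hf]
  · show (biprod.snd : PX ⊞ PY ⟶ PY).app U ((kernel.ι (glueDiff hw σ)).app U t) = y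
    rw [ht, hs]

variable (hpo : IsPushout (toRS.map ι) (toRS.map q) (toRS.map π) (toRS.map ι'))

include hpo in
/-- A compatible pair of bases gives a basis of the glued module. -/
theorem exists_basis_glue (hqZ : Coh.IsQCoh LZ') {V : X'.Opens} {r : ℕ}
    {f : Fin r → Γ(LX, π ⁻¹ᵁ V)} {e : Fin r → Γ(LZ', ι' ⁻¹ᵁ V)}
    (hf : IsBasisOn LX f) (he : IsBasisOn LZ' e) (hfe : ∀ j, GCompat hw σ V (f j) (e j)) :
    ∃ m : Fin r → Γ(glueMod hw σ, V), IsBasisOn (glueMod hw σ) m ∧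
      (∀ j, (glueX hw σ).app V (m j) = f j) ∧ ∀ j, (glueY hw σ).app V (m j) = e j := by
  choose m hmX hmY using fun j => exists_glue hw σ (f j) (e j) (hfe j)
  have bZ := he.pullback q hqZ
  have appX : ∀ (W : X'.Opens) (h : W ≤ V) (c : Fin r → Γ(X', W)),
      (glueX hw σ).app W (comb (glueMod hw σ) m h c) =
        comb LX f (π.preimage_mono h) (fun j => π.app W (c j)) := by
    intro W h c
    refine (app_comb _ h c).trans ?_
    simp only [hmX]
    rfl
  have appY : ∀ (W : X'.Opens) (h : W ≤ V) (c : Fin r → Γ(X', W)),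
      (glueY hw σ).app W (comb (glueMod hw σ) m h c) =
        comb LZ' e (ι'.preimage_mono h) (fun j => ι'.app W (c j)) := by
    intro W h c
    refine (app_comb _ h c).trans ?_
    simp only [hmY]
    rfl
  refine ⟨m, fun W h => ?_, hmX, hmY⟩
  obtain ⟨ext, lift⟩ := rs_sections hpo W (ι ⁻¹ᵁ π ⁻¹ᵁ W) le_rfl le_rfl (preimage_le hw W)
  refine ⟨fun c c' hcc => funext fun j => ext _ _ ?_ ?_, fun t => ?_⟩
  · have hX := congrArg ((glueX hw σ).app W) hcc
    rw [appX, appX] at hX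
    exact congrFun ((hf _ (π.preimage_mono h)).1 hX) j
  · have hY := congrArg ((glueY hw σ).app W) hcc
    rw [appY, appY] at hY
    exact congrFun ((he _ (ι'.preimage_mono h)).1 hY) j
  · obtain ⟨a, ha⟩ := (hf _ (π.preimage_mono h)).2 ((glueX hw σ).app W t)
    obtain ⟨b, hb⟩ := (he _ (ι'.preimage_mono h)).2 ((glueY hw σ).app W t)
    have hc := gcompat_glue hw σ W t
    rw [← ha, ← hb] at hc
    let WZ := ι ⁻¹ᵁ π ⁻¹ᵁ W
    let hWV : WZ ≤ q ⁻¹ᵁ ι' ⁻¹ᵁ V :=
      (preimage_le hw W).trans (q.preimage_mono (ι'.preimage_mono h))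
    have e1 : σ.hom.app WZ (OmegaSh.pullSect ι LX (π ⁻¹ᵁ W) (comb LX f (π.preimage_mono h) a)) =
        comb _ (fun j => OmegaSh.pullSect q LZ' (ι' ⁻¹ᵁ V) (e j)) hWV
          (fun j => ι.app (π ⁻¹ᵁ W) (a j)) := by
      rw [comb, comb, map_sum, map_sum]
      refine Finset.sum_congr rfl fun j _ => ?_
      have hj : σ.hom.app (ι ⁻¹ᵁ π ⁻¹ᵁ V) (OmegaSh.pullSect ι LX (π ⁻¹ᵁ V) (f j)) = _ := hfe j
      rw [OmegaSh.pullSect_smul, Scheme.Modules.Hom.app_smul, OmegaSh.pullSect_map,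
        H11Tilde.app_map_apply, hj, H10Coh.mres_mres]
    have e2 : ((Scheme.Modules.pullback q).obj LZ').presheaf.map (homOfLE (preimage_le hw W)).op
        (OmegaSh.pullSect q LZ' (ι' ⁻¹ᵁ W) (comb LZ' e (ι'.preimage_mono h) b)) =
        comb _ (fun j => OmegaSh.pullSect q LZ' (ι' ⁻¹ᵁ V) (e j)) hWV
          (fun j => q.appLE (ι' ⁻¹ᵁ W) WZ (preimage_le hw W) (b j)) := by
      rw [comb, comb, map_sum, map_sum]
      refine Finset.sum_congr rfl fun j _ => ?_
      rw [OmegaSh.pullSect_smul, Scheme.Modules.map_smul, OmegaSh.pullSect_map, H10Coh.mres_mres]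
      rfl
    have hab := (bZ WZ hWV).1 (e1.symm.trans (Eq.trans hc e2))
    have hab' : ∀ j, ι.appLE (π ⁻¹ᵁ W) WZ le_rfl (a j) =
        q.appLE (ι' ⁻¹ᵁ W) WZ (preimage_le hw W) (b j) := fun j => by
      rw [show ι.appLE (π ⁻¹ᵁ W) WZ le_rfl = ι.app (π ⁻¹ᵁ W) from ι.appLE_eq_app]
      exact congrFun hab j
    choose c hca hcb using fun j => lift (a j) (b j) (hab' j)
    refine ⟨c, glue_ext hw σ _ _ ?_ ?_⟩
    · rw [appX, funext hca, ha]
    · rw [appY, funext hcb, hb]

/-- The transpose of a map to a pushforward, on pulled back sections. -/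
theorem homEquiv_symm_pullSect {S S' : Scheme.{u}} (g : S ⟶ S') {M : S'.Modules} {F : S.Modules}
    (φ : M ⟶ (Scheme.Modules.pushforward g).obj F) (U : S'.Opens) (s : Γ(M, U)) :
    (((Scheme.Modules.pullbackPushforwardAdjunction g).homEquiv M F).symm φ).app (g ⁻¹ᵁ U)
      (OmegaSh.pullSect g M U s) = φ.app U s := by
  rw [Adjunction.homEquiv_counit]
  show ((Scheme.Modules.pullbackPushforwardAdjunction g).counit.app F).app (g ⁻¹ᵁ U)
    (((Scheme.Modules.pullback g).map φ).app (g ⁻¹ᵁ U) (OmegaSh.pullSect g M U s)) = _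
  rw [← H17.PullSect.pullSect_natural]
  exact H11Ample.counit_app_pullSect g F U (φ.app U s)

/-- Maps out of a double pullback are determined on double pullbacks of sections. -/
theorem pullback_hom_ext₂ {S S' S'' : Scheme.{u}} (g : S ⟶ S') (g' : S' ⟶ S'') {M : S''.Modules}
    {F : S.Modules}
    {a b : (Scheme.Modules.pullback g).obj ((Scheme.Modules.pullback g').obj M) ⟶ F}
    (h : ∀ (U : S''.Opens) (s : Γ(M, U)),
      a.app (g ⁻¹ᵁ g' ⁻¹ᵁ U) (OmegaSh.pullSect g _ (g' ⁻¹ᵁ U) (OmegaSh.pullSect g' M U s)) =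
      b.app (g ⁻¹ᵁ g' ⁻¹ᵁ U) (OmegaSh.pullSect g _ (g' ⁻¹ᵁ U) (OmegaSh.pullSect g' M U s))) :
    a = b := by
  refine ((Scheme.Modules.pullbackPushforwardAdjunction g).homEquiv _ _).injective
    (pullback_hom_ext g' fun U s => ?_)
  rw [Adjunction.homEquiv_unit, Adjunction.homEquiv_unit]
  exact h U s

/-- The basis on the empty open. -/
theorem isBasisOn_of_empty {S : Scheme.{u}} {F : S.Modules} {U : S.Opens} {r : ℕ}
    (hU : ∀ x : S, x ∉ U) (m : Fin r → Γ(F, U)) : IsBasisOn F m :=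
  isBasisOn_of_locally fun x hx => absurd hx (hU x)

theorem exists_open_preimage_le {S S' : Scheme.{u}} (g : S ⟶ S') [UniversallyClosed g] (y : S')
    (O : S.Opens) (hO : ∀ x, g x = y → x ∈ O) : ∃ V : S'.Opens, y ∈ V ∧ g ⁻¹ᵁ V ≤ O := by
  refine ⟨⟨(g '' (O : Set S)ᶜ)ᶜ, (g.isClosedMap _ O.isOpen.isClosed_compl).isOpen_compl⟩, ?_, ?_⟩
  · rintro ⟨x, hx, rfl⟩
    exact hx (hO x rfl)
  · intro x hx
    by_contra h
    exact hx ⟨x, h, rfl⟩

end Groth.Agent.H28Pinch
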