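-- Pullback along morphisms with trivial direct image of the structure sheaf
import Groth.Agent.H28Pinch.GlueModule
import Groth.Prelude.Def_PicLoc

/-!
# Morphisms with `O_S = f_* O_X`
-/

set_option autoImplicit false
set_option linter.style.haveILetI false

universe u

open AlgebraicGeometry CategoryTheory Limits TopologicalSpace Opposite

namespace Groth.Agent.H28Pinch

variable {X S : Scheme.{u}} (f : X ⟶ S) (hf : ∀ U : S.Opens, Function.Bijective (f.app U))

include hf in
/-- The unit of the adjunction is an isomorphism at finite locally free modules. -/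
theorem isIso_unit_of_isFinLocFree (N : S.Modules) (hN : FlatMod.IsFinLocFree N) :
    IsIso ((Scheme.Modules.pullbackPushforwardAdjunction f).unit.app N) := by
  have hq := H8Props.FinLocFree.isQCoh_of_isFinLocFree N hN
  refine isIso_of_locally_bijective _ fun x => ?_
  obtain ⟨U, n, hxU, ⟨e⟩⟩ := hN x
  obtain ⟨m, hm⟩ := exists_isBasisOn_of_chart N e
  refine ⟨U, hxU, fun V hV => ?_⟩
  show Function.Bijective (OmegaSh.pullSect f N V)
  have hb := (hm.pullback f hq) (f ⁻¹ᵁ V) (f.preimage_mono hV)
  have key : (OmegaSh.pullSect f N V) ∘ comb N m hV =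
      comb _ (fun j => OmegaSh.pullSect f N U (m j)) (f.preimage_mono hV) ∘
        fun c j => f.app V (c j) := by
    funext c
    show OmegaSh.pullSect f N V (comb N m hV c) = _
    rw [comb, map_sum]
    exact Finset.sum_congr rfl fun j _ => by rw [OmegaSh.pullSect_smul, OmegaSh.pullSect_map]
  have hc : Function.Bijective fun (c : Fin n → Γ(S, V)) j => f.app V (c j) :=
    ⟨fun c c' h => funext fun j => (hf V).1 (congrFun h j),
      fun d => ⟨fun j => ((hf V).2 (d j)).choose, funext fun j => ((hf V).2 (d j)).choose_spec⟩⟩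
  exact (Function.Bijective.of_comp_iff _ (hm V hV)).1 (key ▸ hb.comp hc)

include hf in
/-- Pullback is fully faithful on finite locally free targets. -/
theorem bijective_pullback_map (N N' : S.Modules) (hN' : FlatMod.IsFinLocFree N') :
    Function.Bijective (fun φ : N ⟶ N' => (Scheme.Modules.pullback f).map φ) := by
  let adj := Scheme.Modules.pullbackPushforwardAdjunction f
  haveI : IsIso (adj.unit.app N') := isIso_unit_of_isFinLocFree f hf N' hN'
  have key : ∀ φ : N ⟶ N', adj.homEquiv _ _ ((Scheme.Modules.pullback f).map φ) =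
      φ ≫ adj.unit.app N' := fun φ => by
    rw [Adjunction.homEquiv_unit]
    exact (adj.unit.naturality φ).symm
  constructor
  · intro φ ψ h
    have h' := congrArg (adj.homEquiv _ _) h
    rw [key, key] at h'
    exact (cancel_mono _).1 h'
  · intro b
    refine ⟨adj.homEquiv _ _ b ≫ inv (adj.unit.app N'), (adj.homEquiv _ _).injective ?_⟩
    rw [key, Category.assoc, IsIso.inv_hom_id, Category.comp_id]

theorem isFinLocFree_of_isInvertible {L : S.Modules} (hL : PicF.IsInvertible L) :
    FlatMod.IsFinLocFree L := fun x =>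
  let ⟨U, hxU, ⟨e⟩⟩ := hL x
  ⟨U, 1, hxU, ⟨e ≪≫ (coproductUniqueIso fun _ : Fin 1 => Coh.structureModule (↑U)).symm⟩⟩

include hf in
/-- Pullback is injective on classes of invertible modules. -/
theorem nonempty_iso_structureModule_of_pullback (L : S.Modules) (hL : PicF.IsInvertible L)
    (e : (Scheme.Modules.pullback f).obj L ≅ Coh.structureModule X) :
    Nonempty (L ≅ Coh.structureModule S) := by
  let adj := Scheme.Modules.pullbackPushforwardAdjunction f
  haveI : IsIso (adj.unit.app L) :=
    isIso_unit_of_isFinLocFree f hf L (isFinLocFree_of_isInvertible hL)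
  haveI : IsIso (adj.unit.app (Coh.structureModule S)) :=
    isIso_unit_of_isFinLocFree f hf _
      (isFinLocFree_of_isInvertible (PicLoc.isInvertible_structureModule S))
  exact ⟨asIso (adj.unit.app L) ≪≫
    (Scheme.Modules.pushforward f).mapIso (e ≪≫ (PicLoc.pullbackStructureIso f).symm) ≪≫
    (asIso (adj.unit.app (Coh.structureModule S))).symm⟩

include hf in
/-- An invertible module which is trivial locally over the base comes from the base. -/
theorem exists_invertible_of_locally_trivial (L : X.Modules)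
    (hloc : ∀ s : S, ∃ U : S.Opens, s ∈ U ∧
      Nonempty ((Scheme.Modules.pullback (f ⁻¹ᵁ U).ι).obj L ≅ Coh.structureModule (f ⁻¹ᵁ U))) :
    ∃ N : S.Modules, PicF.IsInvertible N ∧ Nonempty (L ≅ (Scheme.Modules.pullback f).obj N) := by
  let N := (Scheme.Modules.pushforward f).obj L
  have chart : ∀ s : S, ∃ (U : S.Opens) (m : Fin 1 → Γ(N, U)), s ∈ U ∧ IsBasisOn N m ∧
      IsBasisOn L (fun j => (m j : Γ(L, f ⁻¹ᵁ U))) := by
    intro s
    obtain ⟨U, hsU, ⟨e⟩⟩ := hloc s
    obtain ⟨b, hb⟩ := exists_isBasisOn_of_chart L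
      ((Scheme.Modules.restrictFunctorIsoPullback (f ⁻¹ᵁ U).ι).app L ≪≫ e ≪≫
        (coproductUniqueIso fun _ : Fin 1 => Coh.structureModule (↑(f ⁻¹ᵁ U))).symm)
    refine ⟨U, fun j => b j, hsU, fun V hV => ?_, hb⟩
    have hc : Function.Bijective fun (c : Fin 1 → Γ(S, V)) j => f.app V (c j) :=
      ⟨fun c c' h => funext fun j => (hf V).1 (congrFun h j),
        fun d => ⟨fun j => ((hf V).2 (d j)).choose, funext fun j => ((hf V).2 (d j)).choose_spec⟩⟩
    have key : (comb N (fun j => (b j : Γ(N, U))) hV : _ → Γ(L, f ⁻¹ᵁ V)) =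
        comb L b (f.preimage_mono hV) ∘ fun c j => f.app V (c j) := rfl
    exact key ▸ (hb _ _).comp hc
  have hN : PicF.IsInvertible N := fun s => by
    obtain ⟨U, m, hsU, hm, -⟩ := chart s
    obtain ⟨e⟩ := nonempty_chart_of_isBasisOn hm
    exact ⟨U, hsU, ⟨e ≪≫ coproductUniqueIso fun _ : Fin 1 => Coh.structureModule (↑U)⟩⟩
  have hq : Coh.IsQCoh N :=
    H8Props.FinLocFree.isQCoh_of_isFinLocFree N (isFinLocFree_of_isInvertible hN)
  refine ⟨N, hN, ⟨?_⟩⟩
  suffices IsIso ((Scheme.Modules.pullbackPushforwardAdjunction f).counit.app L) from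
    (asIso ((Scheme.Modules.pullbackPushforwardAdjunction f).counit.app L)).symm
  refine isIso_of_bases _ fun x => ?_
  obtain ⟨U, m, hxU, hm, hm'⟩ := chart (f x)
  refine ⟨f ⁻¹ᵁ U, 1, _, hxU, hm.pullback f hq, ?_⟩
  have e1 : (fun j => ((Scheme.Modules.pullbackPushforwardAdjunction f).counit.app L).app (f ⁻¹ᵁ U)
      (OmegaSh.pullSect f N U (m j))) = fun j => (m j : Γ(L, f ⁻¹ᵁ U)) :=
    funext fun j => H11Ample.counit_app_pullSect f L U (m j)
  exact e1.symm ▸ hm'

end Groth.Agent.H28Pinch
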