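import Groth.Agent.H10ZMT.Stein
import Groth.Agent.H10ZMT.Basic

/-!
# Morphisms out of the target of a proper birational morphism to a normal scheme
-/

set_option autoImplicit false
set_option linter.style.haveILetI false
universe u

open CategoryTheory CategoryTheory.Limits AlgebraicGeometry TopologicalSpace

namespace Groth.Agent.H28Pinch

variable {X Y : Scheme.{u}} [IsIntegral X] [IsIntegral Y]

/-- A proper birational morphism to a normal scheme induces bijections on sections. -/
theorem bijective_app_of_birational (f : X ⟶ Y) [IsProper f] (hY : Pi1.IsNormalScheme Y)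
    (hξ : f (genericPoint X) = genericPoint Y) (hbir : Function.Bijective (f.stalkMap (genericPoint X)))
    (U : Y.Opens) : Function.Bijective (f.app U) := by
  have hdom : f.base (genericPoint X) ⤳ genericPoint Y := specializes_of_eq hξ
  have hsurj := H10ZMT.stalkToFunctionField_surjective f hξ hbir.2 hdom
  haveI := H10ZMT.isIso_app_of_affine f (fun V hV => by
    obtain ⟨hinj, hint⟩ := H10ZMT.app_integral_elems hY f hdom (fun z _ => hsurj z) V
    exact ⟨hinj, fun b => hint b (H10ZMT.isIntegral_app f V hV b)⟩) U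
  exact ConcreteCategory.bijective_of_isIso (f.app U)

/-- The fibres of a proper birational morphism to a normal scheme are connected. -/
theorem isPreconnected_fibre_of_birational [IsLocallyNoetherian Y] (f : X ⟶ Y) [IsProper f]
    (hY : Pi1.IsNormalScheme Y) (hξ : f (genericPoint X) = genericPoint Y)
    (hbir : Function.Bijective (f.stalkMap (genericPoint X))) (y : Y) :
    _root_.IsPreconnected (f ⁻¹' {y}) := by
  have : IsIso f.fromNormalization := H10ZMT.isIso_fromNormalization f fun V _ =>
    ⟨(bijective_app_of_birational f hY hξ hbir V).1, fun b _ => (bijective_app_of_birational f hY hξ hbir V).2 b⟩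
  obtain ⟨-, -, hcc⟩ := H10ZMT.fiber_components f y
  haveI : Subsingleton (f.fromNormalization.fiber y) := ⟨fun a b => by
    apply (f.fromNormalization.fiberι y).isEmbedding.injective
    apply f.fromNormalization.homeomorph.injective
    exact ((f.fromNormalization.range_fiberι y).subset (Set.mem_range_self a) :).trans
      ((f.fromNormalization.range_fiberι y).subset (Set.mem_range_self b) :).symm⟩
  have hu : _root_.IsPreconnected (Set.univ : Set (f.fiber y)) := by
    rcases isEmpty_or_nonempty (f.fiber y) with h | h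
    · rw [Set.univ_eq_empty_iff.2 h]
      exact isPreconnected_empty
    · obtain ⟨x⟩ := h
      have : (Set.univ : Set (f.fiber y)) = connectedComponent x := by
        ext z
        simp only [Set.mem_univ, true_iff]
        exact ((hcc x z).1 (Subsingleton.elim _ _)).symm ▸ mem_connectedComponent
      rw [this]
      exact isPreconnected_connectedComponent
  have := hu.image (f.fiberι y) (f.fiberι y).continuous.continuousOn
  rwa [Set.image_univ, f.range_fiberι] at this

/-- A morphism constant on the fibres of a proper birational morphism to a normal scheme descends. -/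
theorem exists_desc_of_birational (f : X ⟶ Y) [IsProper f]
    (hY : Pi1.IsNormalScheme Y) (hξ : f (genericPoint X) = genericPoint Y)
    (hbir : Function.Bijective (f.stalkMap (genericPoint X))) {Z : Scheme.{u}} [Z.IsSeparated] (g : X ⟶ Z)
    (hconst : ∀ x x' : X, f x = f x' → g x = g x') : ∃! h : Y ⟶ Z, f ≫ h = g := by
  haveI : IsDominant f := H10ZMT.isDominant_of_apply_genericPoint f hξ
  have hs : Function.Surjective f := by
    intro y
    have h1 : Set.range f = Set.univ := by
      rw [← f.isClosedMap.isClosed_range.closure_eq]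
      exact f.denseRange.closure_range
    exact h1.ge (Set.mem_univ y)
  have huniq : ∀ {W : Scheme.{u}} [IsReduced W] {W' : Scheme.{u}} (ι : W' ⟶ W) [IsDominant ι] (a b : W ⟶ Z),
      ι ≫ a = ι ≫ b → a = b := fun ι _ a b hab =>
    ext_of_isDominant_of_isSeparated (terminal.from Z) (terminal.hom_ext _ _) ι hab
  let hfun : Y → Z := fun y => g (Function.surjInv hs y)
  have hfg : ∀ x, hfun (f x) = g x := fun x => hconst _ _ (Function.surjInv_eq hs (f x))
  have hcont : Continuous hfun := by
    refine (f.isClosedMap.isQuotientMap f.continuous hs).continuous_iff.2 ?_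
    rw [show hfun ∘ f = g from funext hfg]
    exact g.continuous
  have hloc : ∀ y : Y, ∃ (V : Y.Opens) (hy : y ∈ V) (hV : V.toScheme ⟶ Z), (f ∣_ V) ≫ hV = (f ⁻¹ᵁ V).ι ≫ g := by
    intro y
    obtain ⟨W, hW, hyW, -⟩ := exists_isAffineOpen_mem_and_subset (U := (⊤ : Z.Opens)) (x := hfun y) trivial
    obtain ⟨V, hVa, hyV, hVW⟩ := exists_isAffineOpen_mem_and_subset
      (U := (⟨hfun ⁻¹' W, W.2.preimage hcont⟩ : Y.Opens)) (x := y) hyW
    refine ⟨V, hyV, ?_⟩
    have hle : f ⁻¹ᵁ V ≤ g ⁻¹ᵁ W := fun x hx => by
      show g x ∈ W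
      rw [← hfg x]
      exact hVW hx
    haveI : IsAffine V.toScheme := hVa
    haveI : IsAffine W.toScheme := hW
    let g' := g.resLE W (f ⁻¹ᵁ V) hle
    haveI : IsIso (f ∣_ V).appTop := by
      have hiso : ∀ U, IsIso (f.app U) := fun U =>
        (ConcreteCategory.isIso_iff_bijective _).2 (bijective_app_of_birational f hY hξ hbir U)
      rw [morphismRestrict_appTop]
      exact @IsIso.comp_isIso _ _ _ _ _ _ _ (hiso _) (Functor.map_isIso X.presheaf _)
    refine ⟨V.toScheme.toSpecΓ ≫ Spec.map (g'.appTop ≫ inv (f ∣_ V).appTop) ≫ W.toScheme.isoSpec.inv ≫ W.ι, ?_⟩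
    have : (f ∣_ V) ≫ V.toScheme.toSpecΓ ≫ Spec.map (g'.appTop ≫ inv (f ∣_ V).appTop) = g' ≫ W.toScheme.toSpecΓ := by
      rw [Scheme.toSpecΓ_naturality_assoc, ← Spec.map_comp, Category.assoc, IsIso.inv_hom_id, Category.comp_id,
        ← Scheme.toSpecΓ_naturality]
    rw [reassoc_of% this, ← Scheme.isoSpec_hom, Iso.hom_inv_id_assoc, Scheme.Hom.resLE_comp_ι]
  choose V hyV hV hVf using hloc
  let 𝒰 : Y.OpenCover := Scheme.openCoverOfIsOpenCover Y V (.mk (eq_top_iff.2 fun y _ => Opens.mem_iSup.2 ⟨y, hyV y⟩))
  let h : Y ⟶ Z := 𝒰.glueMorphisms hV (fun a b => by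
    let P := pullback (V a).ι (V b).ι
    let j : P ⟶ Y := pullback.fst (V a).ι (V b).ι ≫ (V a).ι
    haveI : IsOpenImmersion j := inferInstance
    haveI : IsReduced P := isReduced_of_isOpenImmersion j
    haveI : IsDominant (pullback.snd f j) := ⟨fun p => subset_closure (by
      obtain ⟨x, hx⟩ := hs (j p)
      obtain ⟨z, -, hz⟩ := Scheme.Pullback.exists_preimage_pullback x p hx
      exact ⟨z, hz⟩)⟩
    refine huniq (pullback.snd f j) _ _ ?_
    have ha : ∀ {T : Scheme.{u}} (t : T ⟶ X) (s : T ⟶ (V a).toScheme) (_ : t ≫ f = s ≫ (V a).ι),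
        s ≫ hV a = t ≫ g := fun t s hts => by
      obtain ⟨u, hu1, hu2⟩ := (isPullback_morphismRestrict f (V a)).exists_lift s t hts.symm
      rw [← hu1, Category.assoc, hVf a, reassoc_of% hu2]
    have hb : ∀ {T : Scheme.{u}} (t : T ⟶ X) (s : T ⟶ (V b).toScheme) (_ : t ≫ f = s ≫ (V b).ι),
        s ≫ hV b = t ≫ g := fun t s hts => by
      obtain ⟨u, hu1, hu2⟩ := (isPullback_morphismRestrict f (V b)).exists_lift s t hts.symm
      rw [← hu1, Category.assoc, hVf b, reassoc_of% hu2]
    have c := pullback.condition (f := f) (g := j)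
    erw [← Category.assoc, ← Category.assoc, ha (pullback.fst f j) _ (c.trans (Category.assoc _ _ _).symm),
      hb (pullback.fst f j) _ (c.trans ((congrArg (pullback.snd f j ≫ ·) pullback.condition).trans (Category.assoc _ _ _).symm))])
  have hcomp : f ≫ h = g := by
    refine Scheme.Cover.hom_ext (𝒰.pullback₁ f) _ _ fun i => ?_
    obtain ⟨u, hu1, hu2⟩ := (isPullback_morphismRestrict f (V i)).exists_lift (pullback.snd f (V i).ι)
      (pullback.fst f (V i).ι) pullback.condition.symm
    show pullback.fst f (V i).ι ≫ f ≫ h = pullback.fst f (V i).ι ≫ g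
    rw [pullback.condition_assoc, show (V i).ι ≫ h = hV i from 𝒰.ι_glueMorphisms _ _ i, ← hu1, Category.assoc, hVf i,
      reassoc_of% hu2]
  exact ⟨h, hcomp, fun h' hh' => huniq f h' h (hh'.trans hcomp.symm)⟩

end Groth.Agent.H28Pinch
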