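-- Descent of module properties along a pinching square of rings (Ferrand)
import Mathlib.RingTheory.Flat.Tensor
import Mathlib.RingTheory.Flat.Stability
import Mathlib.RingTheory.Flat.Equalizer
import Mathlib.Algebra.Module.FinitePresentation
import Mathlib.LinearAlgebra.TensorProduct.Finiteness
import Mathlib.LinearAlgebra.TensorProduct.RightExactness
import Mathlib.RingTheory.Ideal.Maps
import Mathlib.Algebra.Module.RingHom

/-!
# Modules over a pinching square of rings

`R → A` surjective with kernel `I`, `R → B` injective on `I`, and the image of `I` is an ideal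
of `B`. Properties of an `R`-module descend from its base changes to `A` and `B`.
-/

set_option autoImplicit false
set_option linter.style.haveILetI false

universe u

open TensorProduct

namespace Groth.Agent.H28Pinch.ModuleDescent

section BaseChange

variable {R C : Type u} [CommRing R] [CommRing C] [Algebra R C]
  {M N P : Type u} [AddCommGroup M] [Module R M]
  [AddCommGroup N] [Module R N] [AddCommGroup P] [Module R P]

/-- An injective `C`-linear map stays injective after `⊗_R M` if `C ⊗_R M` is flat over `C`. -/
theorem rTensor_injective_of_tower [Module C N] [IsScalarTower R C N] [Module C P]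
    [IsScalarTower R C P] [Module.Flat C (C ⊗[R] M)] (f : N →ₗ[C] P) (hf : Function.Injective f) :
    Function.Injective ((f.restrictScalars R).rTensor M) := by
  have h := Module.Flat.rTensor_preserves_injective_linearMap (M := C ⊗[R] M) f hf
  let eN := AlgebraTensorModule.cancelBaseChange R C C N M
  let eP := AlgebraTensorModule.cancelBaseChange R C C P M
  have e : ∀ x, (f.restrictScalars R).rTensor M (eN x) = eP (f.rTensor (C ⊗[R] M) x) := by
    intro x
    induction x with
    | zero => simp
    | add a b ha hb => simp only [map_add, ha, hb]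
    | tmul n z =>
      induction z with
      | zero => simp
      | add a b ha hb => simp only [tmul_add, map_add, ha, hb]
      | tmul c m => simp [eN, eP]
  intro x y hxy
  obtain ⟨x, rfl⟩ := eN.surjective x
  obtain ⟨y, rfl⟩ := eN.surjective y
  rw [e, e] at hxy
  rw [h (eP.injective hxy)]

/-- An injective map of modules killed by the kernel of a surjection `R → C` stays injective
after `⊗_R M` if `C ⊗_R M` is flat over `C`. -/
theorem rTensor_injective_of_surjective (hC : Function.Surjective (algebraMap R C))
    [Module.Flat C (C ⊗[R] M)]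
    (hN : ∀ i ∈ RingHom.ker (algebraMap R C), ∀ x : N, i • x = 0)
    (hP : ∀ i ∈ RingHom.ker (algebraMap R C), ∀ x : P, i • x = 0)
    (f : N →ₗ[R] P) (hf : Function.Injective f) : Function.Injective (f.rTensor M) := by
  have key : ∀ r, Function.surjInv hC (algebraMap R C r) - r ∈ RingHom.ker (algebraMap R C) := by
    intro r
    rw [RingHom.sub_mem_ker_iff, Function.surjInv_eq hC]
  letI : SMul C N := ⟨fun c x => Function.surjInv hC c • x⟩
  letI : SMul C P := ⟨fun c x => Function.surjInv hC c • x⟩
  have sN : ∀ (r : R) (x : N), algebraMap R C r • x = r • x := fun r x =>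
    sub_eq_zero.1 ((sub_smul _ r x).symm.trans (hN _ (key r) x))
  have sP : ∀ (r : R) (x : P), algebraMap R C r • x = r • x := fun r x =>
    sub_eq_zero.1 ((sub_smul _ r x).symm.trans (hP _ (key r) x))
  letI : Module C N := Function.Surjective.moduleLeft (algebraMap R C) hC sN
  letI : Module C P := Function.Surjective.moduleLeft (algebraMap R C) hC sP
  haveI : IsScalarTower R C N := .of_algebraMap_smul sN
  haveI : IsScalarTower R C P := .of_algebraMap_smul sP
  exact rTensor_injective_of_tower
    ({ toFun := f, map_add' := map_add f,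
       map_smul' := fun c x => f.map_smul (Function.surjInv hC c) x } : N →ₗ[C] P) hf

/-- Finitely many elements of `M` generate a finite base change. -/
theorem exists_fg_surjective [Module.Finite C (C ⊗[R] M)] :
    ∃ N : Submodule R M, N.FG ∧ Function.Surjective (N.subtype.lTensor C) := by
  classical
  obtain ⟨s, hs⟩ := (Module.Finite.fg_top : (⊤ : Submodule C (C ⊗[R] M)).FG)
  choose T hT using fun x : C ⊗[R] M => TensorProduct.exists_finset x
  refine ⟨Submodule.span R (s.biUnion fun x => (T x).image Prod.snd : Finset M),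
    Submodule.fg_span (Finset.finite_toSet _), ?_⟩
  set N := Submodule.span R ((s.biUnion fun x => (T x).image Prod.snd : Finset M) : Set M) with hN
  have h : ⊤ ≤ LinearMap.range (N.subtype.baseChange C) := by
    rw [← hs, Submodule.span_le]
    intro x hx
    rw [hT x]
    refine Submodule.sum_mem _ fun p hp => ?_
    exact ⟨p.1 ⊗ₜ ⟨p.2, Submodule.subset_span (Finset.mem_biUnion.2
      ⟨x, hx, Finset.mem_image_of_mem _ hp⟩)⟩, rfl⟩
  intro z
  obtain ⟨w, hw⟩ := h (Submodule.mem_top : z ∈ ⊤)
  exact ⟨w, hw⟩

theorem surjective_lTensor_mono {N N' : Submodule R M} (h : N ≤ N')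
    (hN : Function.Surjective (N.subtype.lTensor C)) :
    Function.Surjective (N'.subtype.lTensor C) := by
  intro z
  obtain ⟨w, rfl⟩ := hN z
  refine ⟨(Submodule.inclusion h).lTensor C w, ?_⟩
  rw [← LinearMap.lTensor_comp_apply]
  rfl

theorem subsingleton_tensor_quotient {N : Submodule R M}
    (hN : Function.Surjective (N.subtype.lTensor C)) : Subsingleton (C ⊗[R] (M ⧸ N)) := by
  refine subsingleton_of_forall_eq 0 fun z => ?_
  obtain ⟨y, rfl⟩ := LinearMap.lTensor_surjective C N.mkQ_surjective z
  obtain ⟨w, rfl⟩ := hN y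
  rw [← LinearMap.lTensor_comp_apply, show N.mkQ ∘ₗ N.subtype = 0 by ext; simp,
    LinearMap.lTensor_zero, LinearMap.zero_apply]

end BaseChange

variable {R A B : Type u} [CommRing R] [CommRing A] [CommRing B] [Algebra R A] [Algebra R B]
  (hA : Function.Surjective (algebraMap R A))
  (hinj : RingHom.ker (algebraMap R B) ⊓ RingHom.ker (algebraMap R A) = ⊥)
  (hI : ∀ a ∈ Ideal.map (algebraMap R B) (RingHom.ker (algebraMap R A)),
    ∃ i ∈ RingHom.ker (algebraMap R A), algebraMap R B i = a)
  {M : Type u} [AddCommGroup M] [Module R M]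

include hinj in
theorem eq_of_map_eq {i j : R} (hi : i ∈ RingHom.ker (algebraMap R A))
    (hj : j ∈ RingHom.ker (algebraMap R A)) (h : algebraMap R B i = algebraMap R B j) : i = j := by
  have : i - j ∈ RingHom.ker (algebraMap R B) ⊓ RingHom.ker (algebraMap R A) :=
    ⟨(RingHom.sub_mem_ker_iff _).2 h, Ideal.sub_mem _ hi hj⟩
  rw [hinj] at this
  exact sub_eq_zero.1 this

include hA hinj hI in
/-- A module with vanishing base changes vanishes. -/
theorem subsingleton_descent [Subsingleton (A ⊗[R] M)] [Subsingleton (B ⊗[R] M)] :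
    Subsingleton M := by
  refine subsingleton_of_forall_eq 0 fun m => ?_
  have hIM : ∀ i ∈ RingHom.ker (algebraMap R A), ∀ x : M, i • x = 0 := by
    intro i hi x
    choose β hβ hβe using fun b : B => hI _ (Ideal.mul_mem_left _ b (Ideal.mem_map_of_mem _ hi))
    let β' : B →ₗ[R] R :=
      { toFun := β
        map_add' := fun b c => eq_of_map_eq hinj (hβ _) (Ideal.add_mem _ (hβ b) (hβ c))
          (by rw [map_add, hβe, hβe, hβe, add_mul])
        map_smul' := fun r b => eq_of_map_eq hinj (hβ _) (Ideal.mul_mem_left _ r (hβ b))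
          (by simp only [RingHom.id_apply, smul_eq_mul, map_mul, hβe, Algebra.smul_def, mul_assoc]) }
    let T : B ⊗[R] M →ₗ[R] M := TensorProduct.lift ((LinearMap.lsmul R M).comp β')
    have e : T (1 ⊗ₜ x) = i • x := by
      show β 1 • x = i • x
      rw [eq_of_map_eq hinj (hβ 1) hi (by rw [hβe, one_mul])]
    rw [← e, Subsingleton.elim ((1 : B) ⊗ₜ[R] x) 0, map_zero]
  have key : ∀ r, Function.surjInv hA (algebraMap R A r) - r ∈ RingHom.ker (algebraMap R A) := by
    intro r
    rw [RingHom.sub_mem_ker_iff, Function.surjInv_eq hA]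
  letI : SMul A M := ⟨fun c x => Function.surjInv hA c • x⟩
  have sM : ∀ (r : R) (x : M), algebraMap R A r • x = r • x := fun r x =>
    sub_eq_zero.1 ((sub_smul _ r x).symm.trans (hIM _ (key r) x))
  letI : Module A M := Function.Surjective.moduleLeft (algebraMap R A) hA sM
  haveI : IsScalarTower R A M := .of_algebraMap_smul sM
  have e : LinearMap.liftBaseChange A (LinearMap.id : M →ₗ[R] M) (1 ⊗ₜ m) = m := by simp
  rw [← e, Subsingleton.elim ((1 : A) ⊗ₜ[R] m) 0, map_zero]

include hA hinj hI in
/-- A module with finite base changes is finite. -/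
theorem finite_descent [Module.Finite A (A ⊗[R] M)] [Module.Finite B (B ⊗[R] M)] :
    Module.Finite R M := by
  obtain ⟨N₁, h₁, s₁⟩ := exists_fg_surjective (R := R) (C := A) (M := M)
  obtain ⟨N₂, h₂, s₂⟩ := exists_fg_surjective (R := R) (C := B) (M := M)
  haveI := subsingleton_tensor_quotient (surjective_lTensor_mono (le_sup_left (b := N₂)) s₁)
  haveI := subsingleton_tensor_quotient (surjective_lTensor_mono (le_sup_right (a := N₁)) s₂)
  have := subsingleton_descent hA hinj hI (M := M ⧸ (N₁ ⊔ N₂))
  exact ⟨(Submodule.Quotient.subsingleton_iff.1 this) ▸ h₁.sup h₂⟩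

include hA in
/-- Submodules of `B` stay submodules after `⊗ M`. -/
theorem rTensor_subtype_injective [Module.Flat A (A ⊗[R] M)] [Module.Flat B (B ⊗[R] M)]
    (K : Submodule R B)
    (hI : ∀ a ∈ Ideal.map (algebraMap R B) (RingHom.ker (algebraMap R A)),
      ∃ i ∈ RingHom.ker (algebraMap R A), algebraMap R B i = a) :
    Function.Injective (K.subtype.rTensor M) := by
  let J := Ideal.map (algebraMap R B) (RingHom.ker (algebraMap R A))
  let L : Ideal B := J * Ideal.span (K : Set B)
  have hLK : ∀ x ∈ L, x ∈ K := fun x hx => by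
    refine Submodule.mul_induction_on hx (fun a ha b hb => ?_) fun p q hp hq => K.add_mem hp hq
    revert a
    refine Submodule.span_induction (p := fun b _ => ∀ a ∈ J, a * b ∈ K)
      (fun b hb a ha => ?_) (fun a _ => by simp) (fun b c _ _ hb hc a ha => ?_)
      (fun c b _ hb a ha => ?_) hb
    · obtain ⟨i, -, rfl⟩ := hI a ha
      rw [← Algebra.smul_def]
      exact K.smul_mem i hb
    · rw [mul_add]
      exact K.add_mem (hb a ha) (hc a ha)
    · rw [smul_eq_mul, ← mul_assoc]
      exact hb _ (J.mul_mem_right c ha)
  let Q : Ideal B :=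
    { carrier := {b | ∀ a ∈ J, a * b ∈ L}
      add_mem' := fun hb hc a ha => by rw [mul_add]; exact L.add_mem (hb a ha) (hc a ha)
      zero_mem' := fun a _ => by simp
      smul_mem' := fun c b hb a ha => by
        rw [smul_eq_mul, mul_left_comm]
        exact L.mul_mem_left c (hb a ha) }
  have hKQ : ∀ x ∈ K, x ∈ Q := fun x hx a ha => Ideal.mul_mem_mul ha (Ideal.subset_span hx)
  let j : K →ₗ[R] Q :=
    { toFun := fun x => ⟨x.1, hKQ x.1 x.2⟩
      map_add' := fun _ _ => rfl
      map_smul' := fun _ _ => rfl }
  let v : Q →ₗ[R] B := (Submodule.subtype Q).restrictScalars R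
  let LK : Submodule R K := (L.restrictScalars R).comap K.subtype
  let LQ : Submodule R Q := (L.restrictScalars R).comap v
  let q : K ⧸ LK →ₗ[R] Q ⧸ LQ := LK.mapQ LQ j fun x hx => hx
  have hq : Function.Injective q := by
    refine (injective_iff_map_eq_zero q).2 fun z hz => ?_
    obtain ⟨z, rfl⟩ := LK.mkQ_surjective z
    exact (Submodule.Quotient.mk_eq_zero _).2
      ((Submodule.Quotient.mk_eq_zero LQ (x := j z)).1 hz)
  refine (injective_iff_map_eq_zero _).2 fun z hz => ?_
  have h1 : j.rTensor M z = 0 := by
    refine (injective_iff_map_eq_zero _).1 (rTensor_injective_of_tower (M := M)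
      (Submodule.subtype Q) Subtype.val_injective) _ ?_
    rw [← LinearMap.rTensor_comp_apply]
    exact hz
  have killK : ∀ i ∈ RingHom.ker (algebraMap R A), ∀ x : K ⧸ LK, i • x = 0 := fun i hi x => by
    obtain ⟨x, rfl⟩ := LK.mkQ_surjective x
    rw [← map_smul]
    refine (Submodule.Quotient.mk_eq_zero _).2 ?_
    show i • x.1 ∈ L
    rw [Algebra.smul_def]
    exact hKQ x.1 x.2 _ (Ideal.mem_map_of_mem _ hi)
  have killQ : ∀ i ∈ RingHom.ker (algebraMap R A), ∀ x : Q ⧸ LQ, i • x = 0 := fun i hi x => by
    obtain ⟨x, rfl⟩ := LQ.mkQ_surjective x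
    rw [← map_smul]
    refine (Submodule.Quotient.mk_eq_zero _).2 ?_
    show i • x.1 ∈ L
    rw [Algebra.smul_def]
    exact x.2 _ (Ideal.mem_map_of_mem _ hi)
  have h2 : LK.mkQ.rTensor M z = 0 := by
    refine (injective_iff_map_eq_zero _).1
      (rTensor_injective_of_surjective (M := M) hA killK killQ q hq) _ ?_
    rw [← LinearMap.rTensor_comp_apply, show q ∘ₗ LK.mkQ = LQ.mkQ ∘ₗ j from Submodule.mapQ_mkQ ..,
      LinearMap.rTensor_comp_apply, h1, map_zero]
  let l : L →ₗ[R] K :=
    { toFun := fun x => ⟨x.1, hLK x.1 x.2⟩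
      map_add' := fun _ _ => rfl
      map_smul' := fun _ _ => rfl }
  have hl : Function.Exact l LK.mkQ := fun x =>
    (Submodule.Quotient.mk_eq_zero LK).trans
      ⟨fun h => ⟨⟨x.1, h⟩, rfl⟩, by rintro ⟨y, rfl⟩; exact y.2⟩
  obtain ⟨w, rfl⟩ := (rTensor_exact M hl LK.mkQ_surjective z).1 h2
  have h3 : w = 0 := by
    refine (injective_iff_map_eq_zero _).1 (rTensor_injective_of_tower (M := M)
      (Submodule.subtype L) Subtype.val_injective) _ ?_
    rw [← LinearMap.rTensor_comp_apply] at hz
    exact hz
  rw [h3, map_zero]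

include hA hinj hI in
/-- A module with flat base changes is flat. -/
theorem flat_descent [Module.Flat A (A ⊗[R] M)] [Module.Flat B (B ⊗[R] M)] : Module.Flat R M := by
  refine Module.Flat.iff_rTensor_injective'.2 fun a => ?_
  refine (injective_iff_map_eq_zero _).2 fun z hz => ?_
  let b : Ideal A := Ideal.map (algebraMap R A) a
  let p : a →ₗ[R] b :=
    { toFun := fun x => ⟨algebraMap R A x.1, Ideal.mem_map_of_mem _ x.2⟩
      map_add' := fun x y => Subtype.ext (map_add _ _ _)
      map_smul' := fun r x => Subtype.ext (by simp [Algebra.smul_def]) }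
  have hp : Function.Surjective p := fun ⟨y, hy⟩ => by
    obtain ⟨x, hx, rfl⟩ := (Ideal.mem_map_iff_of_surjective _ hA).1 hy
    exact ⟨⟨x, hx⟩, rfl⟩
  have h1 : p.rTensor M z = 0 := by
    refine (injective_iff_map_eq_zero _).1 (rTensor_injective_of_tower (M := M)
      (Submodule.subtype b) Subtype.val_injective) _ ?_
    rw [← LinearMap.rTensor_comp_apply,
      show (Submodule.subtype b).restrictScalars R ∘ₗ p = Algebra.linearMap R A ∘ₗ a.subtype from
        rfl, LinearMap.rTensor_comp_apply, hz, map_zero]
  obtain ⟨w, rfl⟩ := (rTensor_exact M (LinearMap.exact_subtype_ker_map p) hp z).1 h1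
  let g : LinearMap.ker p →ₗ[R] B :=
    Algebra.linearMap R B ∘ₗ a.subtype ∘ₗ (LinearMap.ker p).subtype
  have hker : ∀ x : LinearMap.ker p, x.1.1 ∈ RingHom.ker (algebraMap R A) := fun x =>
    congrArg Subtype.val (LinearMap.mem_ker.1 x.2)
  have hg : Function.Injective g := fun x y h =>
    Subtype.ext (Subtype.ext (eq_of_map_eq hinj (hker x) (hker y) h))
  have h2 : g.rTensor M w = 0 := by
    rw [show g = (Algebra.linearMap R B ∘ₗ a.subtype) ∘ₗ (LinearMap.ker p).subtype from rfl,
      LinearMap.rTensor_comp_apply, LinearMap.rTensor_comp_apply, hz, map_zero]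
  have h3 : ((LinearEquiv.ofInjective g hg).toLinearMap).rTensor M w = 0 := by
    refine (injective_iff_map_eq_zero _).1 (rTensor_subtype_injective (M := M) hA _ hI) _ ?_
    rw [← LinearMap.rTensor_comp_apply]
    exact h2
  rw [((LinearEquiv.ofInjective g hg).rTensor M).map_eq_zero_iff.1 h3, map_zero]

include hA hinj hI in
/-- A flat module with finitely presented base changes is finitely presented. -/
theorem finitePresentation_descent [Module.Finite R M] [Module.Flat R M]
    [Module.FinitePresentation A (A ⊗[R] M)] [Module.FinitePresentation B (B ⊗[R] M)] :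
    Module.FinitePresentation R M := by
  obtain ⟨n, π, hπ⟩ := Module.Finite.exists_fin' R M
  have key : ∀ (C : Type u) [CommRing C] [Algebra R C]
      [Module.FinitePresentation C (C ⊗[R] M)], Module.Finite C (C ⊗[R] LinearMap.ker π) := by
    intro C _ _ _
    have hinj' : Function.Injective ((LinearMap.ker π).subtype.lTensor C) :=
      LinearMap.lTensor_injective_of_exact_of_flat π hπ _ Subtype.val_injective
        (LinearMap.exact_subtype_ker_map π) C
    have hs : Function.Surjective (π.baseChange C) := LinearMap.lTensor_surjective C hπ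
    have hfg := Module.FinitePresentation.fg_ker (π.baseChange C) hs
    have hr : LinearMap.range ((LinearMap.ker π).subtype.baseChange C) =
        LinearMap.ker (π.baseChange C) :=
      SetLike.ext fun z => ((lTensor_exact C (LinearMap.exact_subtype_ker_map π) hπ) z).symm
    haveI : Module.Finite C (LinearMap.ker (π.baseChange C)) := Module.Finite.iff_fg.2 hfg
    exact Module.Finite.equiv ((LinearEquiv.ofInjective
      ((LinearMap.ker π).subtype.baseChange C) hinj').trans (LinearEquiv.ofEq _ _ hr)).symm
  haveI := key A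
  haveI := key B
  haveI := finite_descent hA hinj hI (M := LinearMap.ker π)
  exact Module.finitePresentation_of_surjective π hπ (Module.Finite.iff_fg.1 inferInstance)

end Groth.Agent.H28Pinch.ModuleDescent
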