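-- Descent of properties of quasi-coherent modules along a pinching square
import Groth.Agent.H28Pinch.ModuleDescent
import Groth.Agent.H8Props.RelFP.PullSections
import Groth.Agent.H8Props.FinLocFree.Sheaf
import Groth.Agent.H10Coh.Proper
import Mathlib.AlgebraicGeometry.Morphisms.ClosedImmersion

/-!
# Properties of quasi-coherent modules along a pinching square
-/

set_option autoImplicit false
set_option linter.style.haveILetI false

universe u

open AlgebraicGeometry CategoryTheory Limits TopologicalSpace Opposite TensorProduct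

namespace Groth.Agent.H28Pinch

variable {X Y Y' : Scheme.{u}}

theorem subsingleton_sections_of_isZero {G : Y.Modules} (h : IsZero G) (V : Y.Opens) :
    Subsingleton Γ(G, V) := by
  refine subsingleton_of_forall_eq 0 fun s => ?_
  simpa using congrArg (fun φ : G ⟶ G => φ.app V s) (h.eq_of_src (𝟙 G) 0)

theorem isZero_of_affine_subsingleton (G : Y.Modules)
    (h : ∀ V : Y.Opens, IsAffineOpen V → Subsingleton Γ(G, V)) : IsZero G := by
  refine H10Coh.isZero_of_sections G fun U => subsingleton_of_forall_eq 0 fun s => ?_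
  choose W hW hxW hle using fun x : U => show ∃ W : Y.Opens, IsAffineOpen W ∧ x.1 ∈ W ∧ W ≤ U by
    obtain ⟨_, ⟨W, hW : IsAffineOpen W, rfl⟩, hxW, hle⟩ :=
      Y.isBasis_affineOpens.exists_subset_of_mem_open x.2 U.isOpen
    exact ⟨W, hW, hxW, hle⟩
  exact TopCat.Sheaf.eq_of_locally_eq' (H10Coh.sheafOf G) W U (fun x => homOfLE (hle x))
    (fun x hx => Opens.mem_iSup.2 ⟨⟨x, hx⟩, hxW ⟨x, hx⟩⟩) s 0
    fun x => @Subsingleton.elim _ (h _ (hW x)) _ _

variable (f : X ⟶ Y) (u : Y' ⟶ Y) [IsAffineHom f] [IsClosedImmersion u]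

theorem sections_equiv {Z : Scheme.{u}} (v : Z ⟶ Y) [IsAffineHom v] (G : Y.Modules)
    [G.IsQuasicoherent] {V : Y.Opens} (hV : IsAffineOpen V) :
    letI := (v.appLE V (v ⁻¹ᵁ V) le_rfl).hom.toAlgebra
    Nonempty (Γ(Z, v ⁻¹ᵁ V) ⊗[Γ(Y, V)] Γ(G, V) ≃ₗ[Γ(Z, v ⁻¹ᵁ V)]
      Γ((Scheme.Modules.pullback v).obj G, v ⁻¹ᵁ V)) :=
  letI := (v.appLE V (v ⁻¹ᵁ V) le_rfl).hom.toAlgebra
  letI := Module.compHom Γ((Scheme.Modules.pullback v).obj G, v ⁻¹ᵁ V)
    (v.appLE V (v ⁻¹ᵁ V) le_rfl).hom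
  haveI : IsScalarTower Γ(Y, V) Γ(Z, v ⁻¹ᵁ V) Γ((Scheme.Modules.pullback v).obj G, v ⁻¹ᵁ V) :=
    .of_algebraMap_smul fun _ _ => rfl
  ⟨(H8Props.PullSections.isBaseChange_pullLin v G le_rfl ‹_› hV (hV.preimage v)).equiv⟩

/-- The condition that a square is pinching. -/
def IsPinching : Prop :=
  ∀ V ∈ Y.affineOpens,
      RingHom.ker (f.app V).hom ⊓ RingHom.ker (u.app V).hom = ⊥ ∧
      ∀ a ∈ Ideal.map (f.app V).hom (RingHom.ker (u.app V).hom),
        ∃ i ∈ RingHom.ker (u.app V).hom, (f.app V).hom i = a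

omit [IsAffineHom f] in
theorem square_facts (hM : IsPinching f u) {V : Y.Opens} (hV : IsAffineOpen V) :
    Function.Surjective (u.appLE V (u ⁻¹ᵁ V) le_rfl).hom ∧
    RingHom.ker (f.appLE V (f ⁻¹ᵁ V) le_rfl).hom ⊓
      RingHom.ker (u.appLE V (u ⁻¹ᵁ V) le_rfl).hom = ⊥ ∧
      ∀ a ∈ Ideal.map (f.appLE V (f ⁻¹ᵁ V) le_rfl).hom
          (RingHom.ker (u.appLE V (u ⁻¹ᵁ V) le_rfl).hom),
        ∃ i ∈ RingHom.ker (u.appLE V (u ⁻¹ᵁ V) le_rfl).hom,
          (f.appLE V (f ⁻¹ᵁ V) le_rfl).hom i = a := by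
  rw [← Scheme.Hom.app_eq_appLE, ← Scheme.Hom.app_eq_appLE]
  exact ⟨u.app_surjective V hV, hM V hV⟩

variable {f u} (hM : IsPinching f u) (G : Y.Modules) [G.IsQuasicoherent]

include hM in
theorem isZero_descent (h1 : IsZero ((Scheme.Modules.pullback u).obj G))
    (h2 : IsZero ((Scheme.Modules.pullback f).obj G)) : IsZero G := by
  refine isZero_of_affine_subsingleton G fun V hV => ?_
  obtain ⟨s, hinj, hI⟩ := square_facts f u hM hV
  letI := (u.appLE V (u ⁻¹ᵁ V) le_rfl).hom.toAlgebra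
  letI := (f.appLE V (f ⁻¹ᵁ V) le_rfl).hom.toAlgebra
  obtain ⟨eu⟩ := sections_equiv u G hV
  obtain ⟨ef⟩ := sections_equiv f G hV
  haveI := subsingleton_sections_of_isZero h1 (u ⁻¹ᵁ V)
  haveI := subsingleton_sections_of_isZero h2 (f ⁻¹ᵁ V)
  haveI := eu.toEquiv.subsingleton
  haveI := ef.toEquiv.subsingleton
  exact ModuleDescent.subsingleton_descent (M := Γ(G, V)) (A := Γ(Y', u ⁻¹ᵁ V))
    (B := Γ(X, f ⁻¹ᵁ V)) s hinj hI

include hM in
theorem finite_sections_descent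
    (h1 : CohB1.IsFT ((Scheme.Modules.pullback u).obj G))
    (h2 : CohB1.IsFT ((Scheme.Modules.pullback f).obj G)) {V : Y.Opens} (hV : IsAffineOpen V) :
    Module.Finite Γ(Y, V) Γ(G, V) := by
  obtain ⟨s, hinj, hI⟩ := square_facts f u hM hV
  letI := (u.appLE V (u ⁻¹ᵁ V) le_rfl).hom.toAlgebra
  letI := (f.appLE V (f ⁻¹ᵁ V) le_rfl).hom.toAlgebra
  obtain ⟨eu⟩ := sections_equiv u G hV
  obtain ⟨ef⟩ := sections_equiv f G hV
  haveI : ((Scheme.Modules.pullback u).obj G).IsQuasicoherent := H29Fitt.isQCoh_pullback u G ‹_›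
  haveI : ((Scheme.Modules.pullback f).obj G).IsQuasicoherent := H29Fitt.isQCoh_pullback f G ‹_›
  haveI := H10Coh.finite_sections _ h1 (hV.preimage u)
  haveI := H10Coh.finite_sections _ h2 (hV.preimage f)
  haveI := Module.Finite.equiv eu.symm
  haveI := Module.Finite.equiv ef.symm
  exact ModuleDescent.finite_descent (M := Γ(G, V)) (A := Γ(Y', u ⁻¹ᵁ V))
    (B := Γ(X, f ⁻¹ᵁ V)) s hinj hI

include hM in
theorem isFT_descent (h1 : CohB1.IsFT ((Scheme.Modules.pullback u).obj G))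
    (h2 : CohB1.IsFT ((Scheme.Modules.pullback f).obj G)) : CohB1.IsFT G := by
  choose V hV hxV using fun x : Y => show ∃ V : Y.Opens, IsAffineOpen V ∧ x ∈ V by
    obtain ⟨_, ⟨V, hV : IsAffineOpen V, rfl⟩, hxV, -⟩ :=
      Y.isBasis_affineOpens.exists_subset_of_mem_open (Set.mem_univ x) isOpen_univ
    exact ⟨V, hV, hxV⟩
  exact (H10Coh.isFT_isFP_of_affineCover _ V
    (eq_top_iff.2 fun x _ => Opens.mem_iSup.2 ⟨x, hxV x⟩) hV
    fun x => finite_sections_descent hM G h1 h2 (hV x)).1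

omit [IsAffineHom f] in
theorem isFlat_pullback (h : FlatMod.IsFlat G) :
    FlatMod.IsFlat ((Scheme.Modules.pullback f).obj G) := by
  intro x
  obtain ⟨_, ⟨W, hW : IsAffineOpen W, rfl⟩, hxW, -⟩ :=
    Y.isBasis_affineOpens.exists_subset_of_mem_open (Set.mem_univ (f x)) isOpen_univ
  obtain ⟨_, ⟨U, hU : IsAffineOpen U, rfl⟩, hxU, hle : U ≤ f ⁻¹ᵁ W⟩ :=
    X.isBasis_affineOpens.exists_subset_of_mem_open (show x ∈ f ⁻¹ᵁ W from hxW) (f ⁻¹ᵁ W).isOpen
  letI := (f.appLE W U hle).hom.toAlgebra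
  haveI := (H8Props.FinLocFree.flat_sections_iff G ‹_› hW).2 fun y => h y.1
  letI := Module.compHom Γ((Scheme.Modules.pullback f).obj G, U) (f.appLE W U hle).hom
  haveI : IsScalarTower Γ(Y, W) Γ(X, U) Γ((Scheme.Modules.pullback f).obj G, U) :=
    .of_algebraMap_smul fun _ _ => rfl
  exact (H8Props.FinLocFree.flat_sections_iff _ (H29Fitt.isQCoh_pullback f G ‹_›) hU).1
    (Module.Flat.of_linearEquiv
      (H8Props.PullSections.isBaseChange_pullLin f G hle ‹_› hW hU).equiv.symm) ⟨x, hxU⟩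

include hM in
theorem flat_sections_descent
    (h1 : FlatMod.IsFlat ((Scheme.Modules.pullback u).obj G))
    (h2 : FlatMod.IsFlat ((Scheme.Modules.pullback f).obj G)) {V : Y.Opens} (hV : IsAffineOpen V) :
    Module.Flat Γ(Y, V) Γ(G, V) := by
  obtain ⟨s, hinj, hI⟩ := square_facts f u hM hV
  letI := (u.appLE V (u ⁻¹ᵁ V) le_rfl).hom.toAlgebra
  letI := (f.appLE V (f ⁻¹ᵁ V) le_rfl).hom.toAlgebra
  obtain ⟨eu⟩ := sections_equiv u G hV
  obtain ⟨ef⟩ := sections_equiv f G hV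
  haveI := (H8Props.FinLocFree.flat_sections_iff _ (H29Fitt.isQCoh_pullback u G ‹_›)
    (hV.preimage u)).2 fun y => h1 y.1
  haveI := (H8Props.FinLocFree.flat_sections_iff _ (H29Fitt.isQCoh_pullback f G ‹_›)
    (hV.preimage f)).2 fun y => h2 y.1
  haveI := Module.Flat.of_linearEquiv eu
  haveI := Module.Flat.of_linearEquiv ef
  exact ModuleDescent.flat_descent (M := Γ(G, V)) (A := Γ(Y', u ⁻¹ᵁ V))
    (B := Γ(X, f ⁻¹ᵁ V)) s hinj hI

include hM in
theorem isFlat_descent (h1 : FlatMod.IsFlat ((Scheme.Modules.pullback u).obj G))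
    (h2 : FlatMod.IsFlat ((Scheme.Modules.pullback f).obj G)) : FlatMod.IsFlat G := by
  intro x
  obtain ⟨_, ⟨V, hV : IsAffineOpen V, rfl⟩, hxV, -⟩ :=
    Y.isBasis_affineOpens.exists_subset_of_mem_open (Set.mem_univ x) isOpen_univ
  exact (H8Props.FinLocFree.flat_sections_iff G ‹_› hV).1
    (flat_sections_descent hM G h1 h2 hV) ⟨x, hxV⟩

omit [IsAffineHom f] in
theorem isFinLocFree_pullback (h : FlatMod.IsFinLocFree G) :
    FlatMod.IsFinLocFree ((Scheme.Modules.pullback f).obj G) := by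
  refine H8Props.FinLocFree.isFinLocFree_of_sections _ (H29Fitt.isQCoh_pullback f G ‹_›) fun x => ?_
  obtain ⟨_, ⟨W, hW : IsAffineOpen W, rfl⟩, hxW, -⟩ :=
    Y.isBasis_affineOpens.exists_subset_of_mem_open (Set.mem_univ (f x)) isOpen_univ
  obtain ⟨_, ⟨U, hU : IsAffineOpen U, rfl⟩, hxU, hle : U ≤ f ⁻¹ᵁ W⟩ :=
    X.isBasis_affineOpens.exists_subset_of_mem_open (show x ∈ f ⁻¹ᵁ W from hxW) (f ⁻¹ᵁ W).isOpen
  letI := (f.appLE W U hle).hom.toAlgebra
  letI := Module.compHom Γ((Scheme.Modules.pullback f).obj G, U) (f.appLE W U hle).hom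
  haveI : IsScalarTower Γ(Y, W) Γ(X, U) Γ((Scheme.Modules.pullback f).obj G, U) :=
    .of_algebraMap_smul fun _ _ => rfl
  obtain ⟨i1, i2⟩ := H8Props.FinLocFree.finite_projective_sections G h hW
  let e := (H8Props.PullSections.isBaseChange_pullLin f G hle ‹_› hW hU).equiv
  haveI := Module.Finite.equiv e
  haveI := Module.Projective.of_equiv e
  exact ⟨U, hU, hxU, Module.finitePresentation_of_projective _ _, inferInstance⟩

include hM in
theorem isFinLocFree_descent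
    (h1 : FlatMod.IsFinLocFree ((Scheme.Modules.pullback u).obj G))
    (h2 : FlatMod.IsFinLocFree ((Scheme.Modules.pullback f).obj G)) : FlatMod.IsFinLocFree G := by
  refine H8Props.FinLocFree.isFinLocFree_of_sections _ ‹_› fun x => ?_
  obtain ⟨_, ⟨V, hV : IsAffineOpen V, rfl⟩, hxV, -⟩ :=
    Y.isBasis_affineOpens.exists_subset_of_mem_open (Set.mem_univ x) isOpen_univ
  obtain ⟨s, hinj, hI⟩ := square_facts f u hM hV
  letI := (u.appLE V (u ⁻¹ᵁ V) le_rfl).hom.toAlgebra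
  letI := (f.appLE V (f ⁻¹ᵁ V) le_rfl).hom.toAlgebra
  obtain ⟨eu⟩ := sections_equiv u G hV
  obtain ⟨ef⟩ := sections_equiv f G hV
  obtain ⟨a1, a2⟩ := H8Props.FinLocFree.finite_projective_sections _ h1 (hV.preimage u)
  obtain ⟨b1, b2⟩ := H8Props.FinLocFree.finite_projective_sections _ h2 (hV.preimage f)
  haveI := Module.Finite.equiv eu.symm
  haveI := Module.Finite.equiv ef.symm
  haveI := Module.Projective.of_equiv eu.symm
  haveI := Module.Projective.of_equiv ef.symm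
  haveI := Module.finitePresentation_of_projective Γ(Y', u ⁻¹ᵁ V)
    (Γ(Y', u ⁻¹ᵁ V) ⊗[Γ(Y, V)] Γ(G, V))
  haveI := Module.finitePresentation_of_projective Γ(X, f ⁻¹ᵁ V)
    (Γ(X, f ⁻¹ᵁ V) ⊗[Γ(Y, V)] Γ(G, V))
  haveI := ModuleDescent.flat_descent (M := Γ(G, V)) (A := Γ(Y', u ⁻¹ᵁ V))
    (B := Γ(X, f ⁻¹ᵁ V)) s hinj hI
  haveI := ModuleDescent.finite_descent (M := Γ(G, V)) (A := Γ(Y', u ⁻¹ᵁ V))
    (B := Γ(X, f ⁻¹ᵁ V)) s hinj hI
  exact ⟨V, hV, hxV, ModuleDescent.finitePresentation_descent (M := Γ(G, V))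
    (A := Γ(Y', u ⁻¹ᵁ V)) (B := Γ(X, f ⁻¹ᵁ V)) s hinj hI, inferInstance⟩

end Groth.Agent.H28Pinch
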