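import Groth.Agent.H28Pinch.BaseChange

/-!
# Pinchings with projective cokernel commute with every base change
-/

set_option autoImplicit false
set_option linter.style.haveILetI false

universe u

open CategoryTheory AlgebraicGeometry Limits TopologicalSpace Opposite

namespace Groth.Agent.H28Pinch

open H7Flat
open scoped TensorProduct

variable {X Y T Z P : Scheme.{u}}

/-- Base change of a morphism over the base, as a pullback along the projection. -/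
theorem isPullback_lift {M Y' : Scheme.{u}} {m : M ⟶ Y} {p : P ⟶ Y} (g : Y' ⟶ Y) (k : M ⟶ P)
    (h : k ≫ p = m) :
    IsPullback (pullback.lift (pullback.fst m g ≫ k) (pullback.snd m g)
        (by rw [Category.assoc, h, pullback.condition]))
      (pullback.fst m g) (pullback.fst p g) k := by
  subst h
  refine IsPullback.of_right ?_ (pullback.lift_fst _ _ _) (IsPullback.of_hasPullback p g).flip
  rw [pullback.lift_snd]
  exact (IsPullback.of_hasPullback (k ≫ p) g).flip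

variable {ι : Z ⟶ X} {ξ : Z ⟶ T} [IsClosedImmersion ι]

theorem exists_chart_baseChange [Flat ξ] [Surjective ξ] (f : X ⟶ Y) (t : T ⟶ Y) [IsAffineHom t]
    (hsq : ι ≫ f = ξ ≫ t)
    (hstd : ∀ y : Y, ∃ U : Y.Opens, IsAffineOpen U ∧ y ∈ U ∧ ∃ V : X.Opens, IsAffineOpen V ∧
      V ≤ f ⁻¹ᵁ U ∧ ∀ z : Z, (ξ ≫ t).base z ∈ U → ι.base z ∈ V)
    (hv : ∀ U : Y.affineOpens, @Pinch.CokerProjective Γ(Y, U) Γ(Z, (ξ ≫ t) ⁻¹ᵁ U) Γ(T, t ⁻¹ᵁ U) _ _ _
      ((ξ ≫ t).app U).hom.toAlgebra (ξ.app (t ⁻¹ᵁ U)).hom)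
    (hcov : ∀ τ : T, ∃ π : AP ι ξ, τ ∈ π.V) (e : glued ι ξ ≅ P) (p : P ⟶ Y)
    (hap : inX hcov ≫ e.hom ≫ p = f) (hbp : inY hcov ≫ e.hom ≫ p = t) {Y' : Scheme.{u}} (g : Y' ⟶ Y)
    (O : (pullback p g).Opens) (r : ↥(pullback p g)) (hr : r ∈ O) :
    ∃ (c : Chart ι ξ (inX hcov ≫ e.hom) (inY hcov ≫ e.hom)) (V : (pullback p g).Opens)
      (hV : IsAffineOpen V) (ψ : c.R →+* Γ(pullback p g, V)), r ∈ V ∧ V ≤ O ∧
      sm ψ ≫ c.u = hV.fromSpec ≫ pullback.fst p g ∧ c.Inj _ ψ := by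
  obtain ⟨π, W, hW, ⟨s, hs⟩, hU, hVW⟩ :=
    exists_AP_over f t hsq hstd hcov (e.inv (pullback.fst p g r))
  have hV' : π.V ≤ t ⁻¹ᵁ W := by
    rcases hVW with h | h
    · exact h.le
    · exact h.le.trans bot_le
  let c := (Chart.ofAP hcov π).postIso e
  obtain ⟨φ, hφa, hφb, hφ⟩ := chart_over hcov f t (e.hom ≫ p) hap hbp π hW hU hV'
  have hc : pullback.fst p g r ∈ Set.range c.u := ⟨s, by
    show (chart ι ξ π ≫ e.hom) s = _
    rw [Scheme.Hom.comp_apply, hs, ← Scheme.Hom.comp_apply, e.inv_hom_id]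
    rfl⟩
  have hcp : c.u ≫ p = sm φ ≫ hW.fromSpec := (Category.assoc _ _ _).trans hφ
  -- an affine open of the base around the image of `r`
  have hy : pullback.snd p g r ∈ g ⁻¹ᵁ W := by
    show g (pullback.snd p g r) ∈ W
    rw [← Scheme.Hom.comp_apply, ← pullback.condition, Scheme.Hom.comp_apply]
    obtain ⟨s', hs'⟩ := hc
    rw [← hs', ← Scheme.Hom.comp_apply, hcp]
    exact hW.range_fromSpec.le ⟨_, (Scheme.Hom.comp_apply _ _ _).symm⟩
  obtain ⟨W'', hW'', hrW'', hW''le⟩ := exists_isAffineOpen_mem_and_subset (U := g ⁻¹ᵁ W) hy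
  obtain ⟨V, hV, ψ, hrV, hVO, hψ⟩ := exists_affine_lift (pullback.fst p g) c
    (O ⊓ pullback.snd p g ⁻¹ᵁ W'') r ⟨hr, hrW''⟩ hc
  refine ⟨c, V, hV, ψ, hrV, fun x hx => (hVO hx).1, hψ, ?_⟩
  let χ₀ := (g.appLE W W'' hW''le).hom
  have hg : sm χ₀ ≫ hW.fromSpec = hW''.fromSpec ≫ g := hW.SpecMap_appLE_fromSpec g hW'' hW''le
  let ρ := ((pullback.snd p g).appLE W'' V fun x hx => (hVO hx).2).hom
  have hρ : sm ρ ≫ hW''.fromSpec = hV.fromSpec ≫ pullback.snd p g :=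
    hW''.SpecMap_appLE_fromSpec _ hV _
  letI : Algebra Γ(Y, W) π.R := φ.toAlgebra
  letI : Algebra Γ(Y, W) Γ(Y', W'') := χ₀.toAlgebra
  let S₁ := π.R ⊗[Γ(Y, W)] Γ(Y', W'')
  let i₁ : π.R →+* S₁ := Algebra.TensorProduct.includeLeftRingHom
  let i₂ : Γ(Y', W'') →+* S₁ := Algebra.TensorProduct.includeRight.toRingHom
  have hS₁ : IsPullback (sm i₁) (sm i₂) (sm φ) (sm χ₀) :=
    isPullback_SpecMap_of_isPushout _ _ _ _
      (CommRingCat.isPushout_tensorProduct Γ(Y, W) π.R Γ(Y', W''))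
  let u : Spec (CommRingCat.of π.R) ⟶ P := chart ι ξ π ≫ e.hom
  have hcp' : u ≫ p = sm φ ≫ hW.fromSpec := hcp
  have hψ' : sm (ψ : π.R →+* Γ(pullback p g, V)) ≫ u = hV.fromSpec ≫ pullback.fst p g := hψ
  let j₁ : Spec (CommRingCat.of S₁) ⟶ pullback p g :=
    hS₁.isoPullback.hom ≫ pullback.map (sm φ) (sm χ₀) p g u hW''.fromSpec hW.fromSpec hcp'.symm hg
  have hj1 : j₁ ≫ pullback.fst p g = sm i₁ ≫ u := by
    simp only [j₁, Category.assoc, pullback.map, pullback.lift_fst]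
    rw [hS₁.isoPullback_hom_fst_assoc]
  have hj2 : j₁ ≫ pullback.snd p g = sm i₂ ≫ hW''.fromSpec := by
    simp only [j₁, Category.assoc, pullback.map, pullback.lift_snd]
    rw [hS₁.isoPullback_hom_snd_assoc]
  haveI : IsOpenImmersion u := inferInstanceAs (IsOpenImmersion (chart ι ξ π ≫ e.hom))
  haveI : IsOpenImmersion j₁ :=
    inferInstanceAs (IsOpenImmersion (hS₁.isoPullback.hom ≫
      pullback.map (sm φ) (sm χ₀) p g u hW''.fromSpec hW.fromSpec hcp'.symm hg))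
  obtain ⟨v, hv1, hv2⟩ := hS₁.exists_lift (sm ψ) (sm ρ) (by
    refine (cancel_mono hW.fromSpec).mp ?_
    calc (sm ψ ≫ sm φ) ≫ hW.fromSpec = sm ψ ≫ u ≫ p :=
          (Category.assoc _ _ _).trans (congrArg (sm ψ ≫ ·) hcp'.symm)
      _ = (sm ψ ≫ u) ≫ p := (Category.assoc _ _ _).symm
      _ = (hV.fromSpec ≫ pullback.fst p g) ≫ p := congrArg (· ≫ p) hψ'
      _ = (hV.fromSpec ≫ pullback.snd p g) ≫ g := by
          rw [Category.assoc, Category.assoc, pullback.condition]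
      _ = (sm ρ ≫ sm χ₀) ≫ hW.fromSpec := by
          rw [← hρ, Category.assoc, Category.assoc, hg])
  obtain ⟨χ, hχ⟩ := Spec.homEquiv.symm.surjective v
  replace hχ : Spec.map χ = v := hχ
  have hvj : v ≫ j₁ = hV.fromSpec := by
    refine pullback.hom_ext ?_ ?_
    · rw [Category.assoc, hj1, ← Category.assoc, hv1]
      exact hψ'
    · rw [Category.assoc, hj2, ← Category.assoc, hv2, hρ]
  haveI : Flat (v ≫ j₁) := hvj ▸ inferInstance
  have hflat : Flat v := flat_of_comp_openImmersion v j₁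
  rw [← hχ] at hflat
  refine c.inj_of_flat_over i₁ χ.hom ψ ?_ ((HasRingHomProperty.Spec_iff (P := @Flat)).mp hflat) ?_
  · have : CommRingCat.ofHom i₁ ≫ χ = CommRingCat.ofHom ψ := by
      apply Spec.map_injective
      rw [Spec.map_comp, hχ]
      exact hv1
    exact congrArg CommRingCat.Hom.hom this
  · letI := π.pa.toAlgebra
    letI := π.pb.toAlgebra
    letI : Algebra π.R Γ(Z, π.W) := (π.p.comp π.pa).toAlgebra
    letI : Algebra Γ(Y, W) Γ(X, π.U) := (π.pa.comp φ).toAlgebra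
    letI : Algebra Γ(Y, W) Γ(T, π.V) := (π.pb.comp φ).toAlgebra
    have e₁ : π.W ≤ (ξ ≫ t) ⁻¹ᵁ W := fun z hz => hV' (π.hUV.le hz)
    letI : Algebra Γ(Y, W) Γ(Z, π.W) := ((ξ ≫ t).appLE W π.W e₁).hom.toAlgebra
    haveI : IsScalarTower Γ(Y, W) π.R Γ(X, π.U) := IsScalarTower.of_algebraMap_eq fun _ => rfl
    haveI : IsScalarTower Γ(Y, W) π.R Γ(T, π.V) := IsScalarTower.of_algebraMap_eq fun _ => rfl
    haveI : IsScalarTower Γ(Y, W) π.R Γ(Z, π.W) := IsScalarTower.of_algebraMap_eq fun x => by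
      change ((ξ ≫ t).appLE W π.W e₁).hom x = π.p (π.pa (φ x))
      rw [π.ringSq.comm, show π.pb (φ x) = (t.appLE W π.V hV').hom x from RingHom.congr_fun hφb x,
        AP.q, ← CommRingCat.comp_apply, Scheme.Hom.appLE_comp_appLE]
    let pA : Γ(X, π.U) →ₐ[π.R] Γ(Z, π.W) := ⟨π.p, fun r => rfl⟩
    let qA : Γ(T, π.V) →ₐ[π.R] Γ(Z, π.W) := ⟨π.q, fun r => (π.ringSq.comm r).symm⟩
    have hA : i₁.toAlgebra = (inferInstance : Algebra π.R S₁) :=
      Algebra.algebra_ext _ _ fun r => rfl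
    show @BCInj π.R Γ(X, π.U) Γ(T, π.V) S₁ _ _ _ _ π.pa.toAlgebra π.pb.toAlgebra i₁.toAlgebra
    rw [hA]
    refine bcInj_baseChange (p := pA) (q := qA) π.ringSq (q_injective π) ?_ Γ(Y', W'')
    have hspan : Submodule.span Γ(Y, W) (Set.range π.q) =
        LinearMap.range (qA.toLinearMap.restrictScalars Γ(Y, W)) := by
      rw [show Set.range π.q = (LinearMap.range (qA.toLinearMap.restrictScalars Γ(Y, W)) : Set _)
        from rfl, Submodule.span_eq]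
    haveI := projective_coker t hv ⟨W, hW⟩ π.V π.W π.hUV hVW e₁
    exact Module.Projective.of_equiv (Submodule.quotEquivOfEq _ _ hspan)

theorem isPushout_baseChange [Flat ξ] [Surjective ξ] (f : X ⟶ Y) (t : T ⟶ Y) [IsAffineHom t]
    (hsq : ι ≫ f = ξ ≫ t)
    (hstd : ∀ y : Y, ∃ U : Y.Opens, IsAffineOpen U ∧ y ∈ U ∧ ∃ V : X.Opens, IsAffineOpen V ∧
      V ≤ f ⁻¹ᵁ U ∧ ∀ z : Z, (ξ ≫ t).base z ∈ U → ι.base z ∈ V)
    (hv : ∀ U : Y.affineOpens, @Pinch.CokerProjective Γ(Y, U) Γ(Z, (ξ ≫ t) ⁻¹ᵁ U) Γ(T, t ⁻¹ᵁ U) _ _ _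
      ((ξ ≫ t).app U).hom.toAlgebra (ξ.app (t ⁻¹ᵁ U)).hom)
    {a : X ⟶ P} {b : T ⟶ P} (hP : IsPushout ι ξ a b) (p : P ⟶ Y) (hap : a ≫ p = f)
    (hbp : b ≫ p = t) {Y' : Scheme.{u}} (g : Y' ⟶ Y) :
    IsPushout ((Over.pullback g).map (Over.homMk ι hsq : Over.mk (ξ ≫ t) ⟶ Over.mk f)).left
      ((Over.pullback g).map (Over.homMk ξ rfl : Over.mk (ξ ≫ t) ⟶ Over.mk t)).left
      ((Over.pullback g).map (Over.homMk a hap : Over.mk f ⟶ Over.mk p)).left
      ((Over.pullback g).map (Over.homMk b hbp : Over.mk t ⟶ Over.mk p)).left := by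
  have hcov : ∀ τ : T, ∃ π : AP ι ξ, τ ∈ π.V := fun τ =>
    let ⟨π, _, _, hτ, _, _⟩ := exists_AP f t ξ ι hsq hstd τ
    ⟨π, hτ⟩
  obtain ⟨e, rfl, rfl⟩ := exists_iso_glued a b hP hcov
  change IsPushout
    (pullback.lift (pullback.fst (ξ ≫ t) g ≫ ι) (pullback.snd (ξ ≫ t) g) _)
    (pullback.lift (pullback.fst (ξ ≫ t) g ≫ ξ) (pullback.snd (ξ ≫ t) g) _)
    (pullback.lift (pullback.fst f g ≫ inX hcov ≫ e.hom) (pullback.snd f g) _)
    (pullback.lift (pullback.fst t g ≫ inY hcov ≫ e.hom) (pullback.snd t g) _)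
  refine Chart.isPushout ?_ fun O r hr => ?_
  · ext <;> simp only [Category.assoc, pullback.lift_fst, pullback.lift_fst_assoc, pullback.lift_snd]
    rw [reassoc_of% (inX_comm hcov)]
  obtain ⟨c, V, hV, ψ, hrV, hVO, hψ, hinj⟩ :=
    exists_chart_baseChange f t hsq hstd hv hcov e p (by simpa using hap) (by simpa using hbp) g O r hr
  have hιp : (ι ≫ inX hcov ≫ e.hom) ≫ p = ξ ≫ t := by rw [Category.assoc, hap, hsq]
  obtain ⟨c', hc'⟩ := Chart.exists_baseChange (pullback.fst p g)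
    (isPullback_lift g (inX hcov ≫ e.hom) hap) (isPullback_lift g (inY hcov ≫ e.hom) hbp)
    (ι' := pullback.lift (pullback.fst (ξ ≫ t) g ≫ ι) (pullback.snd (ξ ≫ t) g)
      (by rw [Category.assoc, hsq, pullback.condition]))
    (ξ' := pullback.lift (pullback.fst (ξ ≫ t) g ≫ ξ) (pullback.snd (ξ ≫ t) g)
      (by rw [Category.assoc, pullback.condition]))
    (qZ := pullback.fst (ξ ≫ t) g) (by
      convert isPullback_lift g (ι ≫ inX hcov ≫ e.hom) hιp using 1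
      ext <;> simp only [Category.assoc, pullback.lift_fst, pullback.lift_fst_assoc, pullback.lift_snd])
    hP.w (by
      ext <;> simp only [Category.assoc, pullback.lift_fst, pullback.lift_fst_assoc, pullback.lift_snd]
      rw [reassoc_of% (inX_comm hcov)])
    (pullback.lift_fst _ _ _) (pullback.lift_fst _ _ _) c hV.fromSpec ψ hψ hinj
  refine ⟨c', ?_, ?_⟩ <;> rw [hc', hV.range_fromSpec]
  exacts [hrV, hVO]

end Groth.Agent.H28Pinch
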