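-- Base change of global sections of a pinching with etale sections
import Mathlib.Dynamics.Newton
import Mathlib.RingTheory.Unramified.Field
import Mathlib.RingTheory.Etale.Basic
import Mathlib.RingTheory.Flat.TorsionFree
import Mathlib.RingTheory.Flat.Equalizer
import Mathlib.RingTheory.DedekindDomain.Basic
import Mathlib.RingTheory.DedekindDomain.Ideal.Lemmas
import Mathlib.RingTheory.Filtration
import Mathlib.LinearAlgebra.TensorProduct.RightExactness
import Mathlib.FieldTheory.Separable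

/-!
# An exactness statement over Dedekind domains

`R` is the equalizer of `S → W ← U` with `S` finite étale over `R` and `W / U` projective; the
equalizer then commutes with base change.
-/

set_option autoImplicit false
set_option linter.style.haveILetI false

universe u

open TensorProduct Polynomial

namespace Groth.Agent.H28Pinch.EtaleSections

section Field

variable {k B : Type u} [Field k] [CommRing B] [Algebra k B] [Module.Finite k B]
  [Algebra.FormallyUnramified k B]

theorem separable_minpoly (x : B) : (minpoly k x).Separable := by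
  haveI : IsReduced B := Algebra.FormallyUnramified.isReduced_of_field k B
  have hint : IsIntegral k x := IsIntegral.of_finite k x
  set f := minpoly k x with hf
  have hf0 : f ≠ 0 := minpoly.ne_zero hint
  -- the derivative is a unit at `x`
  have hu : IsUnit (aeval x (derivative f)) := by
    by_contra hnu
    obtain ⟨P, hP, hxP⟩ := exists_max_ideal_of_mem_nonunits hnu
    haveI : P.IsMaximal := hP
    letI := Ideal.Quotient.field P
    let π : B →ₐ[k] B ⧸ P := Ideal.Quotient.mkₐ k P
    haveI : Algebra.EssFiniteType k (B ⧸ P) := inferInstance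
    haveI := Algebra.FormallyUnramified.isSeparable k (B ⧸ P)
    set g := minpoly k (π x) with hg
    obtain ⟨h, hh⟩ : g ∣ f := minpoly.dvd k _ (by rw [aeval_algHom_apply, hf, minpoly.aeval, map_zero])
    have hsep : g.Separable := Algebra.IsSeparable.isSeparable k (π x)
    have hder : aeval (π x) (derivative f) = aeval (π x) (derivative g) * aeval (π x) h := by
      rw [hh, derivative_mul, map_add, map_mul, map_mul, hg, minpoly.aeval, zero_mul, add_zero]
    have h0 : aeval (π x) (derivative f) = 0 := by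
      rw [aeval_algHom_apply]
      exact Ideal.Quotient.eq_zero_iff_mem.2 hxP
    rw [hder] at h0
    rcases mul_eq_zero.1 h0 with h1 | h1
    · exact hsep.aeval_derivative_ne_zero (minpoly.aeval k _) h1
    · obtain ⟨h₂, rfl⟩ : g ∣ h := minpoly.dvd k _ h1
      have hsq : aeval x (g * h₂) * aeval x (g * h₂) = 0 := by
        rw [← map_mul, show g * h₂ * (g * h₂) = f * h₂ by rw [hh]; ring, map_mul, hf, minpoly.aeval,
          zero_mul]
      have hz : aeval x (g * h₂) = 0 :=
        IsReduced.eq_zero _ ⟨2, by rw [pow_two]; exact hsq⟩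
      obtain ⟨c, hc⟩ : f ∣ g * h₂ := minpoly.dvd k _ hz
      have hne : g * h₂ ≠ 0 := fun e => hf0 (by rw [hh, e, mul_zero])
      have hgdeg : 0 < g.natDegree := minpoly.natDegree_pos (IsIntegral.of_finite k _)
      have h1 : f.natDegree = g.natDegree + (g * h₂).natDegree := by
        rw [hh, natDegree_mul (minpoly.ne_zero (IsIntegral.of_finite k _)) hne]
      have h2 : f.natDegree ≤ (g * h₂).natDegree := natDegree_le_of_dvd ⟨c, hc⟩ hne
      omega
  classical
  rw [separable_def, ← EuclideanDomain.gcd_isUnit_iff]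
  set d := EuclideanDomain.gcd f (derivative f)
  obtain ⟨q, hq⟩ : d ∣ f := EuclideanDomain.gcd_dvd_left _ _
  have hd : IsUnit (aeval x d) :=
    isUnit_of_dvd_unit (map_dvd (aeval x) (EuclideanDomain.gcd_dvd_right _ _)) hu
  have hq0 : aeval x q = 0 := by
    have : aeval x d * aeval x q = 0 := by rw [← map_mul, ← hq, hf, minpoly.aeval]
    exact hd.mul_right_eq_zero.1 this
  obtain ⟨c, hc⟩ : f ∣ q := minpoly.dvd k _ hq0
  refine IsUnit.of_mul_eq_one c ?_
  refine mul_left_cancel₀ hf0 ?_
  calc f * (d * c) = d * (f * c) := by ring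
    _ = d * q := by rw [← hc]
    _ = f * 1 := by rw [← hq, mul_one]

end Field

variable {R : Type u} [CommRing R]

/-- The image of `mⁿ` in an algebra. -/
noncomputable abbrev powIdeal (m : Ideal R) (A : Type u) [CommRing A] [Algebra R A] (n : ℕ) :
    Ideal A :=
  Ideal.map (algebraMap R A) (m ^ n)

section Hensel

variable (m : Ideal R) {A : Type u} [CommRing A] [Algebra R A] {f a b : R[X]}
  (hab : ∀ p ∈ (a * f + b * derivative f - 1).coeffs, p ∈ m)

include hab in
theorem aeval_bezout (z : A) :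
    aeval z (a * f + b * derivative f - 1) ∈ Ideal.map (algebraMap R A) m := by
  rw [aeval_eq_sum_range]
  refine Submodule.sum_mem _ fun i _ => ?_
  by_cases hi : (a * f + b * derivative f - 1).coeff i = 0
  · rw [hi, zero_smul]
    exact zero_mem _
  · rw [Algebra.smul_def]
    exact Ideal.mul_mem_right _ _ (Ideal.mem_map_of_mem _ (hab _ (coeff_mem_coeffs hi)))

theorem isNilpotent_mk {z : A} (hz : z ∈ Ideal.map (algebraMap R A) m) (n : ℕ) :
    IsNilpotent (Ideal.Quotient.mk (powIdeal m A n) z) := by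
  refine ⟨n, ?_⟩
  rw [← map_pow, Ideal.Quotient.eq_zero_iff_mem, powIdeal, Ideal.map_pow]
  exact Ideal.pow_mem_pow hz n

include hab in
theorem isUnit_derivative {z : A} (hz : aeval z f ∈ Ideal.map (algebraMap R A) m) (n : ℕ) :
    IsUnit (aeval (Ideal.Quotient.mkₐ R (powIdeal m A n) z) (derivative f)) := by
  rw [aeval_algHom_apply]
  have e : Ideal.Quotient.mkₐ R (powIdeal m A n) (aeval z b) *
      Ideal.Quotient.mkₐ R (powIdeal m A n) (aeval z (derivative f)) =
      1 + Ideal.Quotient.mk (powIdeal m A n)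
        (aeval z (a * f + b * derivative f - 1) - aeval z a * aeval z f) := by
    simp only [Ideal.Quotient.mkₐ_eq_mk, map_sub, map_add, map_mul, map_one]
    ring
  have h : IsUnit (1 + Ideal.Quotient.mk (powIdeal m A n)
      (aeval z (a * f + b * derivative f - 1) - aeval z a * aeval z f)) :=
    IsNilpotent.isUnit_one_add (isNilpotent_mk m
      (Ideal.sub_mem _ (aeval_bezout m hab z) (Ideal.mul_mem_left _ _ hz)) n)
  exact isUnit_of_mul_isUnit_right (e ▸ h)

theorem mem_of_isNilpotent_mk {z : A} {n : ℕ} (hn : n ≠ 0)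
    (hA : ∀ w : A, IsNilpotent (Ideal.Quotient.mk (Ideal.map (algebraMap R A) m) w) →
      w ∈ Ideal.map (algebraMap R A) m)
    (hz : IsNilpotent (Ideal.Quotient.mk (powIdeal m A n) z)) :
    z ∈ Ideal.map (algebraMap R A) m := by
  obtain ⟨j, hj⟩ := hz
  rw [← map_pow, Ideal.Quotient.eq_zero_iff_mem] at hj
  refine hA z ⟨j, ?_⟩
  rw [← map_pow, Ideal.Quotient.eq_zero_iff_mem]
  exact Ideal.map_mono (Ideal.pow_le_self hn) hj

include hab in
theorem exists_root {z : A} (hz : aeval z f ∈ Ideal.map (algebraMap R A) m) (n : ℕ) :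
    ∃ w : A, aeval w f ∈ powIdeal m A n ∧
      IsNilpotent (Ideal.Quotient.mk (powIdeal m A n) (z - w)) := by
  obtain ⟨r, ⟨hr1, hr2⟩, -⟩ := existsUnique_nilpotent_sub_and_aeval_eq_zero
    (P := f) (x := Ideal.Quotient.mkₐ R (powIdeal m A n) z)
    (by rw [aeval_algHom_apply]; exact isNilpotent_mk m hz n) (isUnit_derivative m hab hz n)
  obtain ⟨w, rfl⟩ := Ideal.Quotient.mkₐ_surjective R (powIdeal m A n) r
  refine ⟨w, ?_, by rw [map_sub]; exact hr1⟩
  rw [aeval_algHom_apply] at hr2
  exact Ideal.Quotient.eq_zero_iff_mem.1 hr2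

include hab in
theorem sub_mem_of_root {z w : A} {n : ℕ} (hz : aeval z f ∈ powIdeal m A n)
    (hzm : aeval z f ∈ Ideal.map (algebraMap R A) m) (hw : aeval w f ∈ powIdeal m A n)
    (hzw : z - w ∈ Ideal.map (algebraMap R A) m) : z - w ∈ powIdeal m A n := by
  have hz' : aeval (Ideal.Quotient.mkₐ R (powIdeal m A n) z) f = 0 := by
    rw [aeval_algHom_apply]; exact Ideal.Quotient.eq_zero_iff_mem.2 hz
  have hw' : aeval (Ideal.Quotient.mkₐ R (powIdeal m A n) w) f = 0 := by
    rw [aeval_algHom_apply]; exact Ideal.Quotient.eq_zero_iff_mem.2 hw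
  have h := (existsUnique_nilpotent_sub_and_aeval_eq_zero
    (P := f) (x := Ideal.Quotient.mkₐ R (powIdeal m A n) z)
    (by rw [hz']; exact IsNilpotent.zero) (isUnit_derivative m hab hzm n)).unique
    (y₁ := Ideal.Quotient.mkₐ R (powIdeal m A n) z) (y₂ := Ideal.Quotient.mkₐ R (powIdeal m A n) w)
    ⟨by rw [sub_self]; exact IsNilpotent.zero, hz'⟩
    ⟨by rw [← map_sub]; exact isNilpotent_mk m hzw n, hw'⟩
  exact Ideal.Quotient.eq.1 h

end Hensel

theorem mem_of_smul_mem_of_pure {R C : Type u} [CommRing R] [IsDedekindDomain R] [AddCommGroup C]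
    [Module R C] [Module.IsTorsionFree R C] (N : Submodule R C)
    (hN : ∀ m : Ideal R, m.IsMaximal → ∀ x ∈ N, x ∈ m • (⊤ : Submodule R C) → x ∈ m • N)
    {r : R} (hr : r ≠ 0) {c : C} (hrc : r • c ∈ N) : c ∈ N := by
  let J : Ideal R :=
    { carrier := {a | a • c ∈ N}
      add_mem' := fun ha hb => by rw [Set.mem_ofPred_eq, add_smul]; exact N.add_mem ha hb
      zero_mem' := by rw [Set.mem_ofPred_eq, zero_smul]; exact N.zero_mem
      smul_mem' := fun a b hb => by rw [Set.mem_ofPred_eq, smul_assoc]; exact N.smul_mem a hb }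
  suffices J = ⊤ from one_smul R c ▸ (show (1 : R) • c ∈ N from this.ge trivial)
  by_contra hJ
  obtain ⟨m, hm, hJm⟩ := Ideal.exists_le_maximal J hJ
  have hr' : r ∈ J := hrc
  have hm0 : m ≠ ⊥ := fun e => hr (by simpa [e] using hJm hr')
  have hJ0 : J ≠ ⊥ := fun e => hr (by simpa [e] using hr')
  obtain ⟨J', hJ'⟩ : m ∣ J := Ideal.dvd_iff_le.2 hJm
  obtain ⟨a, ha', ha⟩ : ∃ a ∈ J', a ∉ J := by
    by_contra hcon
    push Not at hcon
    have : J' = J := le_antisymm hcon (hJ' ▸ Ideal.mul_le_right)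
    rw [this] at hJ'
    exact hm.ne_top (by
      have := mul_right_cancel₀ hJ0 (show m * J = 1 * J by rw [one_mul]; exact hJ'.symm)
      rwa [Ideal.one_eq_top] at this)
  have hmc : ∀ e ∈ m, e • a • c ∈ N := fun e he => by
    rw [smul_smul]
    exact (hJ'.ge (Ideal.mul_mem_mul he ha') : e * a ∈ J)
  -- a uniformiser at `m`
  obtain ⟨p, hp, hp2⟩ : ∃ p ∈ m, p ∉ m ^ 2 := by
    by_contra hcon
    push Not at hcon
    have h : m * m = m * 1 := by
      rw [mul_one]
      refine le_antisymm Ideal.mul_le_right fun p hp => ?_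
      rw [← pow_two]
      exact hcon p hp
    exact hm.ne_top ((mul_left_cancel₀ hm0 h).trans (Ideal.one_eq_top (R := R)))
  obtain ⟨K, hK⟩ : m ∣ Ideal.span ({p} : Set R) :=
    Ideal.dvd_iff_le.2 ((Ideal.span_singleton_le_iff_mem _).2 hp)
  obtain ⟨k, hk, hkm⟩ : ∃ k ∈ K, k ∉ m := by
    by_contra hcon
    push Not at hcon
    have hpK : p ∈ m * K := by
      rw [← hK]
      exact Ideal.mem_span_singleton_self p
    apply hp2
    rw [pow_two]
    exact Ideal.mul_mono le_rfl hcon hpK
  have hps : p • a • c ∈ m • N := hN m hm _ (hmc p hp) (Submodule.smul_mem_smul hp trivial)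
  have hkps : k • p • a • c ∈ (Ideal.span ({p} : Set R)) • N := by
    rw [hK, mul_comm m K, Submodule.mul_smul]
    exact Submodule.smul_mem_smul hk hps
  obtain ⟨y, hy, hy'⟩ : ∃ y ∈ N, p • y = k • p • a • c := by
    refine Submodule.smul_induction_on (p := fun z => ∃ y ∈ N, p • y = z) hkps
      (fun i hi n hn => ?_) ?_
    · obtain ⟨d, rfl⟩ := Ideal.mem_span_singleton'.1 hi
      exact ⟨d • n, N.smul_mem d hn, by rw [smul_smul, mul_comm]⟩
    · rintro z w ⟨y₁, h₁, rfl⟩ ⟨y₂, h₂, rfl⟩
      exact ⟨y₁ + y₂, N.add_mem h₁ h₂, smul_add _ _ _⟩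
  have hp0 : p ≠ 0 := by
    intro e
    apply hp2
    rw [e]
    exact zero_mem _
  have hy'' : p • (k • a • c) = p • y := (smul_comm p k (a • c)).trans hy'.symm
  have hk' : k • a • c ∈ N := by
    rw [smul_right_injective C hp0 hy'']
    exact hy
  obtain ⟨d, e, he, hde⟩ := hm.exists_inv hkm
  refine ha (show a • c ∈ N from ?_)
  rw [← one_smul R (a • c), ← hde, add_smul, mul_smul]
  exact N.add_mem (N.smul_mem _ hk') (hmc e he)

section Main

variable [IsDedekindDomain R] {S U W : Type u} [CommRing S] [CommRing U] [CommRing W]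
  [Algebra R S] [Algebra R U] [Algebra R W] [Algebra.Etale R S] [Module.Finite R S]
  [Module.Finite R U] [Module.Finite R W] (ι : S →ₐ[R] W) (ξ : U →ₐ[R] W)
  [Module.Projective R (W ⧸ LinearMap.range ξ.toLinearMap)]

/-- The map to the cokernel. -/
noncomputable abbrev toCoker : S →ₗ[R] W ⧸ LinearMap.range ξ.toLinearMap :=
  (LinearMap.range ξ.toLinearMap).mkQ ∘ₗ ι.toLinearMap

theorem mk_mem_smul_top {I : Ideal R} {w : W} (hw : w ∈ Ideal.map (algebraMap R W) I) :
    (LinearMap.range ξ.toLinearMap).mkQ w ∈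
      I • (⊤ : Submodule R (W ⧸ LinearMap.range ξ.toLinearMap)) := by
  have h : w ∈ I • (⊤ : Submodule R W) := by
    rw [Ideal.smul_top_eq_map]
    exact hw
  have h' := Submodule.mem_map_of_mem (f := (LinearMap.range ξ.toLinearMap).mkQ) h
  rwa [Submodule.map_smul'', Submodule.map_top, Submodule.range_mkQ] at h'

variable (hξ : Function.Injective ξ)
  (hE : ∀ s u, ι s = ξ u → ∃ r, algebraMap R S r = s ∧ algebraMap R U r = u)

include hξ in
theorem mem_map_of_map_mem (m : Ideal R) {u : U} (hu : ξ u ∈ Ideal.map (algebraMap R W) m) :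
    u ∈ Ideal.map (algebraMap R U) m := by
  obtain ⟨s, hs⟩ := Module.projective_lifting_property (LinearMap.range ξ.toLinearMap).mkQ
    LinearMap.id (Submodule.mkQ_surjective _)
  let e := LinearEquiv.ofInjective ξ.toLinearMap hξ
  let ρ₀ : W →ₗ[R] W := LinearMap.id - s ∘ₗ (LinearMap.range ξ.toLinearMap).mkQ
  have hρ : ∀ w, ρ₀ w ∈ LinearMap.range ξ.toLinearMap := fun w =>
    (Submodule.Quotient.mk_eq_zero _).1 (by
      show (LinearMap.range ξ.toLinearMap).mkQ (w - s _) = 0
      rw [map_sub]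
      exact sub_eq_zero.2 (LinearMap.congr_fun hs _).symm)
  let ρ : W →ₗ[R] U := e.symm.toLinearMap ∘ₗ ρ₀.codRestrict _ hρ
  have hρξ : ρ (ξ u) = u := by
    apply hξ
    show (e (e.symm _)).1 = _
    rw [LinearEquiv.apply_symm_apply]
    show ξ u - s ((LinearMap.range ξ.toLinearMap).mkQ (ξ u)) = ξ u
    rw [show (LinearMap.range ξ.toLinearMap).mkQ (ξ u) = 0 from
      (Submodule.Quotient.mk_eq_zero _).2 ⟨u, rfl⟩, map_zero, sub_zero]
  have h : ξ u ∈ m • (⊤ : Submodule R W) := by rw [Ideal.smul_top_eq_map]; exact hu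
  have h' : ρ (ξ u) ∈ m • (⊤ : Submodule R U) := by
    have := Submodule.mem_map_of_mem (f := ρ) h
    rw [Submodule.map_smul''] at this
    exact Submodule.smul_mono le_rfl le_top this
  rw [hρξ, Ideal.smul_top_eq_map] at h'
  exact h'

include hξ hE in
/-- Modulo a maximal ideal the equalizer is still `R`. -/
theorem mem_range_add_smul {m : Ideal R} (hm : m.IsMaximal) {x : S}
    (hx : toCoker ι ξ x ∈ m • (⊤ : Submodule R (W ⧸ LinearMap.range ξ.toLinearMap))) :
    ∃ r : R, x - algebraMap R S r ∈ Ideal.map (algebraMap R S) m := by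
  letI := Ideal.Quotient.field m
  set J := Ideal.map (algebraMap R S) m with hJ
  haveI : Module.Finite (R ⧸ m) (S ⧸ J) := Module.Finite.of_restrictScalars_finite R _ _
  haveI : Algebra.FormallyUnramified (R ⧸ m) (S ⧸ J) := inferInstance
  haveI : IsReduced (S ⧸ J) := Algebra.FormallyUnramified.isReduced_of_field (R ⧸ m) _
  let fb := minpoly (R ⧸ m) (Ideal.Quotient.mk J x)
  obtain ⟨ab, bb, hbez⟩ := (separable_def' _).1 (separable_minpoly (k := R ⧸ m) (Ideal.Quotient.mk J x))
  obtain ⟨f, hf⟩ := Polynomial.map_surjective _ Ideal.Quotient.mk_surjective fb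
  obtain ⟨a, ha⟩ := Polynomial.map_surjective _ Ideal.Quotient.mk_surjective ab
  obtain ⟨b, hb⟩ := Polynomial.map_surjective _ Ideal.Quotient.mk_surjective bb
  have hab : ∀ p ∈ (a * f + b * derivative f - 1).coeffs, p ∈ m := by
    intro p hp
    obtain ⟨i, -, rfl⟩ := mem_coeffs_iff.1 hp
    rw [← Ideal.Quotient.eq_zero_iff_mem, ← coeff_map]
    rw [Polynomial.map_sub, Polynomial.map_add, Polynomial.map_mul, Polynomial.map_mul,
      ← derivative_map, hf, ha, hb, Polynomial.map_one, hbez, sub_self, coeff_zero]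
  have hfx : aeval x f ∈ J := by
    rw [← Ideal.Quotient.eq_zero_iff_mem, ← Ideal.Quotient.mkₐ_eq_mk R, ← aeval_algHom_apply,
      ← aeval_map_algebraMap (R ⧸ m), Ideal.Quotient.algebraMap_eq, hf]
    exact minpoly.aeval _ _
  have hcomap : ∀ {I : Ideal R} {z : S}, z ∈ Ideal.map (algebraMap R S) I →
      ι z ∈ Ideal.map (algebraMap R W) I := fun {I z} hz => by
    have h := Ideal.mem_map_of_mem ι.toRingHom hz
    rw [Ideal.map_map, show ι.toRingHom.comp (algebraMap R S) = algebraMap R W from RingHom.ext ι.commutes] at h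
    exact h
  have hcomapU : ∀ {I : Ideal R} {z : U}, z ∈ Ideal.map (algebraMap R U) I →
      ξ z ∈ Ideal.map (algebraMap R W) I := fun {I z} hz => by
    have h := Ideal.mem_map_of_mem ξ.toRingHom hz
    rw [Ideal.map_map, show ξ.toRingHom.comp (algebraMap R U) = algebraMap R W from RingHom.ext ξ.commutes] at h
    exact h
  obtain ⟨w₀, hw₀, hw₀'⟩ : ∃ w₀ : W, w₀ ∈ Ideal.map (algebraMap R W) m ∧
      (LinearMap.range ξ.toLinearMap).mkQ w₀ = toCoker ι ξ x := by
    have h : toCoker ι ξ x ∈ (m • (⊤ : Submodule R W)).map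
        (LinearMap.range ξ.toLinearMap).mkQ := by
      rwa [Submodule.map_smul'', Submodule.map_top, Submodule.range_mkQ]
    obtain ⟨w₀, h1, h2⟩ := h
    rw [Ideal.smul_top_eq_map] at h1
    exact ⟨w₀, h1, h2⟩
  obtain ⟨u, hu⟩ : ι x - w₀ ∈ LinearMap.range ξ.toLinearMap :=
    (Submodule.Quotient.eq _).1 hw₀'.symm
  have hfw : aeval (ι x) f - aeval (ι x - w₀) f ∈ Ideal.map (algebraMap R W) m := by
    rw [← Ideal.Quotient.eq, ← Ideal.Quotient.mkₐ_eq_mk R, ← aeval_algHom_apply,
      ← aeval_algHom_apply, map_sub, Ideal.Quotient.mkₐ_eq_mk,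
      Ideal.Quotient.eq_zero_iff_mem.2 hw₀, sub_zero]
  have hfu : aeval u f ∈ Ideal.map (algebraMap R U) m := by
    refine mem_map_of_map_mem ξ hξ m ?_
    rw [← aeval_algHom_apply, show ξ u = ι x - w₀ from hu]
    have h : aeval (ι x) f ∈ Ideal.map (algebraMap R W) m := by
      rw [aeval_algHom_apply]; exact hcomap hfx
    simpa using Ideal.sub_mem _ h hfw
  -- Artin--Rees
  haveI : IsNoetherianRing R := inferInstance
  let N := LinearMap.range (toCoker ι ξ)
  obtain ⟨c, hc⟩ := m.exists_pow_inf_eq_pow_smul N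
  let n := c + 1
  have hn : n ≠ 0 := Nat.succ_ne_zero c
  obtain ⟨xn, hxn, hxn'⟩ := exists_root m hab hfx n
  obtain ⟨un, hun, hun'⟩ := exists_root m hab hfu n
  have hxm : x - xn ∈ J :=
    mem_of_isNilpotent_mk m hn (fun w hw =>
      Ideal.Quotient.eq_zero_iff_mem.1 (IsReduced.eq_zero _ hw)) hxn'
  -- the images agree to first order up to nilpotents
  have hnil : IsNilpotent (Ideal.Quotient.mk (powIdeal m W n) (ι xn - ξ un)) := by
    have e : ι xn - ξ un = (ξ (u - un) - ι (x - xn)) + w₀ := by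
      rw [map_sub, map_sub, show ξ u = ι x - w₀ from hu]
      ring
    have lift : ∀ {A : Type u} [CommRing A] [Algebra R A] (φ : A →ₐ[R] W) {z : A},
        IsNilpotent (Ideal.Quotient.mk (powIdeal m A n) z) →
          IsNilpotent (Ideal.Quotient.mk (powIdeal m W n) (φ z)) := fun {A} _ _ φ {z} hz => by
      obtain ⟨j, hj⟩ := hz
      rw [← map_pow, Ideal.Quotient.eq_zero_iff_mem] at hj
      refine ⟨j, ?_⟩
      rw [← map_pow, Ideal.Quotient.eq_zero_iff_mem, ← map_pow]
      have h := Ideal.mem_map_of_mem φ.toRingHom hj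
      rw [powIdeal, Ideal.map_map, show φ.toRingHom.comp (algebraMap R A) = algebraMap R W from RingHom.ext φ.commutes] at h
      exact h
    rw [e, map_add, map_sub]
    exact (Commute.all _ _).isNilpotent_add
      ((Commute.all _ _).isNilpotent_sub (lift ξ hun') (lift ι hxn')) (isNilpotent_mk m hw₀ n)
  have hroot : ι xn - ξ un ∈ powIdeal m W n := by
    have h1 : aeval (ι xn) f ∈ powIdeal m W n := by
      rw [aeval_algHom_apply]; exact hcomap hxn
    have h2 : aeval (ξ un) f ∈ powIdeal m W n := by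
      rw [aeval_algHom_apply]; exact hcomapU hun
    have h1' : aeval (ι xn) f ∈ Ideal.map (algebraMap R W) m :=
      Ideal.map_mono (Ideal.pow_le_self hn) h1
    have h := (existsUnique_nilpotent_sub_and_aeval_eq_zero
      (P := f) (x := Ideal.Quotient.mkₐ R (powIdeal m W n) (ι xn))
      (by rw [aeval_algHom_apply]; exact isNilpotent_mk m h1' n)
      (isUnit_derivative m hab h1' n)).unique
      (y₁ := Ideal.Quotient.mkₐ R (powIdeal m W n) (ι xn))
      (y₂ := Ideal.Quotient.mkₐ R (powIdeal m W n) (ξ un))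
      ⟨by rw [sub_self]; exact IsNilpotent.zero,
        by rw [aeval_algHom_apply]; exact Ideal.Quotient.eq_zero_iff_mem.2 h1⟩
      ⟨by rw [← map_sub]; exact hnil,
        by rw [aeval_algHom_apply]; exact Ideal.Quotient.eq_zero_iff_mem.2 h2⟩
    exact Ideal.Quotient.eq.1 h
  have hg : toCoker ι ξ xn ∈ m ^ n • (⊤ : Submodule R (W ⧸ LinearMap.range ξ.toLinearMap)) ⊓ N := by
    refine ⟨?_, ⟨xn, rfl⟩⟩
    have h := mk_mem_smul_top ξ hroot
    rwa [map_sub, show (LinearMap.range ξ.toLinearMap).mkQ (ξ un) = 0 from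
      (Submodule.Quotient.mk_eq_zero _).2 ⟨un, rfl⟩, sub_zero] at h
  rw [hc n (Nat.le_succ c)] at hg
  have hg' : toCoker ι ξ xn ∈ (m • (⊤ : Submodule R S)).map (toCoker ι ξ) := by
    rw [Submodule.map_smul'', Submodule.map_top]
    refine Submodule.smul_mono ?_ inf_le_right hg
    exact (Ideal.pow_le_self (by omega))
  obtain ⟨y, hy, hy'⟩ := hg'
  obtain ⟨u', hu'⟩ : ι (xn - y) ∈ LinearMap.range ξ.toLinearMap := by
    rw [← Submodule.Quotient.mk_eq_zero]
    show (toCoker ι ξ) (xn - y) = 0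
    rw [map_sub, hy', sub_self]
  obtain ⟨r, hr, -⟩ := hE _ _ hu'.symm
  refine ⟨r, ?_⟩
  rw [hr, show x - (xn - y) = (x - xn) + y by ring]
  refine Ideal.add_mem _ hxm ?_
  rw [hJ]
  rwa [Ideal.smul_top_eq_map] at hy

include hE in
theorem mem_range_of_toCoker_eq_zero {s : S} (h : toCoker ι ξ s = 0) :
    s ∈ LinearMap.range (Algebra.linearMap R S) := by
  obtain ⟨u, hu⟩ := (Submodule.Quotient.mk_eq_zero _).1 h
  obtain ⟨r, hr, -⟩ := hE s u hu.symm
  exact ⟨r, hr⟩

include hξ hE in
theorem mem_range_of_smul_mem {r : R} (hr : r ≠ 0) {c : W ⧸ LinearMap.range ξ.toLinearMap}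
    (hrc : r • c ∈ LinearMap.range (toCoker ι ξ)) : c ∈ LinearMap.range (toCoker ι ξ) := by
  refine mem_of_smul_mem_of_pure _ (fun m hm x hx hxm => ?_) hr hrc
  obtain ⟨s, rfl⟩ := hx
  obtain ⟨r₀, hr₀⟩ := mem_range_add_smul ι ξ hξ hE hm hxm
  have h1 : toCoker ι ξ (algebraMap R S r₀) = 0 :=
    (Submodule.Quotient.mk_eq_zero _).2 ⟨algebraMap R U r₀,
      (ξ.commutes r₀).trans (ι.commutes r₀).symm⟩
  have h2 : toCoker ι ξ (s - algebraMap R S r₀) ∈ (m • (⊤ : Submodule R S)).map (toCoker ι ξ) :=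
    Submodule.mem_map_of_mem (by rw [Ideal.smul_top_eq_map]; exact hr₀)
  rw [Submodule.map_smul'', Submodule.map_top, map_sub, h1, sub_zero] at h2
  exact h2

include hξ hE in
/-- The equalizer commutes with base change. -/
theorem existsUnique_baseChange (hR : Function.Injective (algebraMap R S)) (A : Type u)
    [CommRing A] [Algebra R A] (z : A ⊗[R] S) (u : A ⊗[R] U)
    (h : ι.toLinearMap.lTensor A z = ξ.toLinearMap.lTensor A u) :
    ∃! a : A, a ⊗ₜ[R] (1 : S) = z ∧ a ⊗ₜ[R] (1 : U) = u := by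
  let R1 := LinearMap.range (Algebra.linearMap R S)
  have hker : R1 ≤ LinearMap.ker (toCoker ι ξ) := by
    rintro _ ⟨r, rfl⟩
    exact (Submodule.Quotient.mk_eq_zero _).2 ⟨algebraMap R U r,
      (ξ.commutes r).trans (ι.commutes r).symm⟩
  let gb := R1.liftQ (toCoker ι ξ) hker
  have hgb : Function.Injective gb := by
    refine (injective_iff_map_eq_zero _).2 fun y hy => ?_
    obtain ⟨s, rfl⟩ := R1.mkQ_surjective y
    exact (Submodule.Quotient.mk_eq_zero _).2 (mem_range_of_toCoker_eq_zero ι ξ hE hy)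
  haveI : Module.IsTorsionFree R (S ⧸ R1) :=
    Function.Injective.moduleIsTorsionFree gb hgb fun r x => map_smul gb r x
  haveI : Module.Flat R (S ⧸ R1) := inferInstance
  let Q := (W ⧸ LinearMap.range ξ.toLinearMap) ⧸ LinearMap.range (toCoker ι ξ)
  haveI : Module.Flat R Q := by
    rw [IsDedekindDomain.flat_iff_torsion_eq_bot, eq_bot_iff]
    intro q hq
    obtain ⟨c, rfl⟩ := Submodule.mkQ_surjective _ q
    obtain ⟨⟨r, hr⟩, hrq⟩ := hq
    rw [Submodule.mem_bot]
    refine (Submodule.Quotient.mk_eq_zero _).2 (mem_range_of_smul_mem ι ξ hξ hE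
      (nonZeroDivisors.ne_zero hr) ?_)
    exact (Submodule.Quotient.mk_eq_zero _).1 hrq
  have hex : Function.Exact gb (LinearMap.range (toCoker ι ξ)).mkQ := by
    rw [LinearMap.exact_iff, Submodule.ker_mkQ, Submodule.range_liftQ]
  have hgbA := LinearMap.lTensor_injective_of_exact_of_flat _ (Submodule.mkQ_surjective _) gb hgb
    hex A
  have hξA : Function.Injective (ξ.toLinearMap.lTensor A) :=
    LinearMap.lTensor_injective_of_exact_of_flat _ (Submodule.mkQ_surjective _) ξ.toLinearMap hξ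
      (by rw [LinearMap.exact_iff, Submodule.ker_mkQ]) A
  have hexS : Function.Exact (Algebra.linearMap R S) R1.mkQ := by
    rw [LinearMap.exact_iff, Submodule.ker_mkQ]
  have hjA : Function.Injective ((Algebra.linearMap R S).lTensor A) :=
    LinearMap.lTensor_injective_of_exact_of_flat _ R1.mkQ_surjective _ hR hexS A
  have hz : R1.mkQ.lTensor A z = 0 := by
    apply hgbA
    rw [map_zero, ← LinearMap.lTensor_comp_apply, R1.liftQ_mkQ, LinearMap.lTensor_comp_apply, h,
      ← LinearMap.lTensor_comp_apply,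
      show (LinearMap.range ξ.toLinearMap).mkQ ∘ₗ ξ.toLinearMap = 0 from
        LinearMap.ext fun w => (Submodule.Quotient.mk_eq_zero _).2 ⟨w, rfl⟩,
      LinearMap.lTensor_zero, LinearMap.zero_apply]
  obtain ⟨v, hv⟩ := (lTensor_exact A hexS R1.mkQ_surjective z).1 hz
  obtain ⟨a, rfl⟩ := (TensorProduct.rid R A).symm.surjective v
  rw [TensorProduct.rid_symm_apply, LinearMap.lTensor_tmul, Algebra.linearMap_apply, map_one] at hv
  refine ⟨a, ⟨hv, hξA ?_⟩, fun b hb => ?_⟩
  · rw [← h, ← hv]
    show a ⊗ₜ[R] ξ 1 = a ⊗ₜ[R] ι 1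
    rw [map_one, map_one]
  · have h1 : (Algebra.linearMap R S).lTensor A ((TensorProduct.rid R A).symm b) =
        (Algebra.linearMap R S).lTensor A ((TensorProduct.rid R A).symm a) := by
      simp only [TensorProduct.rid_symm_apply, LinearMap.lTensor_tmul, Algebra.linearMap_apply,
        map_one]
      rw [hb.1, hv]
    exact (TensorProduct.rid R A).symm.injective (hjA h1)

end Main

end Groth.Agent.H28Pinch.EtaleSections
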