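import Groth.Agent.H28Pinch.RingedFlat
import Groth.Agent.H28Pinch.BaseChangeAny
import Mathlib.AlgebraicGeometry.Stalk

/-!
# Base change of pushouts of ringed spaces with flat corner
-/

set_option autoImplicit false
set_option linter.style.haveILetI false

universe u

open CategoryTheory AlgebraicGeometry Limits TopologicalSpace Opposite

namespace Groth.Agent.H28Pinch

open H7Flat
open scoped TensorProduct

theorem app_injective_of_flat_surjective {X Y : Scheme.{u}} (f : X ⟶ Y) [Flat f] [Surjective f]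
    (U : Y.Opens) : Function.Injective (f.app U) := by
  intro s s' h
  refine TopCat.Presheaf.section_ext Y.sheaf U s s' fun y hy => ?_
  obtain ⟨x, rfl⟩ := f.surjective y
  have hinj : Function.Injective (f.stalkMap x) := by
    algebraize [(f.stalkMap x).hom]
    have : Module.FaithfullyFlat (Y.presheaf.stalk (f x)) (X.presheaf.stalk x) :=
      @Module.FaithfullyFlat.of_flat_of_isLocalHom _ _ _ _ _ _ _
        (Flat.stalkMap f x) (f.toLRSHom.prop x)
    exact ‹RingHom.FaithfullyFlat _›.injective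
  apply hinj
  show f.stalkMap x (Y.presheaf.germ U (f x) hy s) = f.stalkMap x (Y.presheaf.germ U (f x) hy s')
  rw [← CommRingCat.comp_apply, ← CommRingCat.comp_apply, f.germ_stalkMap]
  simp only [CommRingCat.comp_apply, h]

theorem bcInj_of_flat_corner {R₀ R A' B A : Type u} [CommRing R₀] [CommRing R] [CommRing A']
    [CommRing B] [CommRing A] [Algebra R A'] [Algebra R B] [Algebra R A] [Algebra R₀ R]
    [Algebra R₀ A'] [Algebra R₀ B] [Algebra R₀ A] [IsScalarTower R₀ R A'] [IsScalarTower R₀ R B]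
    [IsScalarTower R₀ R A] {p : A' →ₐ[R] A} {q : B →ₐ[R] A}
    (h : RingSq (algebraMap R A') (algebraMap R B) p.toRingHom q.toRingHom) [Module.Flat R₀ A]
    (S₀ : Type u) [CommRing S₀] [Algebra R₀ S₀] : BCInj R A' B (R ⊗[R₀] S₀) := by
  let i : R →ₗ[R₀] A' × B := (pairMap R A' B).restrictScalars R₀
  let d : A' × B →ₗ[R₀] A :=
    (p.toLinearMap ∘ₗ LinearMap.fst R A' B - q.toLinearMap ∘ₗ LinearMap.snd R A' B).restrictScalars R₀
  have hd : Function.Surjective d := fun x => by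
    obtain ⟨y, hy⟩ := h.surj x
    exact ⟨(y, 0), by simp [d]; exact hy⟩
  have hi : Function.Injective i := fun a b e => h.ext a b (congrArg Prod.fst e) (congrArg Prod.snd e)
  intro s h1 h2
  have hinj : Function.Injective (LinearMap.rTensor S₀ i) := by
    rw [← LinearMap.lTensor_inj_iff_rTensor_inj]
    exact LinearMap.lTensor_injective_of_exact_of_flat d hd i hi (pairMap_exact h) S₀
  let ΦA : (R ⊗[R₀] S₀) ⊗[R] A' →ₐ[R] A' ⊗[R₀] S₀ :=
    Algebra.TensorProduct.lift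
      (Algebra.TensorProduct.map (Algebra.ofId R A') (AlgHom.id R₀ S₀))
      ((Algebra.TensorProduct.includeLeft (R := R₀) (S := A')).restrictScalars R)
      fun _ _ => Commute.all _ _
  let ΦB : (R ⊗[R₀] S₀) ⊗[R] B →ₐ[R] B ⊗[R₀] S₀ :=
    Algebra.TensorProduct.lift
      (Algebra.TensorProduct.map (Algebra.ofId R B) (AlgHom.id R₀ S₀))
      ((Algebra.TensorProduct.includeLeft (R := R₀) (S := B)).restrictScalars R)
      fun _ _ => Commute.all _ _
  let e := TensorProduct.prodLeft R₀ R₀ A' B S₀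
  have he : ∀ s, e (LinearMap.rTensor S₀ i s) = (ΦA (s ⊗ₜ 1), ΦB (s ⊗ₜ 1)) := fun s => by
    induction s using TensorProduct.induction_on with
    | zero => simp only [map_zero, TensorProduct.zero_tmul]; rfl
    | tmul a b => simp [e, i, ΦA, ΦB, pairMap]
    | add a b ha hb =>
      simp only [map_add, ha, hb, TensorProduct.add_tmul, Prod.mk_add_mk]
  apply hinj
  apply e.injective
  rw [he, h1, h2, map_zero, map_zero, map_zero, map_zero]
  rfl

variable {S X Z Z' X' : Scheme.{u}} {ι : Z ⟶ X} {q : Z ⟶ Z'} {π : X ⟶ X'} {ι' : Z' ⟶ X'}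
  [IsClosedImmersion ι] [IsAffineHom π] [IsAffineHom ι']

/-- A chart of the base change around a point. -/
theorem exists_chart_bc (hpo : IsPushout (toRS.map ι) (toRS.map q) (toRS.map π) (toRS.map ι'))
    (fX' : X' ⟶ S) [Flat (ι ≫ π ≫ fX')] {T : Scheme.{u}} (g : T ⟶ S) (O : (pullback fX' g).Opens)
    (r : ↥(pullback fX' g)) (hr : r ∈ O) :
    ∃ (c : Chart ι q π ι') (V : (pullback fX' g).Opens) (hV : IsAffineOpen V)
      (ψ : c.R →+* Γ(pullback fX' g, V)), r ∈ V ∧ V ≤ O ∧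
      sm ψ ≫ c.u = hV.fromSpec ≫ pullback.fst fX' g ∧ c.Inj _ ψ := by
  obtain ⟨W, hW, hxW, -⟩ := exists_isAffineOpen_mem_and_subset
    (Set.mem_univ (fX' (pullback.fst fX' g r))) (U := (⊤ : S.Opens))
  obtain ⟨V₀, hV₀, hrV₀, hV₀W⟩ := exists_isAffineOpen_mem_and_subset (U := fX' ⁻¹ᵁ W) hxW
  obtain ⟨φ, eX, eT, eZ, rfl, ha, hb, hA⟩ := chartOfPushout_over hpo fX' V₀ hV₀ hV₀W
  have hy : pullback.snd fX' g r ∈ g ⁻¹ᵁ W := by
    show g (pullback.snd fX' g r) ∈ W
    rw [← Scheme.Hom.comp_apply, ← pullback.condition, Scheme.Hom.comp_apply]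
    exact hxW
  obtain ⟨W'', hW'', hrW'', hW''le⟩ := exists_isAffineOpen_mem_and_subset (U := g ⁻¹ᵁ W) hy
  obtain ⟨V, hV, ψ, hrV, hVO, hψ⟩ := exists_affine_lift (pullback.fst fX' g)
    (chartOfPushout hpo V₀ hV₀)
    (O ⊓ pullback.snd fX' g ⁻¹ᵁ W'') r ⟨hr, hrW''⟩ (hV₀.range_fromSpec.ge hrV₀)
  refine ⟨chartOfPushout hpo V₀ hV₀, V, hV, ψ, hrV, fun x hx => (hVO hx).1, hψ, ?_⟩
  let φ := (fX'.appLE W V₀ hV₀W).hom
  have hcp : hV₀.fromSpec ≫ fX' = sm φ ≫ hW.fromSpec :=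
    (hW.SpecMap_appLE_fromSpec fX' hV₀ hV₀W).symm
  let χ₀ := (g.appLE W W'' hW''le).hom
  have hg : sm χ₀ ≫ hW.fromSpec = hW''.fromSpec ≫ g := hW.SpecMap_appLE_fromSpec g hW'' hW''le
  let ρ := ((pullback.snd fX' g).appLE W'' V fun x hx => (hVO hx).2).hom
  have hρ : sm ρ ≫ hW''.fromSpec = hV.fromSpec ≫ pullback.snd fX' g :=
    hW''.SpecMap_appLE_fromSpec _ hV _
  letI : Algebra Γ(S, W) Γ(X', V₀) := φ.toAlgebra
  letI : Algebra Γ(S, W) Γ(T, W'') := χ₀.toAlgebra
  let S₁ := Γ(X', V₀) ⊗[Γ(S, W)] Γ(T, W'')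
  let i₁ : Γ(X', V₀) →+* S₁ := Algebra.TensorProduct.includeLeftRingHom
  let i₂ : Γ(T, W'') →+* S₁ := Algebra.TensorProduct.includeRight.toRingHom
  have hS₁ : IsPullback (sm i₁) (sm i₂) (sm φ) (sm χ₀) :=
    isPullback_SpecMap_of_isPushout _ _ _ _
      (CommRingCat.isPushout_tensorProduct Γ(S, W) Γ(X', V₀) Γ(T, W''))
  have hψ' : sm (ψ : Γ(X', V₀) →+* Γ(pullback fX' g, V)) ≫ hV₀.fromSpec =
      hV.fromSpec ≫ pullback.fst fX' g := hψ
  let j₁ : Spec (CommRingCat.of S₁) ⟶ pullback fX' g :=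
    hS₁.isoPullback.hom ≫
      pullback.map (sm φ) (sm χ₀) fX' g hV₀.fromSpec hW''.fromSpec hW.fromSpec hcp.symm hg
  have hj1 : j₁ ≫ pullback.fst fX' g = sm i₁ ≫ hV₀.fromSpec := by
    simp only [j₁, Category.assoc, pullback.map, pullback.lift_fst]
    rw [hS₁.isoPullback_hom_fst_assoc]
  have hj2 : j₁ ≫ pullback.snd fX' g = sm i₂ ≫ hW''.fromSpec := by
    simp only [j₁, Category.assoc, pullback.map, pullback.lift_snd]
    rw [hS₁.isoPullback_hom_snd_assoc]
  haveI : IsOpenImmersion j₁ :=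
    inferInstanceAs (IsOpenImmersion (hS₁.isoPullback.hom ≫
      pullback.map (sm φ) (sm χ₀) fX' g hV₀.fromSpec hW''.fromSpec hW.fromSpec hcp.symm hg))
  obtain ⟨v, hv1, hv2⟩ := hS₁.exists_lift (sm ψ) (sm ρ) (by
    refine (cancel_mono hW.fromSpec).mp ?_
    calc (sm ψ ≫ sm φ) ≫ hW.fromSpec = sm ψ ≫ hV₀.fromSpec ≫ fX' :=
          (Category.assoc _ _ _).trans (congrArg (sm ψ ≫ ·) hcp.symm)
      _ = (sm ψ ≫ hV₀.fromSpec) ≫ fX' := (Category.assoc _ _ _).symm
      _ = (hV.fromSpec ≫ pullback.fst fX' g) ≫ fX' := congrArg (· ≫ fX') hψ'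
      _ = (hV.fromSpec ≫ pullback.snd fX' g) ≫ g := by
          rw [Category.assoc, Category.assoc, pullback.condition]
      _ = (sm ρ ≫ sm χ₀) ≫ hW.fromSpec := by
          rw [← hρ, Category.assoc, Category.assoc, hg])
  obtain ⟨χ, hχ⟩ := Spec.homEquiv.symm.surjective v
  replace hχ : Spec.map χ = v := hχ
  have hvj : v ≫ j₁ = hV.fromSpec := by
    refine pullback.hom_ext ?_ ?_
    · rw [Category.assoc, hj1, ← Category.assoc, hv1]
      exact hψ'
    · rw [Category.assoc, hj2, ← Category.assoc, hv2, hρ]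
  haveI : Flat (v ≫ j₁) := hvj ▸ inferInstance
  have hflat : Flat v := flat_of_comp_openImmersion v j₁
  rw [← hχ] at hflat
  refine Chart.inj_of_flat_over _ i₁ χ.hom ψ ?_
    ((HasRingHomProperty.Spec_iff (P := @Flat)).mp hflat) ?_
  · have : CommRingCat.ofHom i₁ ≫ χ = CommRingCat.ofHom ψ := by
      apply Spec.map_injective
      rw [Spec.map_comp, hχ]
      exact hv1
    exact congrArg CommRingCat.Hom.hom this
  · let A := apOfPushout (w_of_isPushout_rs hpo) V₀ hV₀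
    letI : Algebra Γ(X', V₀) Γ(X, A.U) := (π.app V₀).hom.toAlgebra
    letI : Algebra Γ(X', V₀) Γ(Z', A.V) := (ι'.app V₀).hom.toAlgebra
    letI : Algebra Γ(X', V₀) Γ(Z, A.W) := (A.p.comp (π.app V₀).hom).toAlgebra
    letI : Algebra Γ(S, W) Γ(X, A.U) := ((π.app V₀).hom.comp φ).toAlgebra
    letI : Algebra Γ(S, W) Γ(Z', A.V) := ((ι'.app V₀).hom.comp φ).toAlgebra
    letI : Algebra Γ(S, W) Γ(Z, A.W) := ((A.p.comp (π.app V₀).hom).comp φ).toAlgebra
    haveI : IsScalarTower Γ(S, W) Γ(X', V₀) Γ(X, A.U) :=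
      IsScalarTower.of_algebraMap_eq fun _ => rfl
    haveI : IsScalarTower Γ(S, W) Γ(X', V₀) Γ(Z', A.V) :=
      IsScalarTower.of_algebraMap_eq fun _ => rfl
    haveI : IsScalarTower Γ(S, W) Γ(X', V₀) Γ(Z, A.W) :=
      IsScalarTower.of_algebraMap_eq fun _ => rfl
    haveI : Module.Flat Γ(S, W) Γ(Z, A.W) := by
      change ((A.p.comp (π.app V₀).hom).comp φ).Flat
      rw [show (A.p.comp (π.app V₀).hom).comp φ =
        ((ι ≫ π ≫ fX').appLE W (ι ⁻¹ᵁ π ⁻¹ᵁ V₀) eZ).hom from hA]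
      exact HasRingHomProperty.appLE (P := @Flat) _ inferInstance ⟨W, hW⟩
        ⟨_, (hV₀.preimage π).preimage ι⟩ eZ
    let pA : Γ(X, A.U) →ₐ[Γ(X', V₀)] Γ(Z, A.W) := ⟨A.p, fun r => rfl⟩
    let qA : Γ(Z', A.V) →ₐ[Γ(X', V₀)] Γ(Z, A.W) :=
      ⟨A.q, fun r => ((chartOfPushout hpo V₀ hV₀).sq.comm r).symm⟩
    have hi : i₁.toAlgebra = (inferInstance : Algebra Γ(X', V₀) S₁) :=
      Algebra.algebra_ext _ _ fun r => rfl
    show @BCInj Γ(X', V₀) Γ(X, A.U) Γ(Z', A.V) S₁ _ _ _ _ (π.app V₀).hom.toAlgebra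
      (ι'.app V₀).hom.toAlgebra i₁.toAlgebra
    rw [hi]
    exact bcInj_of_flat_corner (p := pA) (q := qA) (chartOfPushout hpo V₀ hV₀).sq Γ(T, W'')

/-- The base-changed square is covered by charts. -/
theorem exists_chart_overPullback (fX : X ⟶ S) (fZ' : Z' ⟶ S) (fX' : X' ⟶ S)
    (hq : q ≫ fZ' = ι ≫ fX) (hπ : π ≫ fX' = fX) (hι' : ι' ≫ fX' = fZ')
    (hpo : IsPushout (toRS.map ι) (toRS.map q) (toRS.map π) (toRS.map ι')) [Flat (ι ≫ fX)]
    {T : Scheme.{u}} (g : T ⟶ S) (O : (pullback fX' g).Opens) (r : ↥(pullback fX' g)) (hr : r ∈ O) :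
    ∃ c : Chart
        (pullback.lift (pullback.fst (ι ≫ fX) g ≫ ι) (pullback.snd (ι ≫ fX) g)
          (by rw [Category.assoc, pullback.condition]))
        (pullback.lift (pullback.fst (ι ≫ fX) g ≫ q) (pullback.snd (ι ≫ fX) g)
          (by rw [Category.assoc, hq, pullback.condition]))
        (pullback.lift (pullback.fst fX g ≫ π) (pullback.snd fX g)
          (by rw [Category.assoc, hπ, pullback.condition]))
        (pullback.lift (pullback.fst fZ' g ≫ ι') (pullback.snd fZ' g)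
          (by rw [Category.assoc, hι', pullback.condition])),
      r ∈ Set.range c.u ∧ Set.range c.u ⊆ (O : Set ↥(pullback fX' g)) := by
  subst hπ hι'
  haveI : Flat (ι ≫ π ≫ fX') := ‹_›
  obtain ⟨c, V, hV, ψ, hrV, hVO, hψ, hinj⟩ := exists_chart_bc hpo fX' g O r hr
  have w : ι ≫ π = q ≫ ι' := w_of_isPushout_rs hpo
  obtain ⟨c', hc'⟩ := Chart.exists_baseChange (pullback.fst fX' g)
    (isPullback_lift g π rfl) (isPullback_lift g ι' rfl)
    (ι' := pullback.lift (pullback.fst (ι ≫ π ≫ fX') g ≫ ι) (pullback.snd (ι ≫ π ≫ fX') g)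
      (by rw [Category.assoc, pullback.condition]))
    (ξ' := pullback.lift (pullback.fst (ι ≫ π ≫ fX') g ≫ q) (pullback.snd (ι ≫ π ≫ fX') g)
      (by rw [Category.assoc, hq, pullback.condition]))
    (qZ := pullback.fst (ι ≫ π ≫ fX') g) (by
      convert isPullback_lift g (m := ι ≫ π ≫ fX') (ι ≫ π) (Category.assoc _ _ _) using 1
      ext <;> simp only [Category.assoc, pullback.lift_fst, pullback.lift_fst_assoc, pullback.lift_snd])
    w (by
      ext <;> simp only [Category.assoc, pullback.lift_fst, pullback.lift_fst_assoc, pullback.lift_snd]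
      rw [w])
    (pullback.lift_fst _ _ _) (pullback.lift_fst _ _ _) c hV.fromSpec ψ hψ hinj
  refine ⟨c', ?_, ?_⟩ <;> rw [hc', hV.range_fromSpec]
  exacts [hrV, hVO]

namespace Chart

omit [IsClosedImmersion ι] [IsAffineHom π] [IsAffineHom ι'] in
/-- Sections of a square covered by charts are determined by their two pullbacks. -/
theorem section_ext (hcov : ∀ (O : X'.Opens) (r : X'), r ∈ O →
      ∃ c : Chart ι q π ι', r ∈ Set.range c.u ∧ Set.range c.u ⊆ (O : Set X'))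
    (U : X'.Opens) (s s' : Γ(X', U)) (h₁ : π.app U s = π.app U s')
    (h₂ : ι'.app U s = ι'.app U s') : s = s' := by
  refine TopCat.Presheaf.section_ext X'.sheaf U s s' fun x hx => ?_
  obtain ⟨c, hxc, hcU⟩ := hcov U x hx
  have hle : c.u.opensRange ≤ U := hcU
  have key : c.u.appLE U ⊤ (fun y _ => hcU ⟨y, rfl⟩) s =
      c.u.appLE U ⊤ (fun y _ => hcU ⟨y, rfl⟩) s' := by
    let e := Scheme.ΓSpecIso (CommRingCat.of c.R)
    apply (ConcreteCategory.bijective_of_isIso e.hom).1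
    refine c.sq.ext _ _ ?_ ?_
    · have hX : ⊤ ≤ c.uX ⁻¹ᵁ π ⁻¹ᵁ U := fun y _ => by
        show π (c.uX y) ∈ U
        rw [← Scheme.Hom.comp_apply, ← c.pbX.w]
        exact hcU ⟨sm c.pa y, (Scheme.Hom.comp_apply _ _ _).symm⟩
      have : ∀ t : Γ(X', U), c.pa (e.hom (c.u.appLE U ⊤ (fun y _ => hcU ⟨y, rfl⟩) t)) =
          (Scheme.ΓSpecIso (CommRingCat.of c.A')).hom (c.uX.appLE (π ⁻¹ᵁ U) ⊤ hX (π.app U t)) := by
        intro t
        change (c.u.appLE U ⊤ _ ≫ e.hom ≫ CommRingCat.ofHom c.pa) t =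
          (π.app U ≫ c.uX.appLE (π ⁻¹ᵁ U) ⊤ hX ≫ _) t
        rw [← Scheme.ΓSpecIso_naturality, ← π.appLE_eq_app, Scheme.Hom.appLE_comp_appLE_assoc,
          show (Spec.map (CommRingCat.ofHom c.pa)).appTop =
              (Spec.map (CommRingCat.ofHom c.pa)).appLE ⊤ ⊤ le_top from
            (Scheme.Hom.appLE_eq_app _).symm,
          Scheme.Hom.appLE_comp_appLE_assoc]
        congr! 3
        congr 1
        exact c.pbX.w
      rw [this, this, h₁]
    · have hT : ⊤ ≤ c.uT ⁻¹ᵁ ι' ⁻¹ᵁ U := fun y _ => by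
        show ι' (c.uT y) ∈ U
        rw [← Scheme.Hom.comp_apply, ← c.pbT.w]
        exact hcU ⟨sm c.pb y, (Scheme.Hom.comp_apply _ _ _).symm⟩
      have : ∀ t : Γ(X', U), c.pb (e.hom (c.u.appLE U ⊤ (fun y _ => hcU ⟨y, rfl⟩) t)) =
          (Scheme.ΓSpecIso (CommRingCat.of c.B)).hom (c.uT.appLE (ι' ⁻¹ᵁ U) ⊤ hT (ι'.app U t)) := by
        intro t
        change (c.u.appLE U ⊤ _ ≫ e.hom ≫ CommRingCat.ofHom c.pb) t =
          (ι'.app U ≫ c.uT.appLE (ι' ⁻¹ᵁ U) ⊤ hT ≫ _) t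
        rw [← Scheme.ΓSpecIso_naturality, ← ι'.appLE_eq_app, Scheme.Hom.appLE_comp_appLE_assoc,
          show (Spec.map (CommRingCat.ofHom c.pb)).appTop =
              (Spec.map (CommRingCat.ofHom c.pb)).appLE ⊤ ⊤ le_top from
            (Scheme.Hom.appLE_eq_app _).symm,
          Scheme.Hom.appLE_comp_appLE_assoc]
        congr! 3
        congr 1
        exact c.pbT.w
      rw [this, this, h₂]
  obtain ⟨y, rfl⟩ := hxc
  apply (ConcreteCategory.bijective_of_isIso (c.u.stalkMap y)).1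
  show c.u.stalkMap y (X'.presheaf.germ U (c.u y) hx s) = c.u.stalkMap y (X'.presheaf.germ U (c.u y) hx s')
  rw [← CommRingCat.comp_apply, ← CommRingCat.comp_apply, c.u.germ_stalkMap,
    ← TopCat.Presheaf.germ_res (Spec (CommRingCat.of c.R)).presheaf
      (homOfLE (fun z _ => hcU ⟨z, rfl⟩ : ⊤ ≤ c.u ⁻¹ᵁ U)) y (show y ∈ (⊤ : Opens _) from trivial), ← Category.assoc]
  exact congrArg ((Spec (CommRingCat.of c.R)).presheaf.germ ⊤ y trivial) key

end Chart

/-- Global functions of the base change of a pinching. -/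
theorem isIso_app_of_pinching (fX : X ⟶ S) (fZ' : Z' ⟶ S) (fX' : X' ⟶ S)
    (hq : q ≫ fZ' = ι ≫ fX) (hπ : π ≫ fX' = fX) (hι' : ι' ≫ fX' = fZ')
    (hpo : IsPushout (toRS.map ι) (toRS.map q) (toRS.map π) (toRS.map ι')) [Flat (ι ≫ fX)]
    [Flat q] [Surjective q] {T : Scheme.{u}} (g : T ⟶ S) (U : T.Opens)
    [IsIso ((pullback.snd fX g).app U)] : IsIso ((pullback.snd fX' g).app U) := by
  let a := pullback.lift (pullback.fst fX g ≫ π) (pullback.snd fX g)
    (show (pullback.fst fX g ≫ π) ≫ fX' = pullback.snd fX g ≫ g by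
      rw [Category.assoc, hπ, pullback.condition])
  let b := pullback.lift (pullback.fst fZ' g ≫ ι') (pullback.snd fZ' g)
    (show (pullback.fst fZ' g ≫ ι') ≫ fX' = pullback.snd fZ' g ≫ g by
      rw [Category.assoc, hι', pullback.condition])
  let i := pullback.lift (pullback.fst (ι ≫ fX) g ≫ ι) (pullback.snd (ι ≫ fX) g)
    (show (pullback.fst (ι ≫ fX) g ≫ ι) ≫ fX = pullback.snd (ι ≫ fX) g ≫ g by
      rw [Category.assoc, pullback.condition])
  let j := pullback.lift (pullback.fst (ι ≫ fX) g ≫ q) (pullback.snd (ι ≫ fX) g)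
    (show (pullback.fst (ι ≫ fX) g ≫ q) ≫ fZ' = pullback.snd (ι ≫ fX) g ≫ g by
      rw [Category.assoc, hq, pullback.condition])
  have hj : IsPullback j (pullback.fst (ι ≫ fX) g) (pullback.fst fZ' g) q := isPullback_lift g q hq
  haveI : Flat j := MorphismProperty.of_isPullback (P := @Flat) hj.flip inferInstance
  haveI : Surjective j := MorphismProperty.of_isPullback (P := @Surjective) hj.flip inferInstance
  have hw : i ≫ a = j ≫ b := by
    ext <;> simp only [i, a, j, b, Category.assoc, pullback.lift_fst, pullback.lift_fst_assoc,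
      pullback.lift_snd]
    rw [w_of_isPushout_rs hpo]
  have ha : a ≫ pullback.snd fX' g = pullback.snd fX g := pullback.lift_snd _ _ _
  have hb : b ≫ pullback.snd fX' g = pullback.snd fZ' g := pullback.lift_snd _ _ _
  have hcov : ∀ (O : (pullback fX' g).Opens) (r : ↥(pullback fX' g)), r ∈ O →
      ∃ c : Chart i j a b, r ∈ Set.range c.u ∧ Set.range c.u ⊆ (O : Set ↥(pullback fX' g)) :=
    fun O r hr => exists_chart_overPullback fX fZ' fX' hq hπ hι' hpo g O r hr
  let f' := pullback.snd fX' g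
  have hbij : Function.Bijective (f'.app U ≫ a.app (f' ⁻¹ᵁ U)) := by
    rw [← Scheme.Hom.comp_app, Scheme.Hom.congr_app ha]
    haveI : IsIso ((pullback.snd fX g).app U) := ‹_›
    show Function.Bijective ((pullback fX g).presheaf.map _ ∘ (pullback.snd fX g).app U)
    exact Function.Bijective.comp (ConcreteCategory.bijective_of_isIso ((pullback fX g).presheaf.map _))
      (ConcreteCategory.bijective_of_isIso ((pullback.snd fX g).app U))
  refine (ConcreteCategory.isIso_iff_bijective _).mpr ⟨fun u u' e => hbij.1 ?_, fun s => ?_⟩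
  · rw [CommRingCat.comp_apply, CommRingCat.comp_apply, e]
  obtain ⟨u, hu⟩ := hbij.2 (a.app _ s)
  refine ⟨u, Chart.section_ext hcov _ _ _ hu ?_⟩
  apply app_injective_of_flat_surjective j
  rw [← CommRingCat.comp_apply, ← CommRingCat.comp_apply (b.app _) (j.app _),
    ← Scheme.Hom.comp_app, Scheme.Hom.congr_app hw.symm, Scheme.Hom.comp_app]
  exact congrArg (fun z => (pullback (ι ≫ fX) g).presheaf.map _ (i.app _ z)) hu

end Groth.Agent.H28Pinch
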