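-- Global sections of a pushout of schemes
import Mathlib.AlgebraicGeometry.GammaSpecAdjunction
import Mathlib.AlgebraicGeometry.AffineScheme
import Mathlib.CategoryTheory.Limits.Shapes.Pullback.IsPullback.Basic
import Mathlib.Algebra.Polynomial.AlgebraMap

/-!
# Global sections turn pushouts of schemes into fibre products
-/

set_option autoImplicit false

universe u

open CategoryTheory AlgebraicGeometry

namespace Groth.Agent.H28Pinch

/-- The polynomial ring over the integers in the universe `u`. -/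
noncomputable abbrev freeRing : CommRingCat.{u} := CommRingCat.of (Polynomial (ULift.{u} ℤ))

/-- The map out of the free ring given by an element. -/
noncomputable def evalAt {R : CommRingCat.{u}} (r : R) : freeRing.{u} ⟶ R :=
  CommRingCat.ofHom (Polynomial.eval₂RingHom ((Int.castRingHom R).comp ULift.ringEquiv.toRingHom) r)

theorem evalAt_X {R : CommRingCat.{u}} (r : R) : evalAt r Polynomial.X = r :=
  Polynomial.eval₂_X _ _

theorem freeRing_hom_ext {R : CommRingCat.{u}} {φ ψ : freeRing.{u} ⟶ R}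
    (h : φ Polynomial.X = ψ Polynomial.X) : φ = ψ :=
  CommRingCat.hom_ext (Polynomial.ringHom_ext (fun a => by
    obtain ⟨n⟩ := a
    exact (map_intCast (φ.hom.comp (Polynomial.C.comp ULift.ringEquiv.symm.toRingHom)) n).trans
      (map_intCast (ψ.hom.comp (Polynomial.C.comp ULift.ringEquiv.symm.toRingHom)) n).symm) h)

/-- A global section as a map to the affine line. -/
noncomputable def toLine {S : Scheme.{u}} (x : Γ(S, ⊤)) : S ⟶ Spec freeRing :=
  S.toSpecΓ ≫ Spec.map (evalAt x)

theorem comp_toLine {S S' : Scheme.{u}} (m : S ⟶ S') (x : Γ(S', ⊤)) :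
    m ≫ toLine x = toLine (m.appTop x) := by
  rw [toLine, toLine, Scheme.toSpecΓ_naturality_assoc, ← Spec.map_comp]
  congr 2
  exact freeRing_hom_ext (by rw [CommRingCat.comp_apply, evalAt_X, evalAt_X])

theorem exists_toLine {S : Scheme.{u}} (m : S ⟶ Spec freeRing.{u}) : ∃ x, toLine x = m := by
  refine ⟨m.appTop ((Scheme.ΓSpecIso freeRing).inv Polynomial.X), ?_⟩
  rw [← comp_toLine m]
  suffices toLine ((Scheme.ΓSpecIso freeRing.{u}).inv Polynomial.X) = 𝟙 (Spec freeRing.{u}) by
    rw [this, Category.comp_id]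
  rw [toLine, show evalAt ((Scheme.ΓSpecIso freeRing.{u}).inv Polynomial.X) =
    (Scheme.ΓSpecIso freeRing).inv from freeRing_hom_ext (evalAt_X _)]
  rw [← SpecMap_ΓSpecIso_hom, ← Spec.map_comp, Iso.inv_hom_id, Spec.map_id]

theorem toLine_injective {S : Scheme.{u}} : Function.Injective (toLine (S := S)) := by
  intro x y h
  have h' := congrArg (fun m : S ⟶ Spec freeRing.{u} =>
    m.appTop ((Scheme.ΓSpecIso freeRing).inv Polynomial.X)) h
  have key : ∀ z : Γ(S, ⊤),
      (toLine z).appTop ((Scheme.ΓSpecIso freeRing).inv Polynomial.X) = z := fun z => by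
    rw [toLine, Scheme.Hom.comp_appTop, CommRingCat.comp_apply, ← CommRingCat.comp_apply,
      ← CommRingCat.comp_apply, ← Category.assoc, ← Scheme.ΓSpecIso_inv_naturality,
      Category.assoc, Scheme.toSpecΓ_appTop, Iso.inv_hom_id, Category.comp_id, evalAt_X]
  exact (key x).symm.trans (h'.trans (key y))

variable {Z X T P : Scheme.{u}} {ι : Z ⟶ X} {ξ : Z ⟶ T} {a : X ⟶ P} {b : T ⟶ P}

theorem sections_of_scheme_pushout (hP : IsPushout ι ξ a b) :
    (∀ s s' : Γ(P, ⊤), a.appTop s = a.appTop s' → b.appTop s = b.appTop s' → s = s') ∧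
    ∀ (x : Γ(X, ⊤)) (y : Γ(T, ⊤)), ι.appTop x = ξ.appTop y →
      ∃ s, a.appTop s = x ∧ b.appTop s = y := by
  refine ⟨fun s s' h₁ h₂ => toLine_injective (hP.hom_ext ?_ ?_), fun x y h => ?_⟩
  · rw [comp_toLine, comp_toLine, h₁]
  · rw [comp_toLine, comp_toLine, h₂]
  · have w : ι ≫ toLine x = ξ ≫ toLine y := by rw [comp_toLine, comp_toLine, h]
    obtain ⟨s, hs⟩ := exists_toLine (hP.desc (toLine x) (toLine y) w)
    refine ⟨s, toLine_injective ?_, toLine_injective ?_⟩
    · rw [← comp_toLine, hs, hP.inl_desc]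
    · rw [← comp_toLine, hs, hP.inr_desc]

end Groth.Agent.H28Pinch
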