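-- Cohomological flatness of a pinching with etale sections
import Groth.Agent.H28Pinch.EtaleSections
import Groth.Agent.H28Pinch.SchemeSections
import Groth.Agent.H28Pinch.BaseChangeAny
import Groth.Agent.H28Pinch.RingedBC
import Mathlib.AlgebraicGeometry.Morphisms.Proper

/-!
# Global sections of a pinching commute with base change
-/

set_option autoImplicit false
set_option linter.style.haveILetI false

universe u

open CategoryTheory AlgebraicGeometry Limits TensorProduct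

namespace Groth.Agent.H28Pinch

variable {X Y T Z : Scheme.{u}}

theorem finite_appTop_of_etale [IsAffine Y] (f : X ⟶ Y) [UniversallyClosed f]
    (het : @Algebra.Etale Γ(Y, ⊤) Γ(X, ⊤) _ _ f.appTop.hom.toAlgebra) :
    @Module.Finite Γ(Y, ⊤) Γ(X, ⊤) _ _ (@Algebra.toModule _ _ _ _ f.appTop.hom.toAlgebra) := by
  letI := f.appTop.hom.toAlgebra
  haveI := het
  haveI : Algebra.IsIntegral Γ(Y, ⊤) Γ(X, ⊤) := ⟨isIntegral_appTop_of_universallyClosed f⟩
  exact Algebra.IsIntegral.finite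

theorem appTop_Spec_map_isoSpec_inv [IsAffine Y] {A : Type u} [CommRing A]
    (φ : Γ(Y, ⊤) →+* A) :
    (Spec.map (CommRingCat.ofHom φ) ≫ Y.isoSpec.inv).appTop =
      CommRingCat.ofHom φ ≫ (Scheme.ΓSpecIso (CommRingCat.of A)).inv := by
  have h : Y.isoSpec.hom.appTop = (Scheme.ΓSpecIso Γ(Y, ⊤)).hom := Y.toSpecΓ_appTop
  have h2 : Y.isoSpec.inv.appTop = (Scheme.ΓSpecIso Γ(Y, ⊤)).inv := by
    rw [← cancel_mono (Scheme.ΓSpecIso Γ(Y, ⊤)).hom, Iso.inv_hom_id, ← h, ← Scheme.Hom.comp_appTop,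
      Iso.hom_inv_id]
    rfl
  rw [Scheme.Hom.comp_appTop, h2, ← Scheme.ΓSpecIso_inv_naturality]

/-- The iso from a tensor product onto a pushout of rings. -/
theorem exists_tensorIso {R A S P : CommRingCat.{u}} [Algebra R A] [Algebra R S]
    {f : R ⟶ S} {g : R ⟶ A} {inl : S ⟶ P} {inr : A ⟶ P} (h : IsPushout f g inl inr)
    (hf : f = CommRingCat.ofHom (algebraMap R S)) (hg : g = CommRingCat.ofHom (algebraMap R A)) :
    ∃ e : CommRingCat.of (A ⊗[R] S) ≅ P,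
      CommRingCat.ofHom (Algebra.TensorProduct.includeLeftRingHom) ≫ e.hom = inr ∧
      CommRingCat.ofHom (Algebra.TensorProduct.includeRight.toRingHom) ≫ e.hom = inl := by
  subst hf hg
  exact ⟨(CommRingCat.isPushout_tensorProduct R A S).isoIsPushout _ _ h.flip,
    (CommRingCat.isPushout_tensorProduct R A S).inl_isoIsPushout_hom _ _ h.flip,
    (CommRingCat.isPushout_tensorProduct R A S).inr_isoIsPushout_hom _ _ h.flip⟩

theorem isPushout_appTop_affine [IsAffine Y] [IsAffine T] (t : T ⟶ Y) {A : Type u} [CommRing A]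
    (φ : Γ(Y, ⊤) →+* A) :
    IsPushout t.appTop (CommRingCat.ofHom φ)
      (pullback.fst t (Spec.map (CommRingCat.ofHom φ) ≫ Y.isoSpec.inv)).appTop
      ((Scheme.ΓSpecIso (CommRingCat.of A)).inv ≫
        (pullback.snd t (Spec.map (CommRingCat.ofHom φ) ≫ Y.isoSpec.inv)).appTop) := by
  refine (isPushout_appTop_of_isPullback (IsPullback.of_hasPullback t
    (Spec.map (CommRingCat.ofHom φ) ≫ Y.isoSpec.inv))).of_iso (Iso.refl _) (Iso.refl _)
    (Scheme.ΓSpecIso (CommRingCat.of A)) (Iso.refl _) ?_ ?_ ?_ ?_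
  · simp
  · rw [appTop_Spec_map_isoSpec_inv]
    simp
  · simp
  · simp

/-- Compatibility of the isos of base changes with a map over the base. -/
theorem tensorIso_map {R A S W : CommRingCat.{u}} [Algebra R A] [Algebra R S] [Algebra R W]
    (ι : S →ₐ[R] W) {PS PW : CommRingCat.{u}} (eS : CommRingCat.of (A ⊗[R] S) ≅ PS)
    (eW : CommRingCat.of (A ⊗[R] W) ≅ PW) {inlS : S ⟶ PS} {inrS : A ⟶ PS} {inlW : W ⟶ PW}
    {inrW : A ⟶ PW}
    (hS₁ : CommRingCat.ofHom (Algebra.TensorProduct.includeLeftRingHom) ≫ eS.hom = inrS)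
    (hS₂ : CommRingCat.ofHom (Algebra.TensorProduct.includeRight.toRingHom) ≫ eS.hom = inlS)
    (hW₁ : CommRingCat.ofHom (Algebra.TensorProduct.includeLeftRingHom) ≫ eW.hom = inrW)
    (hW₂ : CommRingCat.ofHom (Algebra.TensorProduct.includeRight.toRingHom) ≫ eW.hom = inlW)
    (m : PS ⟶ PW) (hm₁ : inrS ≫ m = inrW) (hm₂ : ∀ s, m (inlS s) = inlW (ι s))
    (z : A ⊗[R] S) : m (eS.hom z) = eW.hom (ι.toLinearMap.lTensor A z) := by
  induction z with
  | zero => rw [map_zero, map_zero, map_zero, map_zero]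
  | add p q hp hq => rw [map_add, map_add, hp, hq, map_add, map_add]
  | tmul a s =>
    have l : ∀ a, eS.hom (a ⊗ₜ (1 : S)) = inrS a := fun a => ConcreteCategory.congr_hom hS₁ a
    have r : ∀ s, eS.hom ((1 : A) ⊗ₜ s) = inlS s := fun s => ConcreteCategory.congr_hom hS₂ s
    have l' : ∀ a, eW.hom (a ⊗ₜ (1 : W)) = inrW a := fun a => ConcreteCategory.congr_hom hW₁ a
    have r' : ∀ s, eW.hom ((1 : A) ⊗ₜ s) = inlW s := fun s => ConcreteCategory.congr_hom hW₂ s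
    have hl : m (inrS a) = inrW a := ConcreteCategory.congr_hom hm₁ a
    rw [show (a ⊗ₜ[R] s : A ⊗[R] S) = (a ⊗ₜ 1) * (1 ⊗ₜ s) by
      rw [Algebra.TensorProduct.tmul_mul_tmul, mul_one, one_mul]]
    rw [map_mul, map_mul, l, r, hl, hm₂, ← l', ← r', ← map_mul,
      Algebra.TensorProduct.tmul_mul_tmul, mul_one, one_mul,
      Algebra.TensorProduct.tmul_mul_tmul, mul_one, one_mul, LinearMap.lTensor_tmul]
    rfl

theorem isPushout_appTop_pinching [IsAffine Y] (hR : IsDedekindDomain Γ(Y, ⊤))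
    (f : X ⟶ Y) (t : T ⟶ Y) (ξ : Z ⟶ T) (ι : Z ⟶ X)
    [IsProper f] [IsFinite t] [IsFinite (ξ ≫ t)] [IsClosedImmersion ι] (hsq : ι ≫ f = ξ ≫ t)
    (hstd : ∀ y : Y, ∃ U : Y.Opens, IsAffineOpen U ∧ y ∈ U ∧ ∃ V : X.Opens, IsAffineOpen V ∧
      V ≤ f ⁻¹ᵁ U ∧ ∀ z : Z, (ξ ≫ t).base z ∈ U → ι.base z ∈ V)
    [Flat ξ] [Surjective ξ]
    {P : Scheme.{u}} (a : X ⟶ P) (b : T ⟶ P) (hP : IsPushout ι ξ a b)
    (hv : ∀ U : Y.affineOpens, @Pinch.CokerProjective Γ(Y, U) Γ(Z, (ξ ≫ t) ⁻¹ᵁ U) Γ(T, t ⁻¹ᵁ U) _ _ _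
      ((ξ ≫ t).app U).hom.toAlgebra (ξ.app (t ⁻¹ᵁ U)).hom)
    (p : P ⟶ Y) (hap : a ≫ p = f) (hbp : b ≫ p = t)
    (hcf : ∀ (A : Type u) [CommRing A] (φ : Γ(Y, ⊤) →+* A),
      IsPushout f.appTop (CommRingCat.ofHom φ)
        (Limits.pullback.fst f (Spec.map (CommRingCat.ofHom φ) ≫ Y.isoSpec.inv)).appTop
        ((Scheme.ΓSpecIso (CommRingCat.of A)).inv ≫
          (Limits.pullback.snd f (Spec.map (CommRingCat.ofHom φ) ≫ Y.isoSpec.inv)).appTop))
    (hpO : IsIso p.appTop)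
    (het : @Algebra.Etale Γ(Y, ⊤) Γ(X, ⊤) _ _ f.appTop.hom.toAlgebra)
    (A : Type u) [CommRing A] (φ : Γ(Y, ⊤) →+* A) :
    IsPushout p.appTop (CommRingCat.ofHom φ)
      (Limits.pullback.fst p (Spec.map (CommRingCat.ofHom φ) ≫ Y.isoSpec.inv)).appTop
      ((Scheme.ΓSpecIso (CommRingCat.of A)).inv ≫
        (Limits.pullback.snd p (Spec.map (CommRingCat.ofHom φ) ≫ Y.isoSpec.inv)).appTop) := by
  haveI := hR
  haveI : IsAffine T := isAffine_of_isAffineHom t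
  haveI : IsAffine Z := isAffine_of_isAffineHom (ξ ≫ t)
  let g := Spec.map (CommRingCat.ofHom φ) ≫ Y.isoSpec.inv
  letI := f.appTop.hom.toAlgebra
  letI := t.appTop.hom.toAlgebra
  letI := (ξ ≫ t).appTop.hom.toAlgebra
  letI := φ.toAlgebra
  haveI := het
  haveI : Module.Finite Γ(Y, ⊤) Γ(X, ⊤) := finite_appTop_of_etale f het
  haveI : Module.Finite Γ(Y, ⊤) Γ(T, ⊤) := t.finite_appTop
  haveI : Module.Finite Γ(Y, ⊤) Γ(Z, ⊤) := (ξ ≫ t).finite_appTop
  let ιR : Γ(X, ⊤) →ₐ[Γ(Y, ⊤)] Γ(Z, ⊤) :=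
    { ι.appTop.hom with
      commutes' := fun r => by
        show ι.appTop (f.appTop r) = (ξ ≫ t).appTop r
        rw [← CommRingCat.comp_apply, ← Scheme.Hom.comp_appTop, hsq] }
  let ξR : Γ(T, ⊤) →ₐ[Γ(Y, ⊤)] Γ(Z, ⊤) :=
    { ξ.appTop.hom with
      commutes' := fun r => by
        show ξ.appTop (t.appTop r) = (ξ ≫ t).appTop r
        rw [← CommRingCat.comp_apply, ← Scheme.Hom.comp_appTop] }
  haveI : Module.Projective Γ(Y, ⊤) (Γ(Z, ⊤) ⧸ LinearMap.range ξR.toLinearMap) := by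
    have hv' : Module.Projective Γ(Y, ⊤)
        (Γ(Z, ⊤) ⧸ Submodule.span Γ(Y, ⊤) (Set.range ξ.appTop.hom)) :=
      hv ⟨⊤, isAffineOpen_top Y⟩
    have e : Submodule.span Γ(Y, ⊤) (Set.range ξ.appTop.hom) = LinearMap.range ξR.toLinearMap :=
      (congrArg _ (show Set.range ξ.appTop.hom = (LinearMap.range ξR.toLinearMap : Set _) from
        rfl)).trans (Submodule.span_eq _)
    exact Module.Projective.of_equiv (Submodule.quotEquivOfEq _ _ e)
  have hξ : Function.Injective ξR := app_injective_of_flat_surjective ξ ⊤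
  obtain ⟨hPext, hPlift⟩ := sections_of_scheme_pushout hP
  have hf' : ∀ r, a.appTop (p.appTop r) = f.appTop r := fun r => by
    rw [← CommRingCat.comp_apply, ← Scheme.Hom.comp_appTop, hap]
  have ht' : ∀ r, b.appTop (p.appTop r) = t.appTop r := fun r => by
    rw [← CommRingCat.comp_apply, ← Scheme.Hom.comp_appTop, hbp]
  have hE : ∀ s u, ιR s = ξR u → ∃ r, algebraMap Γ(Y, ⊤) Γ(X, ⊤) r = s ∧
      algebraMap Γ(Y, ⊤) Γ(T, ⊤) r = u := fun s u h => by
    obtain ⟨w, hwa, hwb⟩ := hPlift s u h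
    obtain ⟨r, rfl⟩ := (ConcreteCategory.bijective_of_isIso p.appTop).2 w
    exact ⟨r, (hf' r).symm.trans hwa, (ht' r).symm.trans hwb⟩
  have hinjR : Function.Injective (algebraMap Γ(Y, ⊤) Γ(X, ⊤)) := fun r r' h => by
    refine (ConcreteCategory.bijective_of_isIso p.appTop).1 (hPext _ _ ?_ ?_)
    · rw [hf', hf']; exact h
    · rw [ht', ht']
      apply hξ
      calc ξR (algebraMap _ _ r) = ιR (algebraMap _ _ r) :=
            (ξR.commutes r).trans (ιR.commutes r).symm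
        _ = ιR (algebraMap _ _ r') := congrArg ιR h
        _ = ξR (algebraMap _ _ r') := (ιR.commutes r').trans (ξR.commutes r').symm
  -- the base changed square
  let AR : CommRingCat.{u} := CommRingCat.of A
  have hPA := isPushout_baseChange f t hsq hstd hv hP p hap hbp g
  obtain ⟨hAext, hAlift⟩ := sections_of_scheme_pushout hPA
  let ιA : pullback (ξ ≫ t) g ⟶ pullback f g :=
    ((Over.pullback g).map (Over.homMk ι hsq : Over.mk (ξ ≫ t) ⟶ Over.mk f)).left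
  let ξA : pullback (ξ ≫ t) g ⟶ pullback t g :=
    ((Over.pullback g).map (Over.homMk ξ rfl : Over.mk (ξ ≫ t) ⟶ Over.mk t)).left
  let aA : pullback f g ⟶ pullback p g :=
    ((Over.pullback g).map (Over.homMk a hap : Over.mk f ⟶ Over.mk p)).left
  let bA : pullback t g ⟶ pullback p g :=
    ((Over.pullback g).map (Over.homMk b hbp : Over.mk t ⟶ Over.mk p)).left
  have hι1 : ιA ≫ pullback.fst f g = pullback.fst (ξ ≫ t) g ≫ ι := pullback.lift_fst _ _ _
  have hι2 : ιA ≫ pullback.snd f g = pullback.snd (ξ ≫ t) g := pullback.lift_snd _ _ _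
  have hξ1 : ξA ≫ pullback.fst t g = pullback.fst (ξ ≫ t) g ≫ ξ := pullback.lift_fst _ _ _
  have hξ2 : ξA ≫ pullback.snd t g = pullback.snd (ξ ≫ t) g := pullback.lift_snd _ _ _
  have ha2 : aA ≫ pullback.snd p g = pullback.snd f g := pullback.lift_snd _ _ _
  have hb2 : bA ≫ pullback.snd p g = pullback.snd t g := pullback.lift_snd _ _ _
  obtain ⟨eS, hS₁, hS₂⟩ := exists_tensorIso (R := Γ(Y, ⊤)) (A := AR) (hcf A φ) rfl rfl
  obtain ⟨eU, hU₁, hU₂⟩ := exists_tensorIso (R := Γ(Y, ⊤)) (A := AR)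
    (isPushout_appTop_affine t φ) rfl rfl
  obtain ⟨eW, hW₁, hW₂⟩ := exists_tensorIso (R := Γ(Y, ⊤)) (A := AR)
    (isPushout_appTop_affine (ξ ≫ t) φ) rfl rfl
  have nι : ∀ z, ιA.appTop (eS.hom z) = eW.hom (ιR.toLinearMap.lTensor A z) := fun z =>
    tensorIso_map ιR eS eW hS₁ hS₂ hW₁ hW₂ ιA.appTop
      (by rw [Category.assoc, ← Scheme.Hom.comp_appTop, hι2]) (fun s => by
        rw [← CommRingCat.comp_apply, ← Scheme.Hom.comp_appTop, hι1]
        exact ConcreteCategory.congr_hom (Scheme.Hom.comp_appTop _ _) s) z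
  have nξ : ∀ z, ξA.appTop (eU.hom z) = eW.hom (ξR.toLinearMap.lTensor A z) := fun z =>
    tensorIso_map ξR eU eW hU₁ hU₂ hW₁ hW₂ ξA.appTop
      (by rw [Category.assoc, ← Scheme.Hom.comp_appTop, hξ2]) (fun s => by
        rw [← CommRingCat.comp_apply, ← Scheme.Hom.comp_appTop, hξ1]
        exact ConcreteCategory.congr_hom (Scheme.Hom.comp_appTop _ _) s) z
  let χ : AR ⟶ Γ(pullback p g, ⊤) :=
    (Scheme.ΓSpecIso (CommRingCat.of A)).inv ≫ (pullback.snd p g).appTop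
  have hχa : ∀ c, aA.appTop (χ c) = eS.hom (c ⊗ₜ (1 : Γ(X, ⊤))) := fun c => by
    rw [← CommRingCat.comp_apply, Category.assoc, ← Scheme.Hom.comp_appTop, ha2]
    exact (ConcreteCategory.congr_hom hS₁ c).symm
  have hχb : ∀ c, bA.appTop (χ c) = eU.hom (c ⊗ₜ (1 : Γ(T, ⊤))) := fun c => by
    rw [← CommRingCat.comp_apply, Category.assoc, ← Scheme.Hom.comp_appTop, hb2]
    exact (ConcreteCategory.congr_hom hU₁ c).symm
  have hbS := ConcreteCategory.bijective_of_isIso eS.hom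
  have hbU := ConcreteCategory.bijective_of_isIso eU.hom
  have hbW := ConcreteCategory.bijective_of_isIso eW.hom
  have hw : ιA ≫ aA = ξA ≫ bA := hPA.w
  have key : ∀ (z : A ⊗[Γ(Y, ⊤)] Γ(X, ⊤)) (u : A ⊗[Γ(Y, ⊤)] Γ(T, ⊤)),
      ιA.appTop (eS.hom z) = ξA.appTop (eU.hom u) →
      ∃! c : A, c ⊗ₜ[Γ(Y, ⊤)] (1 : Γ(X, ⊤)) = z ∧ c ⊗ₜ[Γ(Y, ⊤)] (1 : Γ(T, ⊤)) = u := fun z u h => by
    refine EtaleSections.existsUnique_baseChange ιR ξR hξ hE hinjR A z u (hbW.1 ?_)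
    rw [← nι, ← nξ, h]
  haveI : IsIso χ := by
    rw [ConcreteCategory.isIso_iff_bijective]
    refine ⟨fun c c' h => ?_, fun s => ?_⟩
    · have h1 := congrArg aA.appTop h
      rw [hχa, hχa] at h1
      have h2 := congrArg bA.appTop h
      rw [hχb, hχb] at h2
      obtain ⟨_, -, huniq⟩ := key (c ⊗ₜ 1) (c ⊗ₜ 1) (by
        rw [← hχa, ← hχb, ← CommRingCat.comp_apply, ← CommRingCat.comp_apply (bA.appTop),
          ← Scheme.Hom.comp_appTop, ← Scheme.Hom.comp_appTop, hw])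
      exact (huniq c ⟨rfl, rfl⟩).trans (huniq c' ⟨(hbS.1 h1).symm, (hbU.1 h2).symm⟩).symm
    · obtain ⟨z, hz⟩ := hbS.2 (aA.appTop s)
      obtain ⟨u, hu⟩ := hbU.2 (bA.appTop s)
      obtain ⟨c, ⟨hc1, hc2⟩, -⟩ := key z u (by
        rw [hz, hu, ← CommRingCat.comp_apply, ← CommRingCat.comp_apply (bA.appTop),
          ← Scheme.Hom.comp_appTop, ← Scheme.Hom.comp_appTop, hw])
      refine ⟨c, hAext _ _ ?_ ?_⟩
      · show aA.appTop (χ c) = aA.appTop s
        rw [hχa, hc1, hz]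
      · show bA.appTop (χ c) = bA.appTop s
        rw [hχb, hc2, hu]
  refine IsPushout.of_horiz_isIso ⟨?_⟩
  show p.appTop ≫ (pullback.fst p g).appTop = CommRingCat.ofHom φ ≫
    (Scheme.ΓSpecIso (CommRingCat.of A)).inv ≫ (pullback.snd p g).appTop
  rw [← Scheme.Hom.comp_appTop, pullback.condition, Scheme.Hom.comp_appTop,
    appTop_Spec_map_isoSpec_inv, Category.assoc]

end Groth.Agent.H28Pinch
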