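-- Locally free modules on pinchings from gluing data
import Groth.Agent.H28Pinch.GlueModule
import Mathlib.AlgebraicGeometry.Morphisms.Finite
import Mathlib.AlgebraicGeometry.Restrict

/-!
# Existence of glued locally free modules
-/

set_option autoImplicit false
set_option linter.style.haveILetI false

universe u

open AlgebraicGeometry CategoryTheory Limits TopologicalSpace Opposite TensorProduct

namespace Groth.Agent.H28Pinch

variable {X Z Z' X' : Scheme.{u}} {ι : Z ⟶ X} {q : Z ⟶ Z'} {π : X ⟶ X'} {ι' : Z' ⟶ X'}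
  (hw : ι ≫ π = q ≫ ι') {LX : X.Modules} {LZ' : Z'.Modules}
  (σ : (Scheme.Modules.pullback ι).obj LX ≅ (Scheme.Modules.pullback q).obj LZ')
  (hpo : IsPushout (toRS.map ι) (toRS.map q) (toRS.map π) (toRS.map ι'))

variable [IsClosedImmersion ι] [IsClosedImmersion ι'] [IsFinite π]

include hpo in
theorem mem_range_of_eq {x : X} {z' : Z'} (h : π x = ι' z') : ∃ z, ι z = x := by
  obtain ⟨z, hz, -⟩ := Chart.a_eq_b
    (fun O r hr => exists_chartOfPushout hpo O r hr) h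
  exact ⟨z, hz⟩

include hw in
/-- Near a point of the closed part, lifts of the basis form a basis. -/
theorem exists_compat_of_range {n : ℕ} (hLX : FlatMod.IsFinLocFreeOfRank n LX)
    (hpo : IsPushout (toRS.map ι) (toRS.map q) (toRS.map π) (toRS.map ι'))
    (hqZ : Coh.IsQCoh LZ') {V : X'.Opens} (hV : IsAffineOpen V)
    {e : Fin n → Γ(LZ', ι' ⁻¹ᵁ V)} (he : IsBasisOn LZ' e) {z' : Z'} (hz' : ι' z' ∈ V) :
    ∃ (V' : X'.Opens) (h : V' ≤ V), ι' z' ∈ V' ∧ ∃ f : Fin n → Γ(LX, π ⁻¹ᵁ V'), IsBasisOn LX f ∧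
      ∀ j, GCompat hw σ V' (f j) (LZ'.presheaf.map (homOfLE (ι'.preimage_mono h)).op (e j)) := by
  have hqX : Coh.IsQCoh LX := H8Props.FinLocFree.isQCoh_of_isFinLocFree LX fun x =>
    let ⟨U, hU, he⟩ := hLX x
    ⟨U, n, hU, he⟩
  let W := ι ⁻¹ᵁ π ⁻¹ᵁ V
  let LZ := (Scheme.Modules.pullback q).obj LZ'
  let t : Fin n → Γ((Scheme.Modules.pullback ι).obj LX, W) := fun j =>
    σ.inv.app W (LZ.presheaf.map (homOfLE (preimage_le hw V)).op
      (OmegaSh.pullSect q LZ' (ι' ⁻¹ᵁ V) (e j)))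
  choose f hf using fun j => exists_pullSect_eq ι LX hqX (hV.preimage π) (t j)
  have ht : IsBasisOn ((Scheme.Modules.pullback ι).obj LX) t :=
    (((he.pullback q hqZ).mono (preimage_le hw V)).map_iso σ.symm)
  have hgc : ∀ j, GCompat hw σ V (f j) (e j) := fun j => by
    show σ.hom.app W (OmegaSh.pullSect ι LX (π ⁻¹ᵁ V) (f j)) = _
    rw [hf j]
    exact congr($(congrArg (fun k => Scheme.Modules.Hom.app k W) σ.inv_hom_id) _)
  -- the locus where `f` is a basis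
  have hloc : ∀ x : X, π x = ι' z' → ∃ O : X.Opens, x ∈ O ∧ ∃ hO : O ≤ π ⁻¹ᵁ V,
      IsBasisOn LX (fun j => LX.presheaf.map (homOfLE hO).op (f j)) := by
    intro x hx
    obtain ⟨z, rfl⟩ := mem_range_of_eq hpo hx
    obtain ⟨N, hxN, ⟨φ⟩⟩ := hLX (ι z)
    obtain ⟨b₀, hb₀⟩ := exists_isBasisOn_of_chart LX φ
    let U₀ := N ⊓ π ⁻¹ᵁ V
    have hU₀V : U₀ ≤ π ⁻¹ᵁ V := inf_le_right
    have hxV : π (ι z) ∈ V := hx ▸ hz'
    let b : Fin n → Γ(LX, U₀) := fun j => LX.presheaf.map (homOfLE inf_le_left).op (b₀ j)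
    have hb : IsBasisOn LX b := hb₀.mono inf_le_left
    have hex : ∀ j, ∃ c : Fin n → Γ(X, U₀),
        ∑ k, c k • b k = LX.presheaf.map (homOfLE hU₀V).op (f j) := fun j => by
      obtain ⟨c, hc⟩ := (hb U₀ le_rfl).2 (LX.presheaf.map (homOfLE hU₀V).op (f j))
      refine ⟨c, Eq.trans (Finset.sum_congr rfl fun k _ => ?_) hc⟩
      rw [H10Coh.mres_self]
    choose M hM using hex
    let Mz : Matrix (Fin n) (Fin n) Γ(Z, ι ⁻¹ᵁ U₀) := fun j k => ι.app U₀ (M j k)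
    have hdet : IsUnit Mz.det := by
      refine isUnit_det_of_isBasisOn (m := fun k => OmegaSh.pullSect ι LX U₀ (b k))
        (ht.mono (ι.preimage_mono hU₀V)) Mz fun j => ?_
      show ((Scheme.Modules.pullback ι).obj LX).presheaf.map (homOfLE (ι.preimage_mono hU₀V)).op
        (t j) = _
      rw [← hf j, ← OmegaSh.pullSect_map ι LX hU₀V, ← hM j, map_sum]
      exact Finset.sum_congr rfl fun k _ => OmegaSh.pullSect_smul _ _ _ _ _
    let d : Γ(X, U₀) := (Matrix.of M).det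
    have hd : IsUnit (ι.app U₀ d) := by
      have e1 : (ι.app U₀).hom d = Mz.det := by
        rw [RingHom.map_det]
        rfl
      exact e1 ▸ hdet
    have hzd : z ∈ ι ⁻¹ᵁ X.basicOpen d := by
      rw [Scheme.preimage_basicOpen, Scheme.basicOpen_of_isUnit _ hd]
      exact ⟨hxN, hxV⟩
    let O := X.basicOpen d
    refine ⟨O, hzd, (X.basicOpen_le d).trans hU₀V, ?_⟩
    let MO : Matrix (Fin n) (Fin n) Γ(X, O) := fun j k =>
      X.presheaf.map (homOfLE (X.basicOpen_le d)).op (M j k)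
    refine (hb.mono (X.basicOpen_le d)).of_matrix MO (fun j => ?_) ?_
    · have h := congrArg (LX.presheaf.map (homOfLE (X.basicOpen_le d)).op) (hM j)
      rw [H10Coh.mres_mres, map_sum] at h
      rw [← h]
      exact Finset.sum_congr rfl fun k _ => Scheme.Modules.map_smul LX _ _ _
    · have e1 : (X.presheaf.map (homOfLE (X.basicOpen_le d)).op).hom d = MO.det := by
        rw [RingHom.map_det]
        rfl
      exact e1 ▸ RingedSpace.isUnit_res_basicOpen X.toRingedSpace d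
  choose O hxO hOV hOb using hloc
  let Obig : X.Opens := ⨆ p : {x : X // π x = ι' z'}, O p.1 p.2
  obtain ⟨V₁, hzV₁, hV₁⟩ := exists_open_preimage_le π (ι' z') Obig fun x hx =>
    Opens.mem_iSup.2 ⟨⟨x, hx⟩, hxO x hx⟩
  refine ⟨V₁ ⊓ V, inf_le_right, ⟨hzV₁, hz'⟩,
    fun j => LX.presheaf.map (homOfLE (π.preimage_mono inf_le_right)).op (f j), ?_, fun j => ?_⟩
  · refine isBasisOn_of_locally fun x hx => ?_
    obtain ⟨p, hp⟩ := Opens.mem_iSup.1 (hV₁ (show x ∈ π ⁻¹ᵁ V₁ from hx.1))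
    refine ⟨O p.1 p.2, hp, fun W h _ hW => ?_⟩
    have e1 : comb LX (fun j => LX.presheaf.map (homOfLE (π.preimage_mono
          (inf_le_right : V₁ ⊓ V ≤ V))).op (f j)) h =
        comb LX (fun j => LX.presheaf.map (homOfLE (hOV p.1 p.2)).op (f j)) hW :=
      funext fun c => Finset.sum_congr rfl fun j _ => congrArg _
        ((H10Coh.mres_mres LX _ _ _).trans (H10Coh.mres_mres LX _ _ _).symm)
    rw [e1]
    exact hOb p.1 p.2 W hW
  · have h := congrArg (((Scheme.Modules.pullback q).obj LZ').presheaf.map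
      (homOfLE (ι.preimage_mono (π.preimage_mono (inf_le_right : V₁ ⊓ V ≤ V)))).op) (hgc j)
    rw [← H11Tilde.app_map_apply, H10Coh.mres_mres] at h
    unfold GCompat
    rw [OmegaSh.pullSect_map ι LX (π.preimage_mono (inf_le_right : V₁ ⊓ V ≤ V)), h,
      OmegaSh.pullSect_map q LZ' (ι'.preimage_mono (inf_le_right : V₁ ⊓ V ≤ V)),
      H10Coh.mres_mres]

include hw hpo in
/-- Every point has compatible bases near it. -/
theorem exists_compat_bases {n : ℕ} (hLX : FlatMod.IsFinLocFreeOfRank n LX)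
    (hLZ' : FlatMod.IsFinLocFreeOfRank n LZ') (U : X'.Opens)
    (hU : (U : Set X') = (Set.range ι'.base)ᶜ) (hiso : IsIso (π ∣_ U)) (x' : X') :
    ∃ V : X'.Opens, x' ∈ V ∧ ∃ (f : Fin n → Γ(LX, π ⁻¹ᵁ V)) (e : Fin n → Γ(LZ', ι' ⁻¹ᵁ V)),
      IsBasisOn LX f ∧ IsBasisOn LZ' e ∧ ∀ j, GCompat hw σ V (f j) (e j) := by
  have hqZ : Coh.IsQCoh LZ' := H8Props.FinLocFree.isQCoh_of_isFinLocFree LZ' fun x =>
    let ⟨O, hO, he⟩ := hLZ' x
    ⟨O, n, hO, he⟩
  by_cases hx' : x' ∈ Set.range ι'.base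
  · obtain ⟨z', rfl⟩ := hx'
    obtain ⟨O, hzO, ⟨φ⟩⟩ := hLZ' z'
    obtain ⟨G, hG, hGO⟩ := ι'.isClosedEmbedding.isInducing.isOpen_iff.1 O.isOpen
    let G' : X'.Opens := ⟨G, hG⟩
    have hGle : ι' ⁻¹ᵁ G' ≤ O := fun y hy => hGO.le hy
    have hzG : ι' z' ∈ G' := hGO.ge hzO
    obtain ⟨_, ⟨V, hV : IsAffineOpen V, rfl⟩, hzV, hle : V ≤ G'⟩ :=
      X'.isBasis_affineOpens.exists_subset_of_mem_open hzG G'.isOpen
    obtain ⟨e₀, he₀⟩ := exists_isBasisOn_of_chart LZ' φ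
    have hVO : ι' ⁻¹ᵁ V ≤ O := (ι'.preimage_mono hle).trans hGle
    obtain ⟨V', h, hz, f, hf, hc⟩ :=
      exists_compat_of_range hw σ hLX hpo hqZ hV (he₀.mono hVO) hzV
    exact ⟨V', hz, f, _, hf, (he₀.mono hVO).mono (ι'.preimage_mono h), hc⟩
  · have hxU : x' ∈ U := by
      rw [← SetLike.mem_coe, hU]
      exact hx'
    have hinj : ∀ a a' : X, π a = x' → π a' = x' → a = a' := fun a a' ha ha' => by
      have h := (π ∣_ U).homeomorph.injective (a₁ := ⟨a, show π a ∈ U from ha ▸ hxU⟩)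
        (a₂ := ⟨a', show π a' ∈ U from ha' ▸ hxU⟩) (Subtype.ext (by
          show ((π ∣_ U) _).1 = ((π ∣_ U) _).1
          simp only [morphismRestrict_base]
          exact ha.trans ha'.symm))
      exact congrArg Subtype.val h
    have hempty : ∀ W : X'.Opens, W ≤ U → ∀ z : Z', z ∉ ι' ⁻¹ᵁ W := fun W hW z hz =>
      (hU.le (hW hz)) ⟨z, rfl⟩
    have key : ∀ (V : X'.Opens) (hV : V ≤ U) (f : Fin n → Γ(LX, π ⁻¹ᵁ V)), IsBasisOn LX f →
        ∀ j, GCompat hw σ V (f j) ((fun _ => 0 : Fin n → Γ(LZ', ι' ⁻¹ᵁ V)) j) := fun V hV f _ j =>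
      TopCat.Sheaf.eq_of_locally_eq' (H10Coh.sheafOf _) (fun i : PEmpty.{u + 1} => i.elim)
        (ι ⁻¹ᵁ π ⁻¹ᵁ V) (fun i => i.elim)
        (fun z hz => (hempty V hV (q z) (preimage_le hw V hz)).elim) _ _ fun i => i.elim
    by_cases hne : ∃ a, π a = x'
    · obtain ⟨a, ha⟩ := hne
      obtain ⟨N, haN, ⟨φ⟩⟩ := hLX a
      obtain ⟨f₀, hf₀⟩ := exists_isBasisOn_of_chart LX φ
      obtain ⟨V, hxV, hVN⟩ := exists_open_preimage_le π x' N fun b hb => hinj a b ha hb ▸ haN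
      have hle : π ⁻¹ᵁ (V ⊓ U) ≤ N := (π.preimage_mono inf_le_left).trans hVN
      exact ⟨V ⊓ U, ⟨hxV, hxU⟩, _, fun _ => 0, hf₀.mono hle,
        isBasisOn_of_empty (hempty _ inf_le_right) _,
        key _ inf_le_right _ (hf₀.mono hle)⟩
    · obtain ⟨V, hxV, hVN⟩ := exists_open_preimage_le π x' (⊥ : X.Opens) fun b hb =>
        absurd ⟨b, hb⟩ hne
      have hb : ∀ b, b ∉ π ⁻¹ᵁ (V ⊓ U) := fun b hb => hVN (show b ∈ π ⁻¹ᵁ V from hb.1)
      exact ⟨V ⊓ U, ⟨hxV, hxU⟩, fun _ => 0, fun _ => 0, isBasisOn_of_empty hb _,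
        isBasisOn_of_empty (hempty _ inf_le_right) _,
        key _ inf_le_right _ (isBasisOn_of_empty hb _)⟩

include hw hpo in
/-- A gluing datum comes from a locally free module. -/
theorem exists_glued_module {n : ℕ} (hLX : FlatMod.IsFinLocFreeOfRank n LX)
    (hLZ' : FlatMod.IsFinLocFreeOfRank n LZ') (U : X'.Opens)
    (hU : (U : Set X') = (Set.range ι'.base)ᶜ) (hiso : IsIso (π ∣_ U)) :
    ∃ (M : X'.Modules) (eX : (Scheme.Modules.pullback π).obj M ≅ LX)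
      (eZ' : (Scheme.Modules.pullback ι').obj M ≅ LZ'),
      FlatMod.IsFinLocFreeOfRank n M ∧
        xi hw M ≪≫ (Scheme.Modules.pullback q).mapIso eZ' =
          (Scheme.Modules.pullback ι).mapIso eX ≪≫ σ := by
  let M := glueMod hw σ
  have hqZ : Coh.IsQCoh LZ' := H8Props.FinLocFree.isQCoh_of_isFinLocFree LZ' fun x =>
    let ⟨O, hO, he⟩ := hLZ' x
    ⟨O, n, hO, he⟩
  choose V hxV f e hf he hfe using exists_compat_bases hw σ hpo hLX hLZ' U hU hiso
  choose m hm hmX hmY using fun x => exists_basis_glue hw σ hpo hqZ (hf x) (he x) (hfe x)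
  have hM : FlatMod.IsFinLocFreeOfRank n M := fun x =>
    ⟨V x, hxV x, nonempty_chart_of_isBasisOn (hm x)⟩
  have hqM : Coh.IsQCoh M := H8Props.FinLocFree.isQCoh_of_isFinLocFree M fun x =>
    let ⟨O, hO, he⟩ := hM x
    ⟨O, n, hO, he⟩
  let aX := ((Scheme.Modules.pullbackPushforwardAdjunction π).homEquiv M LX).symm (glueX hw σ)
  let aY := ((Scheme.Modules.pullbackPushforwardAdjunction ι').homEquiv M LZ').symm (glueY hw σ)
  haveI : IsIso aX := isIso_of_bases aX fun x => by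
    refine ⟨π ⁻¹ᵁ V (π x), n, _, hxV (π x), (hm (π x)).pullback π hqM, ?_⟩
    have e1 : (fun j => aX.app (π ⁻¹ᵁ V (π x)) (OmegaSh.pullSect π M (V (π x)) (m (π x) j))) =
        f (π x) := funext fun j => (homEquiv_symm_pullSect π _ _ _).trans (hmX _ j)
    exact e1.symm ▸ hf (π x)
  haveI : IsIso aY := isIso_of_bases aY fun x => by
    refine ⟨ι' ⁻¹ᵁ V (ι' x), n, _, hxV (ι' x), (hm (ι' x)).pullback ι' hqM, ?_⟩
    have e1 : (fun j => aY.app (ι' ⁻¹ᵁ V (ι' x)) (OmegaSh.pullSect ι' M (V (ι' x)) (m (ι' x) j))) =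
        e (ι' x) := funext fun j => (homEquiv_symm_pullSect ι' _ _ _).trans (hmY _ j)
    exact e1.symm ▸ he (ι' x)
  refine ⟨M, asIso aX, asIso aY, hM, Iso.ext (pullback_hom_ext₂ ι π fun W s => ?_)⟩
  simp only [Iso.trans_hom, Functor.mapIso_hom, asIso_hom, Scheme.Modules.Hom.comp_app,
    ConcreteCategory.comp_apply]
  rw [← H17.PullSect.pullSect_natural, homEquiv_symm_pullSect, xi_pullSect,
    H11Tilde.app_map_apply, ← H17.PullSect.pullSect_natural, homEquiv_symm_pullSect]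
  exact (gcompat_glue hw σ W s).symm

end Groth.Agent.H28Pinch
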