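import Groth.Agent.H8Props.FlatKernel
import Groth.Prelude.Def_EtMil
import Mathlib.RingTheory.TensorProduct.Maps

/-!
# Fibre squares of flat algebras
-/

namespace Groth.Agent.H28Pinch

open TensorProduct

universe u

variable {R B' B A' A : Type u} [CommRing R] [CommRing B'] [CommRing B] [CommRing A'] [CommRing A]
    [Algebra B' B] [Algebra B' A'] [Algebra B A] [Algebra A' A] [Algebra B' A]
    [IsScalarTower B' B A] [IsScalarTower B' A' A]
    [Algebra R B'] [Algebra R B] [Algebra R A'] [Algebra R A]
    [IsScalarTower R B' B] [IsScalarTower R B' A'] [IsScalarTower R B' A] [IsScalarTower R B A] [IsScalarTower R A' A]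

variable (R B' B A' A) in
/-- `B' → B × A'`. -/
def incl : B' →ₗ[R] B × A' :=
  (IsScalarTower.toAlgHom R B' B).toLinearMap.prod (IsScalarTower.toAlgHom R B' A').toLinearMap

variable (R B A' A) in
/-- The difference map `B × A' → A`. -/
def diff : B × A' →ₗ[R] A :=
  (IsScalarTower.toAlgHom R B A).toLinearMap ∘ₗ LinearMap.fst R B A' -
    (IsScalarTower.toAlgHom R A' A).toLinearMap ∘ₗ LinearMap.snd R B A'

variable (hsq : EtMil.IsFibreSquare B' B A' A)

include hsq in
lemma props : Function.Injective (incl R B' B A') ∧ Function.Exact (incl R B' B A') (diff R B A' A) ∧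
    Function.Surjective (diff R B A' A) := by
  refine ⟨fun u v h => ?_, fun z => ⟨fun hz => ?_, ?_⟩, fun a => ?_⟩
  · obtain ⟨w, -, hu⟩ := hsq.2 (algebraMap B' B u) (algebraMap B' A' u)
      (by rw [← IsScalarTower.algebraMap_apply, ← IsScalarTower.algebraMap_apply])
    rw [hu u ⟨rfl, rfl⟩, hu v ⟨(congrArg Prod.fst h).symm, (congrArg Prod.snd h).symm⟩]
  · have hz' : algebraMap B A z.1 = algebraMap A' A z.2 := by simpa [diff, sub_eq_zero] using hz
    obtain ⟨w, ⟨h1, h2⟩, -⟩ := hsq.2 z.1 z.2 hz'
    exact ⟨w, Prod.ext h1 h2⟩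
  · rintro ⟨w, rfl⟩
    simp [diff, incl, ← IsScalarTower.algebraMap_apply]
  · obtain ⟨a', ha'⟩ := hsq.1 a
    exact ⟨(0, -a'), by simp [diff, ha']⟩

include hsq in
theorem flat_corner [Module.Flat R B] [Module.Flat R A'] [Module.Flat R A] : Module.Flat R B' := by
  obtain ⟨h1, h2, h3⟩ := props (R := R) hsq
  exact H8Props.flat_of_exact _ _ h1 h2 h3

lemma map_eq_lTensor {M N : Type u} [CommRing M] [CommRing N] [Algebra R M] [Algebra R N]
    (R' : Type u) [CommRing R'] [Algebra R R'] (h : M →ₐ[R] N) (z : R' ⊗[R] M) :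
    Algebra.TensorProduct.map (AlgHom.id R R') h z = LinearMap.lTensor R' h.toLinearMap z := by
  induction z using TensorProduct.induction_on with
  | zero => rw [map_zero, map_zero]
  | tmul a b => simp
  | add a b ha hb => rw [map_add, map_add, ha, hb]

include hsq in
theorem baseChange [Module.Flat R A] (R' : Type u) [CommRing R'] [Algebra R R'] :
    Function.Surjective (Algebra.TensorProduct.map (AlgHom.id R R') (IsScalarTower.toAlgHom R A' A)) ∧
    ∀ (x : R' ⊗[R] B) (y : R' ⊗[R] A'),
      Algebra.TensorProduct.map (AlgHom.id R R') (IsScalarTower.toAlgHom R B A) x =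
        Algebra.TensorProduct.map (AlgHom.id R R') (IsScalarTower.toAlgHom R A' A) y →
      ∃! z : R' ⊗[R] B',
        Algebra.TensorProduct.map (AlgHom.id R R') (IsScalarTower.toAlgHom R B' B) z = x ∧
        Algebra.TensorProduct.map (AlgHom.id R R') (IsScalarTower.toAlgHom R B' A') z = y := by
  obtain ⟨h1, h2, h3⟩ := props (R := R) hsq
  simp only [map_eq_lTensor]
  refine ⟨LinearMap.lTensor_surjective R' hsq.1, fun x y hxy => ?_⟩
  let e := TensorProduct.prodRight R R R' B A'
  have he : ∀ z, e (LinearMap.lTensor R' (incl R B' B A') z) =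
      (LinearMap.lTensor R' (IsScalarTower.toAlgHom R B' B).toLinearMap z,
        LinearMap.lTensor R' (IsScalarTower.toAlgHom R B' A').toLinearMap z) := fun z => by
    induction z using TensorProduct.induction_on with
    | zero => simp only [map_zero]; rfl
    | tmul a b => simp [e, incl]
    | add a b ha hb => simp only [map_add, ha, hb, Prod.mk_add_mk]
  have hd : ∀ w, LinearMap.lTensor R' (diff R B A' A) w =
      LinearMap.lTensor R' (IsScalarTower.toAlgHom R B A).toLinearMap (e w).1 -
        LinearMap.lTensor R' (IsScalarTower.toAlgHom R A' A).toLinearMap (e w).2 := fun w => by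
    induction w using TensorProduct.induction_on with
    | zero => simp
    | tmul a b => simp [e, diff, TensorProduct.tmul_sub]
    | add a b ha hb => simp only [map_add, ha, hb, Prod.fst_add, Prod.snd_add]; abel
  obtain ⟨z, hz⟩ := (lTensor_exact R' h2 h3 (e.symm (x, y))).1 (by rw [hd, e.apply_symm_apply, hxy, sub_self])
  refine ⟨z, ?_, fun w hw => ?_⟩
  · have := he z
    rw [hz, e.apply_symm_apply, Prod.mk.injEq] at this
    exact ⟨this.1.symm, this.2.symm⟩
  · refine LinearMap.lTensor_injective_of_exact_of_flat _ h3 _ h1 h2 R' (e.injective ?_)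
    rw [he, hz, e.apply_symm_apply, hw.1, hw.2]

end Groth.Agent.H28Pinch
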