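import Groth.Agent.S9821
import Groth.Agent.H22Alg.AffineImage

/-!
# Going down along integral dominant morphisms to normal schemes
-/

set_option autoImplicit false
set_option linter.style.haveILetI false
universe u

open CategoryTheory CategoryTheory.Limits AlgebraicGeometry TopologicalSpace

namespace Groth.Agent.H28Pinch

/-- Generalizations lift along a surjective integral morphism from an integral scheme to a normal one. -/
theorem exists_lift_generalization {X Y : Scheme.{u}} [IsIntegral X] [IsIntegral Y] (f : X ⟶ Y) [IsIntegralHom f]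
    [Surjective f] (hY : ∀ y : Y, IsIntegrallyClosed (Y.presheaf.stalk y)) {x : X} {z : Y} (h : z ⤳ f x) :
    ∃ w : X, w ⤳ x ∧ f w = z := by
  have hη : f (genericPoint X) = genericPoint Y :=
    ((genericPoint_spec X).image f.continuous).eq (by
      simpa [Set.image_univ, f.surjective.range_eq] using genericPoint_spec Y)
  obtain ⟨W, hW, hxW, -⟩ := exists_isAffineOpen_mem_and_subset (U := (⊤ : Y.Opens)) (x := f x) trivial
  haveI : Nonempty W := ⟨⟨_, hxW⟩⟩
  haveI : Nonempty (f ⁻¹ᵁ W : X.Opens) := ⟨⟨x, hxW⟩⟩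
  have hzW : z ∈ W := h.mem_open W.2 hxW
  have hV := hW.preimage f
  haveI : IsIntegrallyClosed Γ(Y, W) := (S9821.result Y).1 (fun y => ⟨inferInstance, hY y⟩) W hW
  letI := (f.app W).hom.toAlgebra
  haveI : Algebra.IsIntegral Γ(Y, W) Γ(X, f ⁻¹ᵁ W) := ⟨f.isIntegral_app W hW⟩
  haveI : FaithfulSMul Γ(Y, W) Γ(X, f ⁻¹ᵁ W) :=
    (faithfulSMul_iff_algebraMap_injective _ _).2 (H22Alg.AffineImage.app_injective f hη ⟨_, hxW⟩)
  have key : GeneralizingMap (PrimeSpectrum.comap (f.app W).hom) :=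
    Algebra.HasGoingDown.iff_generalizingMap_primeSpectrumComap.1 inferInstance
  have hcomp : ∀ P : PrimeSpectrum Γ(X, f ⁻¹ᵁ W),
      f (hV.fromSpec P) = hW.fromSpec (PrimeSpectrum.comap (f.app W).hom P) := fun P => by
    have e := congr($(IsAffineOpen.SpecMap_appLE_fromSpec f hW hV le_rfl) P)
    simp only [← Scheme.Hom.app_eq_appLE] at e
    exact e.symm
  let P := hV.primeIdealOf ⟨x, hxW⟩
  let q := hW.primeIdealOf ⟨z, hzW⟩
  have hP : hV.fromSpec P = x := hV.fromSpec_primeIdealOf ⟨x, hxW⟩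
  have hq : hW.fromSpec q = z := hW.fromSpec_primeIdealOf ⟨z, hzW⟩
  have hle : q ⤳ PrimeSpectrum.comap (f.app W).hom P := by
    refine (hW.fromSpec.isEmbedding.isInducing.specializes_iff).1 ?_
    rw [← hcomp, hq, hP]
    exact h
  obtain ⟨Q, hQ, hQ'⟩ := key hle
  refine ⟨hV.fromSpec Q, hP ▸ hQ.map hV.fromSpec.continuous, ?_⟩
  rw [hcomp, hQ', hq]

end Groth.Agent.H28Pinch
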