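import Mathlib.RingTheory.AdjoinRoot
import Mathlib.Algebra.MvPolynomial.Derivation
import Mathlib.Algebra.MvPolynomial.PDeriv
import Mathlib.Algebra.MvPolynomial.Division
import Mathlib.RingTheory.Derivation.Basic
import Mathlib.RingTheory.MvPolynomial.Basic
import Mathlib.Algebra.Polynomial.Expand
import Mathlib.RingTheory.Ideal.Colon
import Mathlib.RingTheory.Polynomial.Basic
import Mathlib.Tactic.LinearCombination

/-!
# The pinch point
-/

namespace Groth.Agent.H28Pinch

universe u

open MvPolynomial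

section chart

variable (B : Type u) [CommRing B] (b : B)

local notation "B'" => AdjoinRoot (Polynomial.X ^ 2 - Polynomial.C b)
local notation "z" => AdjoinRoot.root (Polynomial.X ^ 2 - Polynomial.C b)
local notation "ι" => algebraMap B (AdjoinRoot (Polynomial.X ^ 2 - Polynomial.C b))

lemma repr_exists (g : B') : ∃ α β : B, g = ι α + ι β * z := by
  obtain ⟨p, rfl⟩ := AdjoinRoot.mk_surjective g
  induction p using Polynomial.induction_on with
  | C a => exact ⟨a, 0, by simp⟩
  | add p q hp hq =>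
    obtain ⟨a, c, e⟩ := hp
    obtain ⟨a', c', e'⟩ := hq
    exact ⟨a + a', c + c', by rw [map_add, e, e', map_add, map_add]; ring⟩
  | monomial n a h =>
    obtain ⟨a', c, e⟩ := h
    refine ⟨c * b, a', ?_⟩
    rw [show Polynomial.C a * Polynomial.X ^ (n + 1) = Polynomial.C a * Polynomial.X ^ n * Polynomial.X by ring, map_mul, e, AdjoinRoot.mk_X, map_mul]
    have hz : z ^ 2 = ι b := by
      rw [← sub_eq_zero, ← AdjoinRoot.mk_X, ← map_pow, AdjoinRoot.algebraMap_eq, ← AdjoinRoot.mk_C, ← map_sub]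
      exact AdjoinRoot.mk_self
    linear_combination (ι c) * hz

lemma repr_unique (α β : B) (h : ι α + ι β * z = 0) : α = 0 ∧ β = 0 := by
  nontriviality B
  have hm : (Polynomial.X ^ 2 - Polynomial.C b).Monic := Polynomial.monic_X_pow_sub_C b (by norm_num)
  have hd : Polynomial.X ^ 2 - Polynomial.C b ∣ Polynomial.C β * Polynomial.X + Polynomial.C α := by
    rw [← AdjoinRoot.mk_eq_zero, map_add, map_mul, AdjoinRoot.mk_C, AdjoinRoot.mk_C, AdjoinRoot.mk_X,
      ← AdjoinRoot.algebraMap_eq, add_comm]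
    exact h
  have h0 : Polynomial.C β * Polynomial.X + Polynomial.C α = 0 := by
    by_contra hne
    refine hm.not_dvd_of_degree_lt hne ?_ hd
    rw [Polynomial.degree_X_pow_sub_C (by norm_num)]
    exact Polynomial.degree_linear_le.trans_lt (by norm_num)
  exact ⟨by simpa using congrArg (fun p => Polynomial.coeff p 0) h0,
    by simpa using congrArg (fun p => Polynomial.coeff p 1) h0⟩

theorem chart :
    letI Ψ : MvPolynomial (Fin 2) B →ₐ[B] Polynomial (AdjoinRoot (Polynomial.X ^ 2 - Polynomial.C b)) :=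
      MvPolynomial.aeval
        ![Polynomial.C (AdjoinRoot.root (Polynomial.X ^ 2 - Polynomial.C b)) * Polynomial.X, Polynomial.X]
    RingHom.ker Ψ.toRingHom =
        Ideal.span {MvPolynomial.X 0 ^ 2 - MvPolynomial.C b * MvPolynomial.X 1 ^ 2} ∧
      ∀ G : Polynomial (AdjoinRoot (Polynomial.X ^ 2 - Polynomial.C b)),
        (∃ c : B, G.coeff 0 = algebraMap B (AdjoinRoot (Polynomial.X ^ 2 - Polynomial.C b)) c) →
          G ∈ Ψ.range := by
  let Ψ : MvPolynomial (Fin 2) B →ₐ[B] Polynomial B' := aeval ![Polynomial.C z * Polynomial.X, Polynomial.X]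
  show RingHom.ker Ψ.toRingHom = _ ∧ _
  set h : MvPolynomial (Fin 2) B := X 0 ^ 2 - C b * X 1 ^ 2
  have hz : z ^ 2 = ι b := by
    rw [← sub_eq_zero, ← AdjoinRoot.mk_X, ← map_pow, AdjoinRoot.algebraMap_eq, ← AdjoinRoot.mk_C, ← map_sub]
    exact AdjoinRoot.mk_self
  have e0 : Ψ (X 0) = Polynomial.C z * Polynomial.X := by simp [Ψ]
  have e1 : Ψ (X 1) = Polynomial.X := by simp [Ψ]
  have hΨh : Ψ h = 0 := by
    simp only [h, map_sub, map_mul, map_pow, e0, e1, MvPolynomial.algHom_C, Polynomial.algebraMap_apply]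
    rw [mul_pow, ← map_pow, hz, sub_self]
  let v : Polynomial B → MvPolynomial (Fin 2) B := fun P => Polynomial.aeval (X 1) P
  have hred : ∀ G, ∃ P Q : Polynomial B, G - (v P + X 0 * v Q) ∈ Ideal.span {h} := by
    intro G
    induction G using MvPolynomial.induction_on with
    | C a => exact ⟨Polynomial.C a, 0, by simp [v]⟩
    | add p q hp hq =>
      obtain ⟨P, Q, e⟩ := hp
      obtain ⟨P', Q', e'⟩ := hq
      refine ⟨P + P', Q + Q', ?_⟩
      convert Ideal.add_mem _ e e' using 1
      simp only [v, map_add]; ring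
    | mul_X p i hp =>
      obtain ⟨P, Q, e⟩ := hp
      fin_cases i
      · refine ⟨Polynomial.C b * Polynomial.X ^ 2 * Q, P, ?_⟩
        convert Ideal.add_mem _ (Ideal.mul_mem_right (X 0) _ e) (Ideal.mul_mem_right (v Q) _ (Ideal.mem_span_singleton_self h)) using 1
        simp [v, h]; ring
      · refine ⟨Polynomial.X * P, Polynomial.X * Q, ?_⟩
        convert Ideal.mul_mem_right (X 1) _ e using 1
        simp [v]; ring
  have hv : ∀ P : Polynomial B, Ψ (v P) = P.map ι := fun P => by
    show Ψ (Polynomial.aeval (X 1) P) = _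
    rw [← Polynomial.aeval_algHom_apply, e1]
    induction P using Polynomial.induction_on' with
    | add p q hp hq => rw [map_add, Polynomial.map_add, hp, hq]
    | monomial n a => simp [Polynomial.map_monomial, ← Polynomial.C_mul_X_pow_eq_monomial, Polynomial.algebraMap_apply]
  refine ⟨le_antisymm (fun G hG => ?_) ?_, fun G hG => ?_⟩
  · obtain ⟨P, Q, e⟩ := hred G
    obtain ⟨c, hc⟩ := Ideal.mem_span_singleton.1 e
    have h0 : Ψ (v P + X 0 * v Q) = 0 := by
      rw [show v P + X 0 * v Q = G - h * c by linear_combination -hc, map_sub, map_mul, hΨh, zero_mul,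
        sub_zero]
      exact hG
    rw [map_add, map_mul, e0, hv, hv] at h0
    have hP : P = 0 ∧ Q = 0 := by
      have hc0 : ∀ n, P.coeff n = 0 ∧ (Polynomial.X * Q).coeff n = 0 := fun n => by
        refine repr_unique B b _ _ ?_
        have := congrArg (fun p => Polynomial.coeff p n) h0
        simp only [Polynomial.coeff_add, Polynomial.coeff_map, Polynomial.coeff_zero] at this
        rw [mul_assoc, ← Polynomial.map_X ι, ← Polynomial.map_mul, Polynomial.coeff_C_mul,
          Polynomial.coeff_map] at this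
        linear_combination this
      exact ⟨Polynomial.ext fun n => by simpa using (hc0 n).1, Polynomial.ext fun n => by simpa using (hc0 (n + 1)).2⟩
    rw [hP.1, hP.2] at e
    simpa [v] using e
  · rw [Ideal.span_singleton_le_iff_mem]; exact hΨh
  · rw [G.as_sum_range_C_mul_X_pow]
    refine sum_mem fun n _ => ?_
    obtain ⟨α, β, e⟩ := repr_exists B b (G.coeff n)
    cases n with
    | zero =>
      obtain ⟨c, hc⟩ := hG
      exact ⟨C c, by simp [hc, Polynomial.algebraMap_apply]⟩
    | succ n =>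
      refine ⟨C α * X 1 ^ (n + 1) + C β * (X 0 * X 1 ^ n), ?_⟩
      show Ψ _ = _
      rw [e]
      simp only [map_add, map_mul, map_pow, e0, e1, MvPolynomial.algHom_C, Polynomial.algebraMap_apply]
      ring

end chart

variable {K : Type u} [Field K] [NeZero (2 : K)]

lemma two_unit : IsUnit (2 : MvPolynomial (Fin 2) K) := by
  simpa [map_ofNat] using (Ne.isUnit (NeZero.ne (2 : K))).map (C (σ := Fin 2))

omit [NeZero (2 : K)] in
/-- Membership in the coordinate ring of the pinch point. -/
lemma y_mul_mem (s : MvPolynomial (Fin 2) K) :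
    X 1 * s ∈ Algebra.adjoin K ({X 0 ^ 2, X 0 * X 1, X 1} : Set (MvPolynomial (Fin 2) K)) ∧
      X 0 * X 1 * s ∈ Algebra.adjoin K ({X 0 ^ 2, X 0 * X 1, X 1} : Set (MvPolynomial (Fin 2) K)) := by
  set R := Algebra.adjoin K ({X 0 ^ 2, X 0 * X 1, X 1} : Set (MvPolynomial (Fin 2) K))
  have hx2 : (X 0 ^ 2 : MvPolynomial (Fin 2) K) ∈ R := Algebra.subset_adjoin (by simp)
  have hxy : (X 0 * X 1 : MvPolynomial (Fin 2) K) ∈ R := Algebra.subset_adjoin (by simp)
  have hy : (X 1 : MvPolynomial (Fin 2) K) ∈ R := Algebra.subset_adjoin (by simp)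
  induction s using MvPolynomial.induction_on with
  | C a => exact ⟨mul_mem hy (R.algebraMap_mem a), mul_mem hxy (R.algebraMap_mem a)⟩
  | add p q hp hq => exact ⟨by rw [mul_add]; exact add_mem hp.1 hq.1, by rw [mul_add]; exact add_mem hp.2 hq.2⟩
  | mul_X p i hp =>
    fin_cases i
    · refine ⟨?_, ?_⟩
      · convert hp.2 using 1; simp; ring
      · convert mul_mem hx2 hp.1 using 1; simp; ring
    · refine ⟨?_, ?_⟩
      · convert mul_mem hy hp.1 using 1; simp; ring
      · convert mul_mem hy hp.2 using 1; simp; ring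

omit [NeZero (2 : K)] in
lemma mem_R_iff (f : MvPolynomial (Fin 2) K) :
    f ∈ Algebra.adjoin K ({X 0 ^ 2, X 0 * X 1, X 1} : Set (MvPolynomial (Fin 2) K)) ↔
      ∃ (s : MvPolynomial (Fin 2) K) (p : Polynomial K), f = X 1 * s + Polynomial.aeval (X 0 ^ 2) p := by
  constructor
  · intro hf
    induction hf using Algebra.adjoin_induction with
    | mem x hx =>
      simp only [Set.mem_insert_iff, Set.mem_singleton_iff] at hx
      rcases hx with rfl | rfl | rfl
      · exact ⟨0, Polynomial.X, by simp⟩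
      · exact ⟨X 0, 0, by simp [mul_comm]⟩
      · exact ⟨1, 0, by simp⟩
    | algebraMap r => exact ⟨0, Polynomial.C r, by simp⟩
    | add x y _ _ hx hy =>
      obtain ⟨s, p, rfl⟩ := hx
      obtain ⟨s', p', rfl⟩ := hy
      exact ⟨s + s', p + p', by rw [map_add]; ring⟩
    | mul x y _ _ hx hy =>
      obtain ⟨s, p, rfl⟩ := hx
      obtain ⟨s', p', rfl⟩ := hy
      exact ⟨s * (X 1 * s') + s * Polynomial.aeval (X 0 ^ 2) p' + Polynomial.aeval (X 0 ^ 2) p * s', p * p',
        by rw [map_mul]; ring⟩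
  · rintro ⟨s, p, rfl⟩
    refine add_mem (y_mul_mem s).1 ?_
    exact Algebra.adjoin_mono (by simp) (Polynomial.aeval_mem_adjoin_singleton K _)

omit [NeZero (2 : K)] in
lemma split_y (f : MvPolynomial (Fin 2) K) :
    ∃ (s : MvPolynomial (Fin 2) K) (q : Polynomial K), f = X 1 * s + Polynomial.aeval (X 0) q := by
  induction f using MvPolynomial.induction_on with
  | C a => exact ⟨0, Polynomial.C a, by simp⟩
  | add p q hp hq =>
    obtain ⟨s, r, rfl⟩ := hp
    obtain ⟨s', r', rfl⟩ := hq
    exact ⟨s + s', r + r', by rw [map_add]; ring⟩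
  | mul_X p i hp =>
    obtain ⟨s, r, rfl⟩ := hp
    fin_cases i
    · exact ⟨s * X 0, r * Polynomial.X, by simp; ring⟩
    · exact ⟨X 1 * s + Polynomial.aeval (X 0) r, 0, by simp; ring⟩

theorem derivation_iff (D : Derivation K (MvPolynomial (Fin 2) K) (MvPolynomial (Fin 2) K)) :
    letI x : MvPolynomial (Fin 2) K := MvPolynomial.X 0
    letI y : MvPolynomial (Fin 2) K := MvPolynomial.X 1
    letI R : Subalgebra K (MvPolynomial (Fin 2) K) := Algebra.adjoin K {x ^ 2, x * y, y}
    (∀ r ∈ R, D r ∈ R) ↔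
      (D y ∈ Ideal.span {y} ∧
        ∃ (s : MvPolynomial (Fin 2) K) (p : Polynomial K), D x = y * s + x * Polynomial.aeval (x ^ 2) p) := by
  set x : MvPolynomial (Fin 2) K := X 0
  set y : MvPolynomial (Fin 2) K := X 1
  show (∀ r ∈ Algebra.adjoin K {x ^ 2, x * y, y}, D r ∈ Algebra.adjoin K {x ^ 2, x * y, y}) ↔ _
  set R := Algebra.adjoin K {x ^ 2, x * y, y}
  let σ : MvPolynomial (Fin 2) K →ₐ[K] Polynomial K := aeval ![Polynomial.X, 0]
  have σx : σ x = Polynomial.X := by simp [σ, x]
  have σy : σ y = 0 := by simp [σ, y]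
  have σa : ∀ p : Polynomial K, σ (Polynomial.aeval (x ^ 2) p) = Polynomial.expand K 2 p := fun p => by
    rw [← Polynomial.aeval_algHom_apply, map_pow, σx, Polynomial.expand_eq_comp_X_pow, ← Polynomial.aeval_X_left_apply (p.comp _)]
    simp [Polynomial.comp_eq_aeval]
  have σb : ∀ p : Polynomial K, σ (Polynomial.aeval x p) = p := fun p => by
    rw [← Polynomial.aeval_algHom_apply, σx, Polynomial.aeval_X_left_apply]
  constructor
  · intro h
    have hy : y ∈ R := Algebra.subset_adjoin (by simp)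
    obtain ⟨s₁, P, e₁⟩ : ∃ s P, D y = y * s + Polynomial.aeval (x ^ 2) P := (mem_R_iff _).1 (h y hy)
    obtain ⟨s₂, E₂, e₂⟩ : ∃ s P, D (x * y) = y * s + Polynomial.aeval (x ^ 2) P := (mem_R_iff _).1 (h (x * y) (Algebra.subset_adjoin (by simp)))
    have hP : P = 0 := by
      rw [Derivation.leibniz, smul_eq_mul, smul_eq_mul, e₁] at e₂
      have e' := congrArg σ e₂
      simp only [map_add, map_mul, σx, σy, σa, zero_mul, zero_add, add_zero] at e'
      refine Polynomial.ext fun k => ?_
      have := congrArg (fun p => Polynomial.coeff p (2 * k + 1)) e'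
      simp only [Polynomial.coeff_X_mul, Polynomial.coeff_expand (show 0 < 2 by norm_num)] at this
      simpa [show ¬ 2 ∣ 2 * k + 1 by omega] using this
    refine ⟨Ideal.mem_span_singleton.2 ⟨s₁, by rw [e₁, hP, map_zero, add_zero]⟩, ?_⟩
    obtain ⟨s, q, e⟩ : ∃ s q, D x = y * s + Polynomial.aeval x q := split_y (D x)
    obtain ⟨s₃, E, e₃⟩ : ∃ s P, D (x ^ 2) = y * s + Polynomial.aeval (x ^ 2) P := (mem_R_iff _).1 (h (x ^ 2) (Algebra.subset_adjoin (by simp)))
    rw [pow_two, Derivation.leibniz, smul_eq_mul, e, ← pow_two] at e₃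
    have e' := congrArg σ e₃
    simp only [map_add, map_mul, σx, σy, σa, σb, zero_mul, mul_zero, zero_add] at e'
    have hodd : ∀ k, q.coeff (2 * k) = 0 := fun k => by
      have := congrArg (fun p => Polynomial.coeff p (2 * k + 1)) e'
      simp only [Polynomial.coeff_add, Polynomial.coeff_X_mul, Polynomial.coeff_expand (show 0 < 2 by norm_num),
        show ¬ 2 ∣ 2 * k + 1 by omega, if_false] at this
      exact (mul_eq_zero.1 (show (2 : K) * q.coeff (2 * k) = 0 by linear_combination this)).resolve_left (NeZero.ne 2)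
    let p : Polynomial K := (Polynomial.contract 2 (q.divX))
    have hq : q = Polynomial.X * Polynomial.expand K 2 p := by
      ext n
      cases n with
      | zero => simpa using hodd 0
      | succ n =>
        rw [Polynomial.coeff_X_mul, Polynomial.coeff_expand (show 0 < 2 by norm_num)]
        split_ifs with hn
        · obtain ⟨k, rfl⟩ := hn
          simp [p, Polynomial.coeff_contract, Polynomial.coeff_divX, mul_comm]
        · obtain ⟨k, rfl⟩ : ∃ k, n = 2 * k + 1 := ⟨n / 2, by omega⟩
          exact hodd (k + 1)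
    refine ⟨s, p, ?_⟩
    rw [e, hq, map_mul, Polynomial.aeval_X, Polynomial.expand_aeval]
  · rintro ⟨hy, s, p, ex⟩ r hr
    obtain ⟨t, ht⟩ := Ideal.mem_span_singleton.1 hy
    induction hr using Algebra.adjoin_induction with
    | mem z hz =>
      simp only [Set.mem_insert_iff, Set.mem_singleton_iff] at hz
      rw [mem_R_iff]
      rcases hz with rfl | rfl | rfl
      · exact ⟨2 * x * s, 2 * Polynomial.X * p, by rw [pow_two, Derivation.leibniz, smul_eq_mul, ex]; simp [map_ofNat, x, y]; ring⟩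
      · exact ⟨x * t + y * s + x * Polynomial.aeval (x ^ 2) p, 0, by rw [Derivation.leibniz, smul_eq_mul, smul_eq_mul, ex, ht]; simp [x, y]; ring⟩
      · exact ⟨t, 0, by simp [ht, y]⟩
    | algebraMap a => simp
    | add a b _ _ ha hb => rw [map_add]; exact add_mem ha hb
    | mul a b ha' hb' ha hb =>
      rw [Derivation.leibniz, smul_eq_mul, smul_eq_mul]
      exact add_mem (mul_mem ha' hb) (mul_mem hb' ha)

theorem existsUnique_extension :
    letI R : Subalgebra K (MvPolynomial (Fin 2) K) :=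
      Algebra.adjoin K {MvPolynomial.X 0 ^ 2, MvPolynomial.X 0 * MvPolynomial.X 1, MvPolynomial.X 1}
    ∀ δ : Derivation K R (MvPolynomial (Fin 2) K),
      ∃! D : Derivation K (MvPolynomial (Fin 2) K) (MvPolynomial (Fin 2) K),
        ∀ r : R, D (r : MvPolynomial (Fin 2) K) = δ r := by
  set x : MvPolynomial (Fin 2) K := X 0
  set y : MvPolynomial (Fin 2) K := X 1
  set R := Algebra.adjoin K {x ^ 2, x * y, y}
  intro δ
  let X2 : R := ⟨x ^ 2, Algebra.subset_adjoin (by simp)⟩
  let XY : R := ⟨x * y, Algebra.subset_adjoin (by simp)⟩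
  let Y : R := ⟨y, Algebra.subset_adjoin (by simp)⟩
  have hsm : ∀ (r : R) (m : MvPolynomial (Fin 2) K), r • m = (r : MvPolynomial (Fin 2) K) * m := fun r m => rfl
  have hrel : y * (2 * x * δ XY) = y * (y * δ X2 + 2 * x ^ 2 * δ Y) := by
    have h1 : XY * XY = X2 * (Y * Y) := Subtype.ext (show x * y * (x * y) = x ^ 2 * (y * y) by ring)
    have h2 := congrArg δ h1
    simp only [Derivation.leibniz, hsm, MulMemClass.coe_mul] at h2
    change x * y * δ XY + x * y * δ XY = x ^ 2 * (y * δ Y + y * δ Y) + y * y * δ X2 at h2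
    linear_combination h2
  have hy0 : y ≠ 0 := X_ne_zero _
  have hrel' := mul_left_cancel₀ hy0 hrel
  have hx2 : x ∣ δ X2 := by
    have hp : Prime x := MvPolynomial.X_prime
    have hd : x ∣ y * δ X2 := ⟨2 * (δ XY - x * δ Y), by linear_combination -hrel'⟩
    refine (hp.dvd_mul.1 hd).resolve_left fun hxy => ?_
    have := MvPolynomial.X_dvd_X.1 hxy
    exact absurd this (by decide)
  obtain ⟨w, hw⟩ := hx2
  obtain ⟨u2, hu2⟩ := two_unit (K := K)
  set a : MvPolynomial (Fin 2) K := (↑u2⁻¹ : MvPolynomial (Fin 2) K) * w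
  have ha : δ X2 = 2 * x * a := by
    rw [hw, ← hu2]; linear_combination -(x * w) * u2.mul_inv
  have hxy : δ XY = y * a + x * δ Y := by
    refine mul_left_cancel₀ (mul_ne_zero (two_unit (K := K)).ne_zero (X_ne_zero (0 : Fin 2))) ?_
    linear_combination hrel' + y * ha
  let D : Derivation K (MvPolynomial (Fin 2) K) (MvPolynomial (Fin 2) K) := mkDerivation K ![a, δ Y]
  have hDx : D x = a := by simp [D, x]
  have hDy : D y = δ Y := by simp [D, y]
  refine ⟨D, fun r => ?_, fun D' hD' => ?_⟩
  · obtain ⟨r, hr⟩ := r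
    induction hr using Algebra.adjoin_induction with
    | mem z hz =>
      simp only [Set.mem_insert_iff, Set.mem_singleton_iff] at hz
      rcases hz with rfl | rfl | rfl
      · show D (x ^ 2) = δ X2
        rw [pow_two, Derivation.leibniz, smul_eq_mul, hDx, ha]; ring
      · show D (x * y) = δ XY
        rw [Derivation.leibniz, smul_eq_mul, smul_eq_mul, hDx, hDy, hxy]; ring
      · exact hDy
    | algebraMap c =>
      show D (algebraMap K _ c) = δ (algebraMap K R c)
      simp
    | add p q hp hq ihp ihq =>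
      show D (p + q) = δ (⟨p, hp⟩ + ⟨q, hq⟩)
      rw [map_add, map_add]; exact congrArg₂ (· + ·) ihp ihq
    | mul p q hp hq ihp ihq =>
      show D (p * q) = δ (⟨p, hp⟩ * ⟨q, hq⟩)
      rw [Derivation.leibniz, Derivation.leibniz, hsm, hsm, smul_eq_mul, smul_eq_mul]
      exact congrArg₂ (fun s t => p * s + q * t) ihq ihp
  · have ey : D' y = δ Y := hD' Y
    have ex : D' x = a := by
      have h2 : D' (x ^ 2) = δ X2 := hD' X2
      rw [pow_two, Derivation.leibniz, smul_eq_mul, ha] at h2
      exact mul_left_cancel₀ (mul_ne_zero (two_unit (K := K)).ne_zero (X_ne_zero (0 : Fin 2))) (by linear_combination h2)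
    refine MvPolynomial.derivation_ext fun i => ?_
    fin_cases i
    · exact ex.trans hDx.symm
    · exact ey.trans hDy.symm

theorem jacobian (n : ℕ) :
    letI u : MvPolynomial (Fin (n + 3)) K := MvPolynomial.X 0
    letI v : MvPolynomial (Fin (n + 3)) K := MvPolynomial.X 1
    letI w : MvPolynomial (Fin (n + 3)) K := MvPolynomial.X 2
    letI Jac : Ideal (MvPolynomial (Fin (n + 3)) K) :=
      Ideal.span {u ^ 2 - v ^ 2 * w, 2 * u, -(2 * v * w), -(v ^ 2)}
    Ideal.span {u, v} = Jac ⊔ Ideal.span {v} ∧ Jac.colon (Ideal.span {v}) = Ideal.span {u, v, w} := by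
  set u : MvPolynomial (Fin (n + 3)) K := X 0
  set v : MvPolynomial (Fin (n + 3)) K := X 1
  set w : MvPolynomial (Fin (n + 3)) K := X 2
  set Jac : Ideal (MvPolynomial (Fin (n + 3)) K) :=
    Ideal.span {u ^ 2 - v ^ 2 * w, 2 * u, -(2 * v * w), -(v ^ 2)} with hJ
  show Ideal.span {u, v} = Jac ⊔ Ideal.span {v} ∧ Jac.colon (Ideal.span {v}) = Ideal.span {u, v, w}
  obtain ⟨t, ht⟩ : IsUnit (2 : MvPolynomial (Fin (n + 3)) K) := by
    simpa [map_ofNat] using (Ne.isUnit (NeZero.ne (2 : K))).map (C (σ := Fin (n + 3)))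
  have hu : u ∈ Jac := by
    have := Ideal.mul_mem_left Jac (↑t⁻¹ : MvPolynomial (Fin (n + 3)) K) (Ideal.subset_span (by simp) : (2 * u) ∈ Jac)
    rwa [← mul_assoc, ← ht, Units.inv_mul, one_mul] at this
  have hvw : v * w ∈ Jac := by
    have := neg_mem (Ideal.mul_mem_left Jac (↑t⁻¹ : MvPolynomial (Fin (n + 3)) K) (Ideal.subset_span (by simp) : (-(2 * v * w)) ∈ Jac))
    rwa [mul_neg, neg_neg, mul_assoc, ← mul_assoc _ (2 : MvPolynomial (Fin (n + 3)) K), ← ht, Units.inv_mul, one_mul] at this
  have hvv : v ^ 2 ∈ Jac := by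
    simpa using neg_mem (Ideal.subset_span (by simp) : (-(v ^ 2)) ∈ Jac)
  refine ⟨le_antisymm ?_ (sup_le ?_ ?_), ?_⟩
  · rw [Ideal.span_le]
    rintro z (rfl | rfl)
    · exact Ideal.mem_sup_left hu
    · exact Ideal.mem_sup_right (Ideal.mem_span_singleton_self _)
  · rw [hJ, Ideal.span_le]
    rintro z (rfl | rfl | rfl | rfl) <;> rw [SetLike.mem_coe, Ideal.mem_span_pair]
    · exact ⟨u, -(v * w), by ring⟩
    · exact ⟨2, 0, by ring⟩
    · exact ⟨0, -(2 * w), by ring⟩
    · exact ⟨0, -v, by ring⟩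
  · exact Ideal.span_mono (by simp)
  have hv1 : ((1 : Fin (n + 3)) : ℕ) = 1 := rfl
  have hv2 : ((2 : Fin (n + 3)) : ℕ) = 2 := rfl
  have h21 : (2 : Fin (n + 3)) ≠ 1 := fun e => by have := congrArg Fin.val e; omega
  have h01 : (0 : Fin (n + 3)) ≠ 1 := fun e => by have := congrArg Fin.val e; simp [hv1] at this
  have hv2' : 2 % (n + 3) = 2 := Nat.mod_eq_of_lt (by omega)
  let σ : MvPolynomial (Fin (n + 3)) K →ₐ[K] MvPolynomial (Fin (n + 3)) K :=
    aeval fun i => if (i : ℕ) < 3 then 0 else X i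
  have σu : σ u = 0 := by simp [σ, u]
  have σv : σ v = 0 := by simp [σ, v, hv1]
  have σw : σ w = 0 := by simp [σ, w, hv2']
  have hsub : ∀ f, f - σ f ∈ Ideal.span ({u, v, w} : Set (MvPolynomial (Fin (n + 3)) K)) := by
    intro f
    induction f using MvPolynomial.induction_on with
    | C a => simp
    | add p q hp hq =>
      rw [map_add, add_sub_add_comm]; exact add_mem hp hq
    | mul_X p i hp =>
      have hσi : σ (X i) = if (i : ℕ) < 3 then 0 else X i := aeval_X _ i
      rw [map_mul, hσi]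
      split_ifs with hi
      · rw [mul_zero, sub_zero]
        refine Ideal.mul_mem_left _ _ (Ideal.subset_span ?_)
        rcases (show (i : ℕ) = 0 ∨ (i : ℕ) = 1 ∨ (i : ℕ) = 2 by omega) with h | h | h
        · left; exact congrArg X (Fin.ext h)
        · right; left; exact congrArg X (Fin.ext (h.trans hv1.symm))
        · right; right; exact congrArg X (Fin.ext (h.trans hv2.symm))
      · rw [← sub_mul]; exact Ideal.mul_mem_right _ _ hp
  refine le_antisymm (fun f hf => ?_) ?_
  · have hfv : f * v ∈ Jac := by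
      have := Submodule.mem_colon.1 hf v (Ideal.mem_span_singleton_self v)
      simpa using this
    have key : ∀ z ∈ Jac, σ (pderiv 1 z) = 0 := by
      intro z hz
      refine Submodule.span_induction ?_ (by simp) (fun a b _ _ ha hb => by rw [map_add, map_add, ha, hb, add_zero])
        (fun c a ha' ha => ?_) hz
      · rintro a (rfl | rfl | rfl | rfl) <;>
          simp [pderiv_X, pderiv_mul, u, v, w, Derivation.leibniz, Pi.single_apply, σ, hv1, hv2', h21, h21.symm, h01, h01.symm, map_ofNat]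
      · have h0 : σ a = 0 := by
          have hle : Jac ≤ RingHom.ker σ.toRingHom := by
            rw [hJ, Ideal.span_le]
            rintro b (rfl | rfl | rfl | rfl) <;> simp [RingHom.mem_ker, σu, σv, σw]
          exact hle ha'
        rw [smul_eq_mul, pderiv_mul, map_add, map_mul, map_mul, ha, h0, mul_zero, mul_zero, add_zero]
    have h1 := key _ hfv
    rw [pderiv_mul, pderiv_X_self, map_add, map_mul, map_mul, σv, mul_zero, zero_add, map_one, mul_one] at h1
    have := hsub f
    rwa [h1, sub_zero] at this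
  · rw [Ideal.span_le]
    rintro z (rfl | rfl | rfl) <;> rw [SetLike.mem_coe, Submodule.mem_colon] <;> intro a ha <;>
      obtain ⟨c, rfl⟩ := Ideal.mem_span_singleton.1 ha <;> rw [smul_eq_mul]
    · exact Ideal.mul_mem_right _ _ hu
    · rw [← mul_assoc, ← pow_two]; exact Ideal.mul_mem_right _ _ hvv
    · rw [← mul_assoc, mul_comm w v]; exact Ideal.mul_mem_right _ _ hvw

end Groth.Agent.H28Pinch
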