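import Groth.Agent.H28Pinch.RingedChart
import Groth.Agent.H8Props.FlatKernel

/-!
# Flatness of pushouts of ringed spaces
-/

set_option autoImplicit false
set_option linter.style.haveILetI false

universe u

open CategoryTheory AlgebraicGeometry Limits TopologicalSpace Opposite

namespace Groth.Agent.H28Pinch

open H7Flat

variable {S X Z Z' X' : Scheme.{u}} {ι : Z ⟶ X} {q : Z ⟶ Z'} {π : X ⟶ X'} {ι' : Z' ⟶ X'}

theorem flat_of_ringSq {R₀ R A' B A : Type u} [CommRing R₀] [CommRing R] [CommRing A'] [CommRing B]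
    [CommRing A] {pa : R →+* A'} {pb : R →+* B} {p : A' →+* A} {q : B →+* A}
    (h : RingSq pa pb p q) (φ : R₀ →+* R) (ha : (pa.comp φ).Flat) (hb : (pb.comp φ).Flat)
    (hA : ((p.comp pa).comp φ).Flat) : φ.Flat := by
  letI := φ.toAlgebra
  letI := (pa.comp φ).toAlgebra
  letI := (pb.comp φ).toAlgebra
  letI := ((p.comp pa).comp φ).toAlgebra
  let paL : R →ₐ[R₀] A' := ⟨pa, fun _ => rfl⟩
  let pbL : R →ₐ[R₀] B := ⟨pb, fun _ => rfl⟩
  let pL : A' →ₐ[R₀] A := ⟨p, fun _ => rfl⟩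
  let qL : B →ₐ[R₀] A := ⟨q, fun r => (h.comm (φ r)).symm⟩
  haveI : Module.Flat R₀ A' := ha
  haveI : Module.Flat R₀ B := hb
  haveI : Module.Flat R₀ A := hA
  show Module.Flat R₀ R
  refine H8Props.flat_of_exact (paL.toLinearMap.prod pbL.toLinearMap)
    (pL.toLinearMap ∘ₗ LinearMap.fst R₀ A' B - qL.toLinearMap ∘ₗ LinearMap.snd R₀ A' B)
    (fun r r' e => h.ext r r' (congrArg Prod.fst e) (congrArg Prod.snd e)) (fun z => ?_) fun x => ?_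
  · constructor
    · intro hz
      obtain ⟨r, h1, h2⟩ := h.exists_lift z.1 z.2 (sub_eq_zero.mp hz)
      exact ⟨r, Prod.ext h1 h2⟩
    · rintro ⟨r, rfl⟩
      exact sub_eq_zero.mpr (h.comm r)
  · obtain ⟨y, hy⟩ := h.surj x
    exact ⟨(y, 0), by simp [pL, qL, hy]⟩

/-- The ring maps from the base into a chart. -/
theorem chartOfPushout_over [IsClosedImmersion ι] [IsAffineHom π] [IsAffineHom ι']
    (hpo : IsPushout (toRS.map ι) (toRS.map q) (toRS.map π) (toRS.map ι'))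
    (fX' : X' ⟶ S) {W : S.Opens} (V : X'.Opens) (hV : IsAffineOpen V) (hVW : V ≤ fX' ⁻¹ᵁ W) :
    ∃ (φ : Γ(S, W) →+* (chartOfPushout hpo V hV).R)
      (eX : π ⁻¹ᵁ V ≤ (π ≫ fX') ⁻¹ᵁ W) (eT : ι' ⁻¹ᵁ V ≤ (ι' ≫ fX') ⁻¹ᵁ W)
      (eZ : ι ⁻¹ᵁ π ⁻¹ᵁ V ≤ (ι ≫ π ≫ fX') ⁻¹ᵁ W),
      φ = (fX'.appLE W V hVW).hom ∧
      (chartOfPushout hpo V hV).pa.comp φ = ((π ≫ fX').appLE W (π ⁻¹ᵁ V) eX).hom ∧
      (chartOfPushout hpo V hV).pb.comp φ = ((ι' ≫ fX').appLE W (ι' ⁻¹ᵁ V) eT).hom ∧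
      ((chartOfPushout hpo V hV).p.comp (chartOfPushout hpo V hV).pa).comp φ =
        ((ι ≫ π ≫ fX').appLE W (ι ⁻¹ᵁ π ⁻¹ᵁ V) eZ).hom := by
  refine ⟨(fX'.appLE W V hVW).hom, fun x hx => hVW hx, fun x hx => hVW hx, fun x hx => hVW hx,
    rfl, ?_, ?_, ?_⟩
  · show (π.app V).hom.comp (fX'.appLE W V hVW).hom = _
    rw [← CommRingCat.hom_comp, ← π.appLE_eq_app, Scheme.Hom.appLE_comp_appLE]
  · show (ι'.app V).hom.comp (fX'.appLE W V hVW).hom = _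
    rw [← CommRingCat.hom_comp, ← ι'.appLE_eq_app, Scheme.Hom.appLE_comp_appLE]
  · show ((ι.appLE (π ⁻¹ᵁ V) (ι ⁻¹ᵁ π ⁻¹ᵁ V) le_rfl).hom.comp (π.app V).hom).comp
      (fX'.appLE W V hVW).hom = _
    rw [← CommRingCat.hom_comp, ← CommRingCat.hom_comp, ← π.appLE_eq_app,
      Scheme.Hom.appLE_comp_appLE, Scheme.Hom.appLE_comp_appLE]
    simp only [Category.assoc]

theorem flat_of_isPushout_rs [IsClosedImmersion ι] [IsAffineHom π] [IsAffineHom ι']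
    (fX : X ⟶ S) (fZ' : Z' ⟶ S) (fX' : X' ⟶ S) (hπ : π ≫ fX' = fX) (hι' : ι' ≫ fX' = fZ')
    (hpo : IsPushout (toRS.map ι) (toRS.map q) (toRS.map π) (toRS.map ι'))
    [Flat fX] [Flat (ι ≫ fX)] [Flat fZ'] : Flat fX' := by
  subst hπ hι'
  rw [HasRingHomProperty.iff_appLE (P := @Flat)]
  intro W V hle
  obtain ⟨φ, eX, eT, eZ, rfl, ha, hb, hA⟩ := chartOfPushout_over hpo fX' V.1 V.2 hle
  refine flat_of_ringSq (chartOfPushout hpo V.1 V.2).sq _ ?_ ?_ ?_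
  · rw [ha]; exact HasRingHomProperty.appLE (P := @Flat) _ inferInstance W ⟨_, V.2.preimage π⟩ eX
  · rw [hb]; exact HasRingHomProperty.appLE (P := @Flat) _ inferInstance W ⟨_, V.2.preimage ι'⟩ eT
  · rw [hA]
    exact HasRingHomProperty.appLE (P := @Flat) _ inferInstance W
      ⟨_, (V.2.preimage π).preimage ι⟩ eZ

end Groth.Agent.H28Pinch
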