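-- sections of a pushout of ringed spaces
import Mathlib.Geometry.RingedSpace.PresheafedSpace.HasColimits
import Mathlib.Geometry.RingedSpace.SheafedSpace
import Mathlib.Algebra.Category.Ring.Limits
import Mathlib.Algebra.Category.Ring.Colimits
import Mathlib.Algebra.Category.Ring.FilteredColimits
import Mathlib.CategoryTheory.Limits.Preserves.Shapes.Pullbacks
import Mathlib.CategoryTheory.Limits.Shapes.Pullback.IsPullback.Basic
import Mathlib.Algebra.Polynomial.AlgebraMap

set_option autoImplicit false

universe u

open CategoryTheory Limits TopologicalSpace Opposite AlgebraicGeometry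

namespace Groth.Agent.H28Pinch

variable {X Y Z P : PresheafedSpace.{u, u+1, u} CommRingCat.{u}} (f : Z ⟶ X) (g : Z ⟶ Y)

theorem section_ext_colimit (U : Opens (pushout f g).carrier)
    (s s' : (pushout f g).presheaf.obj (op U))
    (h₁ : (pushout.inl f g).c.app (op U) s = (pushout.inl f g).c.app (op U) s')
    (h₂ : (pushout.inr f g).c.app (op U) s = (pushout.inr f g).c.app (op U) s') : s = s' := by
  apply (ConcreteCategory.bijective_of_isIso
    (PresheafedSpace.colimitPresheafObjIsoComponentwiseLimit (span f g) U).hom).1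
  apply Concrete.limit_ext
  intro j
  rw [← CommRingCat.comp_apply, ← CommRingCat.comp_apply,
    PresheafedSpace.colimitPresheafObjIsoComponentwiseLimit_hom_π]
  obtain ⟨j⟩ := j
  rcases j with _ | _ | _
  · have e : colimit.ι (span f g) WalkingSpan.zero = f ≫ pushout.inl f g :=
      (colimit.w (span f g) WalkingSpan.Hom.fst).symm
    rw [PresheafedSpace.congr_app e, PresheafedSpace.comp_c_app]
    exact congrArg (fun z => Z.presheaf.map _ (f.c.app _ z)) h₁
  · exact h₁
  · exact h₂

theorem map_map_eq {W : PresheafedSpace.{u, u+1, u} CommRingCat.{u}} {A B C : (Opens W.carrier)ᵒᵖ}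
    (a : A ⟶ B) (b : B ⟶ C) (c : A ⟶ C) (z : W.presheaf.obj A) :
    W.presheaf.map b (W.presheaf.map a z) = W.presheaf.map c z := by
  rw [← CommRingCat.comp_apply, ← Functor.map_comp, Subsingleton.elim (a ≫ b) c]

theorem exists_section_colimit (U : Opens (pushout f g).carrier)
    (x : X.presheaf.obj (op ((Opens.map (pushout.inl f g).base).obj U)))
    (y : Y.presheaf.obj (op ((Opens.map (pushout.inr f g).base).obj U)))
    (e : (Opens.map f.base).obj ((Opens.map (pushout.inl f g).base).obj U) =
      (Opens.map g.base).obj ((Opens.map (pushout.inr f g).base).obj U))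
    (h : Z.presheaf.map (eqToHom e.symm).op (f.c.app _ x) = g.c.app _ y) :
    ∃ s : (pushout f g).presheaf.obj (op U),
      (pushout.inl f g).c.app (op U) s = x ∧ (pushout.inr f g).c.app (op U) s = y := by
  let K := CommRingCat.of (Polynomial (ULift.{u} ℤ))
  let D := PresheafedSpace.componentwiseDiagram (span f g) U
  let ev : ∀ {R : CommRingCat.{u}}, R → (K ⟶ R) := fun {R} r =>
    CommRingCat.ofHom (Polynomial.eval₂RingHom ((Int.castRingHom R).comp ULift.ringEquiv.toRingHom) r)
  have evX : ∀ {R : CommRingCat.{u}} (r : R), ev r Polynomial.X = r := fun r =>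
    Polynomial.eval₂_X _ _
  have evext : ∀ {R : CommRingCat.{u}} (φ ψ : K ⟶ R), φ Polynomial.X = ψ Polynomial.X → φ = ψ :=
    fun {R} φ ψ hφ => CommRingCat.hom_ext (Polynomial.ringHom_ext (fun a => by
      obtain ⟨n⟩ := a
      exact (map_intCast (φ.hom.comp (Polynomial.C.comp ULift.ringEquiv.symm.toRingHom)) n).trans
        (map_intCast (ψ.hom.comp (Polynomial.C.comp ULift.ringEquiv.symm.toRingHom)) n).symm) hφ)
  have key : ev x ≫ D.map (WalkingSpan.Hom.fst.op) = ev y ≫ D.map (WalkingSpan.Hom.snd.op) := by
    apply evext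
    change Z.presheaf.map _ (f.c.app _ (ev x Polynomial.X)) =
      Z.presheaf.map _ (g.c.app _ (ev y Polynomial.X))
    rw [evX, evX]
    rw [← h]
    exact (map_map_eq _ _ _ _).symm
  let c : Cone D :=
    { pt := K
      π :=
        { app := fun j => match j with
            | ⟨none⟩ => ev x ≫ D.map (WalkingSpan.Hom.fst.op)
            | ⟨some WalkingPair.left⟩ => ev x
            | ⟨some WalkingPair.right⟩ => ev y
          naturality := fun j k φ => by
            obtain ⟨j⟩ := j
            obtain ⟨k⟩ := k
            obtain ⟨φ⟩ := φ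
            rcases φ with _ | j'
            · change 𝟙 K ≫ _ = _ ≫ D.map (𝟙 (op j))
              rw [D.map_id, Category.comp_id, Category.id_comp]
            · rcases j' with _ | _
              · exact Category.id_comp _
              · exact (Category.id_comp _).trans key } }
  let i := PresheafedSpace.colimitPresheafObjIsoComponentwiseLimit (span f g) U
  refine ⟨i.inv (limit.lift D c Polynomial.X), ?_, ?_⟩
  · rw [← CommRingCat.comp_apply]
    rw [show i.inv ≫ (pushout.inl f g).c.app (op U) = limit.π D (op WalkingSpan.left) from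
      PresheafedSpace.colimitPresheafObjIsoComponentwiseLimit_inv_ι_app _ _ _]
    refine Eq.trans (congrArg (fun φ : K ⟶ _ => φ Polynomial.X) (limit.lift_π c (op WalkingSpan.left))) ?_
    exact evX x
  · rw [← CommRingCat.comp_apply]
    rw [show i.inv ≫ (pushout.inr f g).c.app (op U) = limit.π D (op WalkingSpan.right) from
      PresheafedSpace.colimitPresheafObjIsoComponentwiseLimit_inv_ι_app _ _ _]
    refine Eq.trans (congrArg (fun φ : K ⟶ _ => φ Polynomial.X) (limit.lift_π c (op WalkingSpan.right))) ?_
    exact evX y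

variable {f g} {inl : X ⟶ P} {inr : Y ⟶ P}

instance hasPushout_presheafedSpace : HasPushout f g :=
  haveI : HasColimitsOfSize.{u, u} (PresheafedSpace.{u, u+1, u} CommRingCat.{u}) := inferInstance
  inferInstance

theorem sections_of_isPushout (hP : IsPushout f g inl inr) (V : Opens P.carrier)
    (e : (Opens.map f.base).obj ((Opens.map inl.base).obj V) =
      (Opens.map g.base).obj ((Opens.map inr.base).obj V)) :
    (∀ s s' : P.presheaf.obj (op V), inl.c.app (op V) s = inl.c.app (op V) s' →
      inr.c.app (op V) s = inr.c.app (op V) s' → s = s') ∧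
    ∀ x y, Z.presheaf.map (eqToHom e.symm).op (f.c.app _ x) = g.c.app _ y →
      ∃ s : P.presheaf.obj (op V), inl.c.app (op V) s = x ∧ inr.c.app (op V) s = y := by
  obtain ⟨E, hl, hr⟩ : ∃ E : pushout f g ≅ P, pushout.inl f g ≫ E.hom = inl ∧
      pushout.inr f g ≫ E.hom = inr :=
    ⟨hP.isoPushout.symm, hP.inl_isoPushout_inv, hP.inr_isoPushout_inv⟩
  subst hl hr
  haveI : IsIso E.hom.c := PresheafedSpace.c_isIso_of_iso E.hom
  have : IsIso (E.hom.c.app (op V)) := NatIso.isIso_app_of_isIso E.hom.c (op V)
  refine ⟨fun s s' h₁ h₂ => ?_, fun x y h => ?_⟩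
  · apply (ConcreteCategory.bijective_of_isIso (E.hom.c.app (op V))).1
    exact section_ext_colimit f g ((Opens.map E.hom.base).obj V) _ _ h₁ h₂
  · obtain ⟨s, h₁, h₂⟩ := exists_section_colimit f g ((Opens.map E.hom.base).obj V) x y e h
    obtain ⟨s', rfl⟩ := (ConcreteCategory.bijective_of_isIso (E.hom.c.app (op V))).2 s
    exact ⟨s', h₁, h₂⟩

end Groth.Agent.H28Pinch
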